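import Groth.Agent.L14.RankOne.WeightMono
import Groth.Agent.L25.RankOne.Pts
import Groth.Agent.L25.SplitSub.Greatest
import Groth.Agent.L25.TorLift.Central
import Groth.Agent.L01.Unip.Affine

/-!
Homomorphisms of rank one systems which are a `q`-th power on the coroot or on the root groups.
-/

set_option autoImplicit false
universe u

open CategoryTheory CategoryTheory.Limits MonoidalCategory CartesianMonoidalCategory MonObj AlgebraicGeometry
open Groth.L25


set_option backward.isDefEq.respectTransparency.types false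

noncomputable section

namespace Groth.L14.RankOne

set_option synthInstance.maxHeartbeats 100000
set_option maxHeartbeats 1000000

variable {S : Scheme.{u}}

theorem isCommMonObj_gm : IsCommMonObj (Red.Gm S) := by
  constructor
  have h : fst (Red.Gm S) (Red.Gm S) * snd _ _ = snd _ _ * fst _ _ := by
    refine GmPts.gmFn_injective ?_
    show Red.gmFn _ = Red.gmFn _
    rw [GmPts.gmFn_mul, GmPts.gmFn_mul, _root_.mul_comm]
  rw [Hom.mul_def, Hom.mul_def, lift_fst_snd, Category.id_comp] at h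
  rw [show (β_ (Red.Gm S) (Red.Gm S)).hom = lift (snd _ _) (fst _ _) by ext <;> simp, ← h]

theorem isTorus_gm : Red.IsTorus (Red.Gm S) := by
  let e : ℤ ≃+ (Fin 1 → ℤ) := (LinearEquiv.funUnique (Fin 1) ℤ ℤ).symm.toAddEquiv
  haveI : IsMonHom (SplitSub.mapIso (S := S) e).hom := Groth.L25.TorusTorsion.isMonHom_DSmap S _
  exact TorLift.isTorus_of_iso (Grp.mkIso' (SplitSub.mapIso e)) (Groth.L01.Unip.isTorus_DS S 1)

theorem square_ne_one (s : S) : (Over.pullback (Red.geomPt s)).map ((𝟙 (Red.Gm S)) ^ 2) ≠ 1 := by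
  intro h
  haveI : IsMonHom ((𝟙 (Red.Gm S)) ^ 2) := Groth.L25.Bridge.isMonHom_of_mul ((𝟙 (Red.Gm S)) ^ 2) fun Y a b => by
    refine GmPts.gmFn_injective ?_
    show Red.gmFn _ = Red.gmFn _
    simp only [pow_two, MonObj.comp_mul, Category.comp_id, GmPts.gmFn_mul]
    ring
  rw [← TrivLocus.triv_iff_map] at h
  let K := AlgebraicClosure (S.residueField s)
  classical
  obtain ⟨u, hu⟩ := Infinite.exists_notMem_finset ({0, 1, -1} : Finset K)
  simp only [Finset.mem_insert, Finset.mem_singleton, not_or] at hu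
  have h1 := h (Sp (Red.geomPt s) K) (self (Red.geomPt s)).hom (up (Red.geomPt s) (Units.mk0 u hu.1))
  rw [pow_two, MonObj.comp_mul, Category.comp_id, ← up_mul, ← up_one] at h1
  have h2 := congrArg uv h1
  rw [uv_up, uv_up] at h2
  have h3 := congrArg Units.val h2
  rw [Units.val_mul, Units.val_mk0, Units.val_one] at h3
  rcases mul_self_eq_one_iff.1 h3 with h4 | h4
  exacts [hu.2.1 h4, hu.2.2 h4]

section swap

variable {G T : Over S} [GrpObj G] [GrpObj T] {i : T ⟶ G} [IsMonHom i]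
  {pp pm : Red.Ga S ⟶ G} [IsMonHom pp] [IsMonHom pm]

/-- The big cell of the opposite pair is the inverse of the big cell. -/
theorem isOpenImmersion_cell_swap (h : IsOpenImmersion (cell i pp pm).left) :
    IsOpenImmersion (cell i pm pp).left := by
  let D := (Red.Ga S ⊗ T) ⊗ Red.Ga S
  let e : D ⟶ D := lift (lift (snd _ _)⁻¹ (fst _ _ ≫ snd _ _)⁻¹) (fst _ _ ≫ fst _ _)⁻¹
  have hinv : ∀ {H : Over S} [GrpObj H] (v : D ⟶ H), (e ≫ v⁻¹) = (e ≫ v)⁻¹ := fun v => GrpObj.comp_inv e v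
  have he : e ≫ e = 𝟙 D := by
    ext1
    · ext1
      · simp only [e, Category.assoc, lift_fst, Category.id_comp]
        rw [hinv, lift_snd]
        exact @_root_.inv_inv (D ⟶ Red.Ga S) _ _
      · simp only [e, Category.assoc, lift_fst, lift_snd, Category.id_comp]
        rw [hinv, lift_fst_assoc, lift_snd]
        exact @_root_.inv_inv (D ⟶ T) _ _
    · simp only [e, Category.assoc, lift_snd, Category.id_comp]
      rw [hinv, lift_fst_assoc, lift_fst]
      exact @_root_.inv_inv (D ⟶ Red.Ga S) _ _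
  haveI : IsIso e := ⟨e, he, he⟩
  haveI : IsIso e.left := inferInstanceAs (IsIso ((Over.forget S).map e))
  haveI : IsIso (ι[G]).left := inferInstanceAs (IsIso ((Over.forget S).map ι[G]))
  have key : cell i pm pp = (e ≫ cell i pp pm) ≫ ι[G] := by
    have hD : 𝟙 D = lift (lift (fst _ _ ≫ fst _ _) (fst _ _ ≫ snd _ _)) (snd _ _) := by
      ext1
      · ext1 <;> simp [D, Category.id_comp]
      · simp [D, Category.id_comp]
    rw [← Category.id_comp (cell i pm pp), hD, lift_cell, lift_cell, ← Hom.inv_def, GrpObj.inv_comp,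
      GrpObj.inv_comp, GrpObj.inv_comp, mul_inv_rev, mul_inv_rev, inv_inv, inv_inv, inv_inv, ← _root_.mul_assoc]
  rw [key, Over.comp_left, Over.comp_left]
  infer_instance

end swap

theorem neg_pow_of_add {A : Type u} [CommRing A] {q : ℕ} (hq0 : 0 < q)
    (hq : ∀ a b : A, (a + b) ^ q = a ^ q + b ^ q) (a : A) : (-a) ^ q = -a ^ q := by
  have h := hq a (-a)
  rw [add_neg_cancel, zero_pow hq0.ne'] at h
  linear_combination -h

theorem sub_pow_of_add {A : Type u} [CommRing A] {q : ℕ} (hq0 : 0 < q)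
    (hq : ∀ a b : A, (a + b) ^ q = a ^ q + b ^ q) (a b : A) : (a - b) ^ q = a ^ q - b ^ q := by
  rw [sub_eq_add_neg, hq, neg_pow_of_add hq0 hq, ← sub_eq_add_neg]

theorem ptOfUnit_pow {X : Over S} (v : (Γ(X.left, ⊤))ˣ) (q : ℕ) :
    (GmPts.ptOfUnit (v ^ q) : X ⟶ Red.Gm S) = GmPts.ptOfUnit v ^ q :=
  map_pow (GmPts.equiv X).symm v q

variable {G T G' T' : Over S} [GrpObj G] [GrpObj T] [GrpObj G'] [GrpObj T']
  {i : T ⟶ G} [IsMonHom i] {α : T ⟶ Red.Gm S} [IsMonHom α]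
  {pp pm : Red.Ga S ⟶ G} [IsMonHom pp] [IsMonHom pm] {av : Red.Gm S ⟶ T} [IsMonHom av]
  {i' : T' ⟶ G'} [IsMonHom i'] {α' : T' ⟶ Red.Gm S} [IsMonHom α']
  {pp' pm' : Red.Ga S ⟶ G'} [IsMonHom pp'] [IsMonHom pm'] {av' : Red.Gm S ⟶ T'} [IsMonHom av']
  {q : ℕ} {F : G ⟶ G'} [IsMonHom F]

open Groth.L25.RankOne

/-- `F` maps the coroot to the `q`-th power of the coroot. -/
def OnCoroot (i : T ⟶ G) (av : Red.Gm S ⟶ T) (i' : T' ⟶ G') (av' : Red.Gm S ⟶ T') (F : G ⟶ G') (q : ℕ) : Prop :=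
  ∀ (X : Over S) (z : X ⟶ Red.Gm S), (z ≫ av ≫ i) ≫ F = ((z ≫ av') ^ q) ≫ i'

/-- `F` maps `p` to the `q`-th power of `p'` rescaled by `m`. -/
def OnRoot (p : Red.Ga S ⟶ G) (p' : Red.Ga S ⟶ G') (F : G ⟶ G') (q : ℕ) (m : 𝟙_ (Over S) ⟶ Red.Ga S) : Prop :=
  ∀ (X : Over S) (x y : X ⟶ Red.Ga S), Red.gaFn y = Red.gaFn (toUnit X ≫ m) * Red.gaFn x ^ q →
    (x ≫ p) ≫ F = y ≫ p'

theorem OnRoot.apply {p : Red.Ga S ⟶ G} {p' : Red.Ga S ⟶ G'} {m : 𝟙_ (Over S) ⟶ Red.Ga S}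
    (h : OnRoot p p' F q m) {X : Over S} (r : Γ(X.left, ⊤)) :
    (GaPts.ptOfElt r ≫ p) ≫ F = GaPts.ptOfElt (Red.gaFn (toUnit X ≫ m) * r ^ q) ≫ p' :=
  h X _ _ (by rw [GaPts.gaFn_ptOfElt, GaPts.gaFn_ptOfElt])

variable (H : Sys i α pp pm av) (H' : Sys i' α' pp' pm' av')

include H in
theorem OnCoroot.apply (hi : OnCoroot i av i' av' F q) {X : Over S} (z : (Γ(X.left, ⊤))ˣ) :
    (rel H X).h z ≫ F = (rel H' X).h (z ^ q) := by
  show (GmPts.ptOfUnit z ≫ av ≫ i) ≫ F = GmPts.ptOfUnit (z ^ q) ≫ av' ≫ i'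
  rw [hi, ptOfUnit_pow, ← Category.assoc, MonObj.pow_comp _ _ av']

include H H' in
/-- A homomorphism of weight `q` on the root group. -/
theorem exists_onRoot (hT' : Red.IsTorus T') (hcell : IsOpenImmersion (cell i' pp' pm').left)
    (hi : OnCoroot i av i' av' F q) :
    ∃ m : 𝟙_ (Over S) ⟶ Red.Ga S, OnRoot pp pp' F q m := by
  have := isSeparated_torus hT'
  haveI := hcell
  have W : Weighted (i := i') α' (pp := pp') (pm := pm') (pp ≫ F) q (Red.Gm S) av' := by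
    refine weighted_of_torus hT' av' isTorus_gm (fun s => by rw [H'.h2]; exact square_ne_one s) H'.hpp H'.hpm _ q
      fun X t x x' hx => ?_
    obtain ⟨x₁, h1, h2⟩ := H.hpp X (t ≫ av) x
    have : x' = x₁ := GaPts.gaFn_injective (hx.trans (show _ = Red.gaFn x₁ by
      rw [h2, Category.assoc, H.h2, H'.h2]))
    rw [this, ← Category.assoc, h1, MonObj.mul_comp, MonObj.mul_comp, GrpObj.inv_comp, Category.assoc t av i, hi X t,
      Category.assoc x pp F, MonObj.pow_comp, Category.assoc]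
  obtain ⟨m, hm, -⟩ := W.existsUnique
  exact ⟨m, fun X x y hy => (Category.assoc _ _ _).trans (hm X x y hy)⟩

omit [IsMonHom α] [IsMonHom α'] in
theorem coeff_eq_zero {R : Type u} [CommRing R] (hq0 : 0 < q) {a b : R}
    (h : AdjoinRoot.of ((Polynomial.X : Polynomial R) ^ (2 * q + 1)) a * AdjoinRoot.root _ ^ q +
      AdjoinRoot.of _ b * AdjoinRoot.root _ ^ (2 * q) = 0) : a = 0 ∧ b = 0 := by
  have h' : AdjoinRoot.mk ((Polynomial.X : Polynomial R) ^ (2 * q + 1))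
      (Polynomial.C a * Polynomial.X ^ q + Polynomial.C b * Polynomial.X ^ (2 * q)) = 0 := by
    simpa only [map_add, map_mul, map_pow, AdjoinRoot.mk_C, AdjoinRoot.mk_X] using h
  rw [AdjoinRoot.mk_eq_zero, Polynomial.X_pow_dvd_iff] at h'
  have ha := h' q (by omega)
  have hb := h' (2 * q) (by omega)
  simp only [Polynomial.coeff_add, Polynomial.coeff_C_mul_X_pow] at ha hb
  simp [show q ≠ 2 * q by omega, show 2 * q ≠ q by omega] at ha hb
  exact ⟨ha, hb⟩

include H H' in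
/-- The two scalars are inverse to each other. -/
theorem OnRoot.mul_eq_one (hcell : IsOpenImmersion (cell i' pp' pm').left) (hq0 : 0 < q)
    (hq : ∀ (X : Over S) (a b : Γ(X.left, ⊤)), (a + b) ^ q = a ^ q + b ^ q)
    {m n : 𝟙_ (Over S) ⟶ Red.Ga S} (hm : OnRoot pp pp' F q m) (hn : OnRoot pm pm' F q n)
    (hi : OnCoroot i av i' av' F q) : Red.gaFn m * Red.gaFn n = 1 := by
  haveI := hcell
  rw [← GaPts.gaFn_ptOfElt (T := 𝟙_ (Over S)) (Red.gaFn m * Red.gaFn n),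
    ← GaPts.gaFn_ptOfElt (T := 𝟙_ (Over S)) 1]
  congr 1
  refine hom_ext_affine fun R _ j t => ?_
  obtain rfl : t = toUnit _ := toUnit_unique _ _
  let P : Polynomial R := Polynomial.X ^ (2 * q + 1)
  let C := AdjoinRoot P
  let ε : C := AdjoinRoot.root P
  have hε : ε ^ (2 * q + 1) = 0 := by
    show AdjoinRoot.root P ^ (2 * q + 1) = 0
    rw [← AdjoinRoot.mk_X, ← map_pow, AdjoinRoot.mk_self]
  let X : Over S := Sp j C
  let γ : C →+* Γ(X.left, ⊤) := (Scheme.ΓSpecIso (CommRingCat.of C)).inv.hom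
  have hγ : Function.Injective γ := fun a b hab => by
    have h1 := congrArg (fun v => (Scheme.ΓSpecIso (CommRingCat.of C)).hom v) hab
    simpa only [γ, Iso.inv_hom_id_apply] using h1
  let R₀ : Γ((Over.mk j).left, ⊤) →+* R := (Scheme.ΓSpecIso (CommRingCat.of R)).hom.hom
  let a : R := R₀ (Red.gaFn (toUnit (Over.mk j) ≫ m))
  let b : R := R₀ (Red.gaFn (toUnit (Over.mk j) ≫ n))
  let e : Over.mk (Spec.map (CommRingCat.ofHom (algebraMap R C)) ≫ j) ⟶ Over.mk j :=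
    Over.homMk (Spec.map (CommRingCat.ofHom (algebraMap R C))) rfl
  have hval : ∀ v : 𝟙_ (Over S) ⟶ Red.Ga S,
      Red.gaFn (toUnit X ≫ v) = γ (AdjoinRoot.of P (R₀ (Red.gaFn (toUnit (Over.mk j) ≫ v)))) := fun v => by
    have h1 : toUnit X ≫ v = e ≫ toUnit (Over.mk j) ≫ v := by
      rw [← Category.assoc, toUnit_unique (e ≫ toUnit (Over.mk j)) (toUnit X)]
    rw [h1, GaPts.gaFn_comp]
    show (Spec.map (CommRingCat.ofHom (algebraMap R C))).appTop (Red.gaFn (toUnit (Over.mk j) ≫ v)) = _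
    conv_lhs => rw [← Iso.hom_inv_id_apply (Scheme.ΓSpecIso (CommRingCat.of R)) (Red.gaFn (toUnit (Over.mk j) ≫ v))]
    exact (congrArg (fun φ : CommRingCat.of R ⟶ _ => φ.hom (R₀ (Red.gaFn (toUnit (Over.mk j) ≫ v))))
      (Scheme.ΓSpecIso_inv_naturality (CommRingCat.ofHom (algebraMap R C)))).symm
  let ma : Γ(X.left, ⊤) := Red.gaFn (toUnit X ≫ m)
  let nb : Γ(X.left, ⊤) := Red.gaFn (toUnit X ≫ n)
  let δ : Γ(X.left, ⊤) := γ ε
  have hδ : δ ^ (2 * q + 1) = 0 := by simp only [δ, ← map_pow, hε, map_zero]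
  obtain ⟨z, hz⟩ := (IsNilpotent.isUnit_one_add ⟨_, hδ⟩ : IsUnit (1 + δ))
  let E : Γ(X.left, ⊤) := δ ^ q
  have hE3 : E ^ 3 = 0 := by
    rw [← pow_mul, show q * 3 = (2 * q + 1) + (q - 1) by omega, pow_add, hδ, zero_mul]
  obtain ⟨U, hU⟩ := (IsNilpotent.isUnit_one_add ⟨3, by rw [mul_pow, hE3, mul_zero]⟩ : IsUnit (1 + ma * nb * E))
  let Z : (Γ(X.left, ⊤))ˣ := z ^ q
  have hZ : (Z : Γ(X.left, ⊤)) = 1 + E := by rw [Units.val_pow_eq_pow_val, hz, hq, one_pow]
  have key := congrArg (· ≫ F) ((rel H X).h_eq_prod z)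
  simp only [MonObj.mul_comp, hi.apply H H'] at key
  change _ * ((GaPts.ptOfElt (1 : Γ(X.left, ⊤)) ≫ pp) ≫ F) * _ * _ = (rel H' X).h Z at key
  rw [hm.apply, one_pow, _root_.mul_one] at key
  change ((GaPts.ptOfElt _ ≫ pm) ≫ F) * _ * ((GaPts.ptOfElt _ ≫ pm) ≫ F) * ((GaPts.ptOfElt _ ≫ pp) ≫ F) = _ at key
  rw [hn.apply, hn.apply, hm.apply] at key
  have key' : (rel H' X).b (nb * ((↑z⁻¹ : Γ(X.left, ⊤)) - 1) ^ q) * (rel H' X).a ma *
      (rel H' X).b (nb * ((z : Γ(X.left, ⊤)) - 1) ^ q) * (rel H' X).a (ma * (-↑z⁻¹) ^ q) = (rel H' X).h Z := key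
  rw [_root_.mul_assoc ((rel H' X).b _) ((rel H' X).a ma), (rel H' X).comm ma _ U (by
    rw [hU, hz, add_sub_cancel_left]; ring), ← _root_.mul_assoc, ← _root_.mul_assoc, ← (rel H' X).b_add,
    _root_.mul_assoc _ ((rel H' X).a _), ← (rel H' X).a_add] at key'
  have key'' := key'.trans (show (rel H' X).h Z = (rel H' X).b 0 * (rel H' X).h Z * (rel H' X).a 0 by
    rw [(rel H' X).a_zero, (rel H' X).b_zero, _root_.mul_one, _root_.one_mul])
  change (_ ≫ pm') * (_ ≫ av' ≫ i') * (_ ≫ pp') = (_ ≫ pm') * (_ ≫ av' ≫ i') * (_ ≫ pp') at key''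
  rw [← Category.assoc _ av' i', ← Category.assoc _ av' i'] at key''
  obtain ⟨-, ht, hA⟩ := decomp_unique key''
  have hA' := congrArg Red.gaFn hA
  simp only [GaPts.gaFn_ptOfElt] at hA'
  have ht' := congrArg (fun v : X ⟶ T' => GmPts.unitOfPt (v ≫ α')) ht
  simp only [unitOfPt_av H', GmPts.unitOfPt_ptOfUnit] at ht'
  have ht2 : (U : Γ(X.left, ⊤)) * U = Z * Z := by simpa only [Units.val_mul] using congrArg Units.val ht'
  rw [hU, hZ] at ht2
  have e1 : γ (AdjoinRoot.of P (2 * a * b - 2) * ε ^ q + AdjoinRoot.of P ((a * b) * (a * b) - 1) * ε ^ (2 * q)) =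
      γ 0 := by
    simp only [map_add, map_mul, map_sub, map_one, map_pow, map_zero, map_ofNat]
    rw [← hval m, ← hval n, show 2 * q = q + q by omega, pow_add]
    linear_combination ht2
  obtain ⟨-, h2⟩ := coeff_eq_zero hq0 (hγ e1)
  have hab : (a * b) * (a * b) = 1 := sub_eq_zero.1 h2
  have hma : IsUnit ma := by
    refine (IsUnit.of_mul_eq_one (γ (AdjoinRoot.of P (b * (a * b)))) ?_)
    show Red.gaFn (toUnit X ≫ m) * _ = 1
    rw [hval m, ← map_mul, ← map_mul]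
    show γ (AdjoinRoot.of P (a * (b * (a * b)))) = 1
    rw [show a * (b * (a * b)) = (a * b) * (a * b) by ring, hab, map_one, map_one]
  have hzq : (-(↑z⁻¹ : Γ(X.left, ⊤))) ^ q = -(↑Z⁻¹ : Γ(X.left, ⊤)) := by
    rw [neg_pow_of_add hq0 (hq X)]
    simp [Z, Units.val_pow_eq_pow_val]
  rw [hzq] at hA'
  have hUZ : (↑U⁻¹ : Γ(X.left, ⊤)) = ↑Z⁻¹ := hma.mul_left_cancel (by linear_combination hA')
  have hUZ' : (U : Γ(X.left, ⊤)) = Z := congrArg Units.val (inv_injective (Units.ext hUZ))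
  rw [hU, hZ] at hUZ'
  have e2 : γ (AdjoinRoot.of P (a * b - 1) * ε ^ q + AdjoinRoot.of P 0 * ε ^ (2 * q)) = γ 0 := by
    simp only [map_add, map_mul, map_sub, map_one, map_pow, map_zero]
    rw [← hval m, ← hval n]
    linear_combination hUZ'
  have hfin : a * b = 1 := sub_eq_zero.1 (coeff_eq_zero hq0 (hγ e2)).1
  refine GaPts.gaFn_injective ?_
  show Red.gaFn _ = Red.gaFn _
  rw [GaPts.gaFn_comp, GaPts.gaFn_comp, GaPts.gaFn_ptOfElt, GaPts.gaFn_ptOfElt, map_mul, map_one,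
    ← GaPts.gaFn_comp, ← GaPts.gaFn_comp]
  refine (Scheme.ΓSpecIso (CommRingCat.of R)).commRingCatIsoToRingEquiv.injective ?_
  rw [map_mul, map_one]
  exact hfin

end Groth.L14.RankOne
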