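import Groth.Agent.L14.RankOne.PowTorus
import Groth.Agent.L25.Locus.Fixed
import Groth.Agent.L25.ConjAction
import Groth.Agent.L25.Locus.Normalizer
import Groth.Agent.L25.Locus.Torus
import Mathlib.Algebra.Polynomial.Laurent

/-!
The centraliser of a one-parameter subgroup on which the root is not trivial is the torus.
-/

set_option autoImplicit false
universe u

open CategoryTheory CategoryTheory.Limits MonoidalCategory CartesianMonoidalCategory MonObj AlgebraicGeometry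
open Groth.L25

set_option backward.isDefEq.respectTransparency.types false
set_option synthInstance.maxHeartbeats 100000
set_option maxHeartbeats 1000000

noncomputable section

namespace Groth.L14.RankOne

theorem isConnected_fibre_of_reductive {S : Scheme.{u}} {G : Over S} [GrpObj G] (hG : Red.IsReductive G) (s : S) :
    _root_.IsConnected (G.hom.base ⁻¹' {s}) := by
  have hc : ConnectedSpace (Red.geomFibre s G).left := (hG.2.2 s).2.2.1
  have hr : G.hom.base ⁻¹' {s} = Set.range (Limits.pullback.fst G.hom (Red.geomPt s)) := by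
    rw [Scheme.Pullback.range_fst]
    congr 1
    rw [Red.geomPt, Scheme.Hom.comp_base, TopCat.coe_comp, Set.range_comp, Set.range_eq_univ.2
      (Spec.map _).surjective, Set.image_univ, Scheme.range_fromSpecResidueField]
  rw [hr]
  exact @isConnected_range _ _ _ _ hc _ (Limits.pullback.fst G.hom (Red.geomPt s)).continuous

open LaurentPolynomial in
theorem laurent_eq_zero {R : Type u} [CommRing R] {a : R} {m : ℤ} (hm : m ≠ 0)
    (h : C a * T m = (C a : LaurentPolynomial R)) : a = 0 := by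
  rw [← LaurentPolynomial.single_eq_C_mul_T, ← LaurentPolynomial.single_eq_C] at h
  have := congrArg (fun p : LaurentPolynomial R => AddMonoidAlgebra.coeff p m) h
  simp only [AddMonoidAlgebra.coeff_single, Finsupp.single_apply] at this
  rw [if_pos trivial, if_neg hm.symm] at this
  exact this

variable {S : Scheme.{u}} {G T : Over S} [GrpObj G] [GrpObj T] {i : T ⟶ G} [IsMonHom i]
  {α : T ⟶ Red.Gm S} [IsMonHom α] {pp pm : Red.Ga S ⟶ G} [IsMonHom pp] [IsMonHom pm]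

/-- The outer coordinates of an element of the big cell commuting with a one-parameter subgroup vanish. -/
theorem outer_eq_one_cochar (hcell : IsOpenImmersion (cell i pp pm).left)
    (hcomm : ∀ {X : Over S} (a b : X ⟶ T), a * b = b * a)
    (hpp : ∀ (X : Over S) (t : X ⟶ T) (x : X ⟶ Red.Ga S), ∃ x' : X ⟶ Red.Ga S,
      x' ≫ pp = (t ≫ i) * (x ≫ pp) * (t ≫ i)⁻¹ ∧ Red.gaFn x' = Red.gmFn (t ≫ α) * Red.gaFn x)
    (hpm : ∀ (X : Over S) (t : X ⟶ T) (y : X ⟶ Red.Ga S), ∃ y' : X ⟶ Red.Ga S,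
      y' ≫ pm = (t ≫ i) * (y ≫ pm) * (t ≫ i)⁻¹ ∧ Red.gaFn y' * Red.gmFn (t ≫ α) = Red.gaFn y)
    {Q : Over S} (jn : Q ⟶ T) (m : ℤ) (hm : m ≠ 0)
    (hjn : ∀ {X : Over S} (z : X ⟶ Red.Gm S), ∃ (X' : Over S) (f : X' ⟶ X) (r : X' ⟶ Q), Epi f ∧
      GmPts.unitOfPt ((r ≫ jn) ≫ α) = GmPts.unitOfPt (f ≫ z) ^ m)
    {X : Over S} {Y Z : X ⟶ Red.Ga S} {t : X ⟶ T}
    (h : ∀ (X' : Over S) (f : X' ⟶ X) (z : X' ⟶ Q),
      Commute (z ≫ jn ≫ i) (f ≫ ((Y ≫ pm) * (t ≫ i) * (Z ≫ pp)))) :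
    Y = 1 ∧ Z = 1 := by
  have := hcell
  suffices key : ∀ (R : Type u) [CommRing R] (j : Spec (CommRingCat.of R) ⟶ S) (s : Over.mk j ⟶ X),
      s ≫ Y = 1 ∧ s ≫ Z = 1 by
    refine ⟨hom_ext_affine fun R _ j s => ?_, hom_ext_affine fun R _ j s => ?_⟩
    · rw [(key R j s).1, MonObj.comp_one]
    · rw [(key R j s).2, MonObj.comp_one]
  intro R _ j s
  let L := LaurentPolynomial R
  let X' : Over S := Sp j L
  let γ : L →+* Γ(X'.left, ⊤) := (Scheme.ΓSpecIso (CommRingCat.of L)).inv.hom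
  have hγ : Function.Injective γ := fun a b hab => by
    have h1 := congrArg (fun v => (Scheme.ΓSpecIso (CommRingCat.of L)).hom v) hab
    simpa only [γ, Iso.inv_hom_id_apply] using h1
  let R₀ : Γ((Over.mk j).left, ⊤) →+* R := (Scheme.ΓSpecIso (CommRingCat.of R)).hom.hom
  let e : X' ⟶ Over.mk j := Over.homMk (Spec.map (CommRingCat.ofHom (algebraMap R L))) rfl
  have hval : ∀ v : X ⟶ Red.Ga S,
      Red.gaFn ((e ≫ s) ≫ v) = γ (LaurentPolynomial.C (R₀ (Red.gaFn (s ≫ v)))) := fun v => by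
    rw [Category.assoc, GaPts.gaFn_comp]
    show (Spec.map (CommRingCat.ofHom (algebraMap R L))).appTop (Red.gaFn (s ≫ v)) = _
    conv_lhs => rw [← Iso.hom_inv_id_apply (Scheme.ΓSpecIso (CommRingCat.of R)) (Red.gaFn (s ≫ v))]
    exact (congrArg (fun φ : CommRingCat.of R ⟶ _ => φ.hom (R₀ (Red.gaFn (s ≫ v))))
      (Scheme.ΓSpecIso_inv_naturality (CommRingCat.ofHom (algebraMap R L)))).symm
  let W : (Γ(X'.left, ⊤))ˣ := Units.map γ.toMonoidHom (LaurentPolynomial.isUnit_T (R := R) 1).unit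
  let z : X' ⟶ Red.Gm S := GmPts.ptOfUnit W
  obtain ⟨X'', f, r, hf, hr⟩ := hjn z
  let F := f ≫ e ≫ s
  let τ : X'' ⟶ T := r ≫ jn
  obtain ⟨y', hy', hy''⟩ := hpm X'' τ (F ≫ Y)
  obtain ⟨x', hx', hx''⟩ := hpp X'' τ (F ≫ Z)
  have hc : (τ ≫ i) * (F ≫ ((Y ≫ pm) * (t ≫ i) * (Z ≫ pp))) * (τ ≫ i)⁻¹ =
      F ≫ ((Y ≫ pm) * (t ≫ i) * (Z ≫ pp)) := by
    rw [Category.assoc r jn i, (h X'' F r).eq, mul_inv_cancel_right]
  simp only [MonObj.comp_mul, ← Category.assoc F] at hc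
  have ht : (τ ≫ i) * ((F ≫ t) ≫ i) * (τ ≫ i)⁻¹ = (F ≫ t) ≫ i := by
    rw [← MonObj.mul_comp, hcomm, MonObj.mul_comp, mul_inv_cancel_right]
  have hc' : (y' ≫ pm) * ((F ≫ t) ≫ i) * (x' ≫ pp) = ((F ≫ Y) ≫ pm) * ((F ≫ t) ≫ i) * ((F ≫ Z) ≫ pp) := by
    rw [hy', hx']
    refine Eq.trans ?_ hc
    conv_lhs => rw [← ht]
    group
  obtain ⟨rfl, -, rfl⟩ := decomp_unique hc'
  have hW : Red.gmFn (τ ≫ α) = f.left.appTop (γ (LaurentPolynomial.T m)) := by
    let φ : Lˣ →* (Γ(X'.left, ⊤))ˣ := Units.map γ.toMonoidHom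
    have hTz : ∀ k : ℤ, ((LaurentPolynomial.isUnit_T (R := R) 1).unit ^ k : Lˣ) = (LaurentPolynomial.isUnit_T (R := R) k).unit := by
      intro k
      induction k with
      | zero => exact Units.ext (by simp)
      | succ k hk =>
        rw [zpow_add, zpow_one, hk]
        refine Units.ext ?_
        simp only [Units.val_mul, IsUnit.unit_spec]
        exact (LaurentPolynomial.T_add _ _).symm
      | pred k hk =>
        rw [zpow_sub, zpow_one, hk, mul_inv_eq_iff_eq_mul]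
        refine Units.ext ?_
        simp only [Units.val_mul, IsUnit.unit_spec]
        rw [← LaurentPolynomial.T_add, sub_add_cancel]
    rw [← GmPts.val_unitOfPt, hr, GmPts.unitOfPt_comp, ← map_zpow, GmPts.unitOfPt_ptOfUnit]
    show f.left.appTop ((φ (LaurentPolynomial.isUnit_T (R := R) 1).unit ^ m : (Γ(X'.left, ⊤))ˣ).val) = _
    rw [← map_zpow, hTz]
    rfl
  have main : ∀ a : R, γ (LaurentPolynomial.C a) * γ (LaurentPolynomial.T m) = γ (LaurentPolynomial.C a) → a = 0 :=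
    fun a ha => laurent_eq_zero hm (hγ (by rwa [map_mul]))
  have hF : ∀ v : X ⟶ Red.Ga S,
      Red.gaFn (F ≫ v) = f.left.appTop (γ (LaurentPolynomial.C (R₀ (Red.gaFn (s ≫ v))))) := fun v => by
    rw [← hval, ← GaPts.gaFn_comp]
    simp only [F, Category.assoc]
  rw [hF Y, hW, ← map_mul] at hy''
  rw [hF Z, hW, _root_.mul_comm, ← map_mul] at hx''
  have hR : ∀ v : Over.mk j ⟶ Red.Ga S, R₀ (Red.gaFn v) = 0 → v = 1 := fun v hv => by
    refine GaPts.gaFn_injective ?_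
    show Red.gaFn v = Red.gaFn _
    rw [GaPts.gaFn_one]
    exact (Scheme.ΓSpecIso (CommRingCat.of R)).commRingCatIsoToRingEquiv.injective (hv.trans (map_zero _).symm)
  exact ⟨hR _ (main _ (eq_of_epi_gaFn f hy'')), hR _ (main _ (eq_of_epi_gaFn f hx''.symm))⟩

/-- The centraliser of a one-parameter subgroup on which the root is not trivial is the torus. -/
theorem commute_cochar_iff (hG : Red.IsReductive G) (hT : Red.IsTorus T) [Mono i]
    (hcell : IsOpenImmersion (cell i pp pm).left)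
    (hpp : ∀ (X : Over S) (t : X ⟶ T) (x : X ⟶ Red.Ga S), ∃ x' : X ⟶ Red.Ga S,
      x' ≫ pp = (t ≫ i) * (x ≫ pp) * (t ≫ i)⁻¹ ∧ Red.gaFn x' = Red.gmFn (t ≫ α) * Red.gaFn x)
    (hpm : ∀ (X : Over S) (t : X ⟶ T) (y : X ⟶ Red.Ga S), ∃ y' : X ⟶ Red.Ga S,
      y' ≫ pm = (t ≫ i) * (y ≫ pm) * (t ≫ i)⁻¹ ∧ Red.gaFn y' * Red.gmFn (t ≫ α) = Red.gaFn y)
    {Q : Over S} [GrpObj Q] (hQ : Red.IsTorus Q) (jn : Q ⟶ T) [IsMonHom jn] (m : ℤ) (hm : m ≠ 0)
    (hjn : ∀ {X : Over S} (z : X ⟶ Red.Gm S), ∃ (X' : Over S) (f : X' ⟶ X) (r : X' ⟶ Q), Epi f ∧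
      GmPts.unitOfPt ((r ≫ jn) ≫ α) = GmPts.unitOfPt (f ≫ z) ^ m)
    {X : Over S} (g : X ⟶ G) :
    (∀ (X' : Over S) (y : X' ⟶ X) (z : X' ⟶ Q), Commute (z ≫ jn ≫ i) (y ≫ g)) ↔
      ∃ t : X ⟶ T, t ≫ i = g := by
  have hcomm : ∀ {X : Over S} (a b : X ⟶ T), a * b = b * a := fun a b =>
    Central.mul_comm_of_multTypeFT (Locus.isMultTypeFT_of_isTorus hT) a b
  constructor
  swap
  · rintro ⟨t, rfl⟩ X' y z
    show _ * _ = _ * _
    rw [← Category.assoc z jn i, ← Category.assoc y t i, ← MonObj.mul_comp, hcomm, MonObj.mul_comp]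
  intro hg
  have := hcell
  haveI : IsAffineHom G.hom := hG.1
  haveI : Smooth G.hom := hG.2.1
  haveI : IsSeparated G.hom := inferInstance
  have hloc := fun {H : Over S} [GrpObj H] (hH : Red.IsTorus H) =>
    (Locus.locally_of_multTypeFT (Locus.isMultTypeFT_of_isTorus hH))
  let a := ConjAction.conj (jn ≫ i)
  obtain ⟨F, f, hfc, hfl, hF⟩ := Locus.exists_fixedLocus a (hloc hQ)
  haveI := hfc
  haveI : Mono f := Over.mono_of_mono_left f
  have hFc : ∀ (Y : Over S) (x : Y ⟶ G), (∃ w, w ≫ f = x) ↔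
      ∀ (X' : Over S) (y : X' ⟶ Y) (z : X' ⟶ Q), Commute (z ≫ jn ≫ i) (y ≫ x) := fun Y x => by
    refine (hF Y x).trans (forall₃_congr fun X' y z => ?_)
    rw [ConjAction.lift_conj, mul_inv_eq_iff_eq_mul]
    rfl
  haveI : IsClosedImmersion i.left := Locus.isClosedImmersion_of_mono (hloc hT) i
  have hstrong : ∀ (Y : Over S) (r : Y ⟶ F), Mem i pp pm (r ≫ f) → ∃ t : Y ⟶ T, t ≫ i = r ≫ f := by
    intro Y r hr
    obtain ⟨Yc, t, Zc, hd⟩ := hr.exists_decomp
    obtain ⟨rfl, rfl⟩ := outer_eq_one_cochar hcell hcomm hpp hpm jn m hm hjn (t := t) fun X' φ z => by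
      rw [← hd]
      exact (hFc Y (r ≫ f)).1 ⟨r, rfl⟩ X' φ z
    exact ⟨t, by rw [hd, MonObj.one_comp, MonObj.one_comp, _root_.one_mul, _root_.mul_one]⟩
  have hTc : Set.range i.left ⊆ Set.range (cell i pp pm).left := by
    have : Mem i pp pm i := by
      have h1 := mem_mul (i := i) (pp := pp) (pm := pm) (1 : T ⟶ Red.Ga S) (𝟙 T) 1
      simpa only [MonObj.one_comp, _root_.one_mul, _root_.mul_one, Category.id_comp] using h1
    exact this
  let B : Set F.left := f.left ⁻¹' Set.range i.left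
  let A : Set F.left := f.left ⁻¹' Set.range (cell i pp pm).left
  have hAB : A = B := by
    refine Set.Subset.antisymm (fun p hp => ?_) (Set.preimage_mono hTc)
    let Y : Over S := Over.mk (F.left.fromSpecResidueField p ≫ F.hom)
    let r : Y ⟶ F := Over.homMk (F.left.fromSpecResidueField p) rfl
    obtain ⟨z, hz⟩ : p ∈ Set.range (F.left.fromSpecResidueField p) := by
      rw [Scheme.range_fromSpecResidueField]; rfl
    obtain ⟨t, ht⟩ := hstrong Y r (by
      rintro _ ⟨w, rfl⟩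
      have hw : r.left w = p := by
        have : r.left w ∈ Set.range (F.left.fromSpecResidueField p) := ⟨w, rfl⟩
        rwa [Scheme.range_fromSpecResidueField, Set.mem_singleton_iff] at this
      show f.left (r.left w) ∈ _
      rw [hw]
      exact hp)
    refine ⟨t.left z, ?_⟩
    have := congrArg (fun φ : Y ⟶ G => φ.left z) ht
    exact this.trans (congrArg f.left hz)
  have hclopen : IsClopen B := ⟨i.left.isClosedEmbedding.isClosed_range.preimage f.left.continuous,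
    hAB ▸ (cell i pp pm).left.isOpenEmbedding.isOpen_range.preimage f.left.continuous⟩
  obtain ⟨σ, hσ⟩ := (hFc (𝟙_ (Over S)) 1).2 fun X' y z => by
    rw [MonObj.comp_one]
    exact Commute.one_right _
  have hall : ∀ p : F.left, p ∈ B := by
    intro p
    have hc : _root_.IsConnected (F.hom.base ⁻¹' {F.hom.base p}) :=
      Locus.isConnected_fibre_fixed hQ a (fun X q h h' => by
        simp only [a, ConjAction.lift_conj]; group) f hF _ (isConnected_fibre_of_reductive hG _)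
    refine hc.isPreconnected.subset_isClopen hclopen ⟨σ.left (F.hom.base p), ?_, ?_⟩ rfl
    · show F.hom (σ.left (F.hom.base p)) = F.hom.base p
      rw [← Scheme.Hom.comp_apply, Over.w σ]
      rfl
    · show f.left (σ.left (F.hom.base p)) ∈ Set.range i.left
      refine ⟨(1 : 𝟙_ (Over S) ⟶ T).left (F.hom.base p), ?_⟩
      have e : (1 : 𝟙_ (Over S) ⟶ T) ≫ i = σ ≫ f := by rw [MonObj.one_comp, hσ]
      exact congrArg (fun φ : 𝟙_ (Over S) ⟶ G => φ.left (F.hom.base p)) e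
  have hmem : Mem i pp pm (𝟙 F ≫ f) := by
    rw [Category.id_comp]
    rintro _ ⟨p, rfl⟩
    exact hTc (hall p)
  obtain ⟨t, ht⟩ := hstrong F (𝟙 F) hmem
  rw [Category.id_comp] at ht
  obtain ⟨w, hw⟩ := (hFc X g).2 hg
  exact ⟨w ≫ t, by rw [Category.assoc, ht, hw]⟩

/-- The lifting property for a one-parameter subgroup. -/
theorem cochar_lift (jn : Red.Gm S ⟶ T) (m : ℤ)
    (hjn : ∀ {X : Over S} (z : X ⟶ Red.Gm S), GmPts.unitOfPt ((z ≫ jn) ≫ α) = GmPts.unitOfPt z ^ m)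
    {X : Over S} (z : X ⟶ Red.Gm S) : ∃ (X' : Over S) (f : X' ⟶ X) (r : X' ⟶ Red.Gm S), Epi f ∧
      GmPts.unitOfPt ((r ≫ jn) ≫ α) = GmPts.unitOfPt (f ≫ z) ^ m :=
  ⟨X, 𝟙 X, z, inferInstance, by rw [hjn, Category.id_comp]⟩

/-- The centraliser of the torus is the torus. -/
theorem commute_torus_iff (hG : Red.IsReductive G) (hT : Red.IsTorus T) [Mono i]
    (hα : ∀ s : S, (Over.pullback (Red.geomPt s)).map α ≠ 1)
    (hcell : IsOpenImmersion (cell i pp pm).left)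
    (hpp : ∀ (X : Over S) (t : X ⟶ T) (x : X ⟶ Red.Ga S), ∃ x' : X ⟶ Red.Ga S,
      x' ≫ pp = (t ≫ i) * (x ≫ pp) * (t ≫ i)⁻¹ ∧ Red.gaFn x' = Red.gmFn (t ≫ α) * Red.gaFn x)
    (hpm : ∀ (X : Over S) (t : X ⟶ T) (y : X ⟶ Red.Ga S), ∃ y' : X ⟶ Red.Ga S,
      y' ≫ pm = (t ≫ i) * (y ≫ pm) * (t ≫ i)⁻¹ ∧ Red.gaFn y' * Red.gmFn (t ≫ α) = Red.gaFn y)
    {X : Over S} (g : X ⟶ G) :
    (∀ (X' : Over S) (y : X' ⟶ X) (z : X' ⟶ T), Commute (z ≫ i) (y ≫ g)) ↔ ∃ t : X ⟶ T, t ≫ i = g := by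
  obtain ⟨hflat, hsurj⟩ := ((Groth.Agent.S5421.result S T hT α).2).1 hα
  have h := commute_cochar_iff (α := α) hG hT hcell hpp hpm hT (𝟙 T) 1 one_ne_zero (fun z => by
    obtain ⟨X', f, r, -, he, hr⟩ := exists_char_lift α z
    exact ⟨X', f, r, he, by rw [Category.comp_id, hr, zpow_one]⟩) g
  simpa only [Category.id_comp] using h

end Groth.L14.RankOne
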