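import Groth.Agent.L14.RankOne.Cell
import Groth.Agent.L25.MonoFibres
import Groth.Agent.L25.Locus.Normalizer
import Groth.Agent.Lead.UnrLocus
import Groth.Agent.L14.Smoothing.SymAlg
import Groth.Agent.S5421
import Mathlib.Algebra.DualNumber

/-!
A homomorphism from a semidirect product of a torus and the additive group which is a monomorphism on a fibre and on
the torus is a monomorphism near that fibre.
-/

set_option autoImplicit false
universe u

open CategoryTheory CategoryTheory.Limits MonoidalCategory CartesianMonoidalCategory MonObj AlgebraicGeometry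
open Groth.L25

set_option backward.isDefEq.respectTransparency.types false
set_option synthInstance.maxHeartbeats 100000
set_option maxHeartbeats 1000000

noncomputable section

namespace Groth.L14.RankOne

variable {S : Scheme.{u}} {G T P : Over S} [GrpObj G] [GrpObj T] [GrpObj P]
  {α : T ⟶ Red.Gm S} [IsMonHom α] {jT : T ⟶ P} [IsMonHom jT] {jU : Red.Ga S ⟶ P} [IsMonHom jU]
  {f : P ⟶ G} [IsMonHom f]

omit [IsMonHom jT] [IsMonHom jU] in
theorem lift_semidirect {X : Over S} (t : X ⟶ T) (x : X ⟶ Red.Ga S) :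
    lift t x ≫ (jT ⊗ₘ jU) ≫ μ[P] = (t ≫ jT) * (x ≫ jU) := by
  rw [lift_map_assoc, ← Hom.mul_def]

omit [IsMonHom jT] [IsMonHom jU] in
theorem semidirect_unique (hiso : IsIso ((jT ⊗ₘ jU) ≫ μ[P])) {X : Over S} {t t' : X ⟶ T} {x x' : X ⟶ Red.Ga S}
    (h : (t ≫ jT) * (x ≫ jU) = (t' ≫ jT) * (x' ≫ jU)) : t = t' ∧ x = x' := by
  rw [← lift_semidirect, ← lift_semidirect, cancel_mono] at h
  exact ⟨by simpa using congrArg (· ≫ fst T (Red.Ga S)) h, by simpa using congrArg (· ≫ snd T (Red.Ga S)) h⟩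

theorem toBase_comp_map' {Q : Scheme.{u}} (g : Q ⟶ S) {X X' : Over S} {Y : Over Q} (a : Y ⟶ Red.bc g X) (f : X ⟶ X') :
    NilAction.toBase g (a ≫ (Over.pullback g).map f) = NilAction.toBase g a ≫ f := by
  conv_lhs => rw [← NilAction.ofBase_toBase g a, NilAction.ofBase_comp, NilAction.toBase_ofBase]

theorem toBase_injective' {Q : Scheme.{u}} (g : Q ⟶ S) {X : Over S} {Y : Over Q} :
    Function.Injective (NilAction.toBase g : (Y ⟶ Red.bc g X) → _) :=
  Function.LeftInverse.injective (NilAction.ofBase_toBase g)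

/-- A non-trivial element of the root group in the kernel gives a tangent vector of the kernel. -/
theorem exists_tangent (hT : Red.IsTorus T) [Flat α.left] [Surjective α.left]
    (hconj : ∀ (X : Over S) (t : X ⟶ T) (x x' : X ⟶ Red.Ga S), Red.gaFn x' = Red.gmFn (t ≫ α) * Red.gaFn x →
      (t ≫ jT) * (x ≫ jU) * (t ≫ jT)⁻¹ = x' ≫ jU)
    {L : Type u} [Field L] {j : Spec (CommRingCat.of L) ⟶ S} (t : Sp j L ⟶ T) (x : Sp j L ⟶ Red.Ga S)
    (hz : ((t ≫ jT) * (x ≫ jU)) ≫ f = 1) (hx : gv x ≠ 0) :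
    (gp j (DualNumber.eps : DualNumber L) ≫ jU) ≫ f = 1 := by
  let c : Sp j (DualNumber L) ⟶ Sp j L := mor j (Algebra.ofId L (DualNumber L))
  let χ : L := (uv (t ≫ α) : L)
  have hε : (DualNumber.eps : DualNumber L) * DualNumber.eps = 0 := DualNumber.eps_mul_eps
  let a : DualNumber L := algebraMap L (DualNumber L) (χ * gv x)
  have ha : IsUnit a := (IsUnit.mk0 _ (mul_ne_zero (uv (t ≫ α)).ne_zero hx)).map _
  obtain ⟨ua, hua⟩ := ha
  obtain ⟨u, hu⟩ : IsUnit (1 + DualNumber.eps * Units.val ua⁻¹ : DualNumber L) :=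
    IsNilpotent.isUnit_one_add ⟨2, by rw [pow_two, _root_.mul_mul_mul_comm, hε, zero_mul]⟩
  obtain ⟨X'', d, s, -, hd, hs⟩ := exists_char_lift α (up j u)
  rw [← cancel_epi d]
  let k : X'' ⟶ Sp j L := d ≫ c
  have hkz : ((k ≫ t ≫ jT) * (k ≫ x ≫ jU)) ≫ f = 1 := by
    rw [← MonObj.comp_mul, Category.assoc, hz, MonObj.comp_one]
  have hconj1 : ((s ≫ jT) * ((k ≫ t ≫ jT) * (k ≫ x ≫ jU)) * (s ≫ jT)⁻¹) ≫ f = 1 := by
    rw [MonObj.mul_comp, MonObj.mul_comp, hkz, GrpObj.inv_comp, _root_.mul_one, mul_inv_cancel]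
  let x₁ : X'' ⟶ Red.Ga S := GaPts.ptOfElt (Red.gmFn (s ≫ α) * Red.gaFn (k ≫ x))
  let x₂ : X'' ⟶ Red.Ga S := GaPts.ptOfElt (Red.gmFn ((k ≫ t) ≫ α) * Red.gaFn (x₁ * (k ≫ x)⁻¹))
  have h1 : (s ≫ jT) * ((k ≫ t ≫ jT) * (k ≫ x ≫ jU)) * (s ≫ jT)⁻¹ = ((k ≫ t) ≫ jT) * (x₁ ≫ jU) := by
    rw [← Category.assoc k t, ← Category.assoc k x,
      ← hconj X'' s (k ≫ x) x₁ (GaPts.gaFn_ptOfElt _),
      ← _root_.mul_assoc (s ≫ jT), ← MonObj.mul_comp s (k ≫ t) jT,
      Central.mul_comm_of_multTypeFT (Locus.isMultTypeFT_of_isTorus hT) s, MonObj.mul_comp]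
    group
  have h2 : x₂ ≫ jU = ((s ≫ jT) * ((k ≫ t ≫ jT) * (k ≫ x ≫ jU)) * (s ≫ jT)⁻¹) *
      ((k ≫ t ≫ jT) * (k ≫ x ≫ jU))⁻¹ := by
    rw [h1, ← hconj X'' (k ≫ t) (x₁ * (k ≫ x)⁻¹) x₂ (GaPts.gaFn_ptOfElt _), MonObj.mul_comp, GrpObj.inv_comp,
      Category.assoc k x jU, ← Category.assoc k t jT]
    group
  have h3 : d ≫ gp j (DualNumber.eps : DualNumber L) = x₂ := by
    refine GaPts.gaFn_injective ?_
    show Red.gaFn _ = Red.gaFn _
    rw [GaPts.gaFn_ptOfElt, GaPts.gaFn_mul, GaPts.gaFn_inv, GaPts.gaFn_ptOfElt, hs,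
      Category.assoc k t α, ← up_uv (t ≫ α), ← gp_gv x]
    simp only [k, Category.assoc, c, mor_up, mor_gp]
    simp only [GmPts.gmFn_comp, GaPts.gaFn_comp, gmFn_up, gaFn_gp, ← map_mul, ← map_neg, ← map_add]
    congr 2
    rw [map_neg]
    show (DualNumber.eps : DualNumber L) = algebraMap L (DualNumber L) χ *
      ((u : DualNumber L) * algebraMap L (DualNumber L) (gv x) + -algebraMap L (DualNumber L) (gv x))
    have e : (ua : DualNumber L) = algebraMap L (DualNumber L) χ * algebraMap L (DualNumber L) (gv x) := by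
      simp only [hua, a, map_mul]
    rw [hu]
    linear_combination -DualNumber.eps * ua.inv_mul + DualNumber.eps * (↑ua⁻¹ : DualNumber L) * e
  rw [← Category.assoc, ← Category.assoc, h3, h2, MonObj.mul_comp, hconj1, GrpObj.inv_comp, hkz, inv_one,
    _root_.mul_one, MonObj.comp_one]

variable (f) in
/-- The kernel of a homomorphism as a scheme over the base. -/
abbrev kerSch : Scheme.{u} := pullback f.left η[G].left

theorem mono_nhd (hT : Red.IsTorus T) (hα : ∀ s : S, (Over.pullback (Red.geomPt s)).map α ≠ 1)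
    (hiso : IsIso ((jT ⊗ₘ jU) ≫ μ[P]))
    (hconj : ∀ (X : Over S) (t : X ⟶ T) (x x' : X ⟶ Red.Ga S), Red.gaFn x' = Red.gmFn (t ≫ α) * Red.gaFn x →
      (t ≫ jT) * (x ≫ jU) * (t ≫ jT)⁻¹ = x' ≫ jU)
    [LocallyOfFiniteType G.hom] (s₀ : S) [Mono ((Over.pullback (S.fromSpecResidueField s₀)).map f)] [Mono (jT ≫ f)] :
    ∃ U : S.Opens, s₀ ∈ U ∧ Mono ((Over.pullback U.ι).map f) := by
  obtain ⟨hflat, hsurj⟩ := ((Groth.Agent.S5421.result S T hT α).2).1 hα
  haveI := Locus.lfp_of_multTypeFT (Locus.isMultTypeFT_of_isTorus hT)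
  haveI : Smooth (Red.GaZ.{u}).hom := by
    refine (HasRingHomProperty.Spec_iff (P := @Smooth)).2 ?_
    exact RingHom.smooth_algebraMap.2
      (inferInstanceAs (Algebra.Smooth (ULift.{u} ℤ) (SymmetricAlgebra (ULift.{u} ℤ) (ULift.{u} ℤ))))
  haveI : Smooth (Red.Ga S).hom := MorphismProperty.pullback_snd (P := @Smooth) _ _ ‹_›
  haveI : LocallyOfFiniteType P.hom := by
    haveI : LocallyOfFiniteType (T ⊗ Red.Ga S).hom :=
      inferInstanceAs (LocallyOfFiniteType (pullback.fst T.hom (Red.Ga S).hom ≫ T.hom))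
    let e := inv ((jT ⊗ₘ jU) ≫ μ[P])
    haveI : IsIso e.left := inferInstanceAs (IsIso ((Over.forget S).map e))
    rw [← Over.w e]
    infer_instance
  let e₀ : S ⟶ G.left := η[G].left
  have he₀ : e₀ ≫ G.hom = 𝟙 S := GrpBasics.unit_comp_hom G
  let p : kerSch f ⟶ S := pullback.fst f.left e₀ ≫ P.hom
  have hp : p = pullback.snd f.left e₀ := by
    have := congrArg (· ≫ G.hom) (pullback.condition (f := f.left) (g := e₀))
    simp only [Category.assoc, he₀, Category.comp_id, Over.w f] at this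
    exact this
  haveI : LocallyOfFiniteType f.left := by
    haveI : LocallyOfFiniteType (f.left ≫ G.hom) := by rw [Over.w f]; infer_instance
    exact locallyOfFiniteType_of_comp f.left G.hom
  haveI : LocallyOfFiniteType p := by rw [hp]; infer_instance
  let σ : S ⟶ kerSch f := pullback.lift η[P].left (𝟙 S) (by
    rw [Category.id_comp, ← Over.comp_left, IsMonHom.one_hom])
  have hσ : σ ≫ p = 𝟙 S := by rw [hp]; exact pullback.lift_snd _ _ _
  -- points of the kernel
  have kpt : ∀ {Q : Scheme.{u}} (t : Q ⟶ kerSch f), ∃ z : Over.mk (t ≫ p) ⟶ P,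
      z.left = t ≫ pullback.fst f.left e₀ ∧ z ≫ f = 1 := by
    intro Q t
    refine ⟨Over.homMk (t ≫ pullback.fst f.left e₀) (Category.assoc _ _ _), rfl, ?_⟩
    apply Over.OverMorphism.ext
    show (t ≫ pullback.fst f.left e₀) ≫ f.left = _
    rw [MonoFibres.one_left, Category.assoc, pullback.condition]
    show t ≫ pullback.snd f.left e₀ ≫ e₀ = (t ≫ p) ≫ η[G].left
    rw [hp, Category.assoc]
  have kone : ∀ {Q : Scheme.{u}} (t : Q ⟶ kerSch f) (z : Over.mk (t ≫ p) ⟶ P),
      z.left = t ≫ pullback.fst f.left e₀ → z = 1 → t = (t ≫ p) ≫ σ := by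
    intro Q t z hz h1
    apply pullback.hom_ext
    · rw [← hz, h1, MonoFibres.one_left, Category.assoc, pullback.lift_fst]
      rfl
    · rw [← hp, Category.assoc, hσ, Category.comp_id]
  -- the fibre at `s₀`
  have hfib : FormallyUnramified (p.fiberToSpecResidueField s₀) := by
    let ι₀ := S.fromSpecResidueField s₀
    have kuniq : ∀ {Q : Scheme.{u}} (a : Q ⟶ kerSch f) (w : Q ⟶ Spec (S.residueField s₀)),
        a ≫ p = w ≫ ι₀ → a = (a ≫ p) ≫ σ := by
      intro Q a w ha
      obtain ⟨z, hz, hz'⟩ := kpt a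
      refine kone a z hz ?_
      let Z' : Over (Spec (S.residueField s₀)) := Over.mk w
      let c : Over.mk (Z'.hom ≫ ι₀) ⟶ Over.mk (a ≫ p) := Over.homMk (𝟙 Q) (by
        show 𝟙 Q ≫ a ≫ p = w ≫ ι₀
        rw [Category.id_comp, ha])
      have h2 : NilAction.ofBase ι₀ (c ≫ z) = NilAction.ofBase ι₀ (c ≫ 1) :=
        (cancel_mono ((Over.pullback ι₀).map f)).1 (by
          rw [NilAction.ofBase_comp, NilAction.ofBase_comp, Category.assoc, Category.assoc, hz', MonObj.one_comp])
      have h3 := congrArg (fun m => (NilAction.toBase ι₀ m).left) h2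
      simp only [NilAction.toBase_ofBase] at h3
      apply Over.OverMorphism.ext
      exact ((Category.id_comp _).symm.trans h3).trans (Category.id_comp _)
    have : IsIso (p.fiberToSpecResidueField s₀) := by
      let sec : Spec (S.residueField s₀) ⟶ p.fiber s₀ :=
        pullback.lift (ι₀ ≫ σ) (𝟙 _) (by rw [Category.assoc, hσ, Category.comp_id, Category.id_comp])
      refine ⟨sec, ?_, pullback.lift_snd _ _ _⟩
      apply pullback.hom_ext
      · show (pullback.snd p ι₀ ≫ sec) ≫ pullback.fst p ι₀ = 𝟙 _ ≫ pullback.fst p ι₀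
        simp only [sec, Category.assoc]
        erw [pullback.lift_fst, Category.id_comp]
        conv_rhs => rw [kuniq (pullback.fst p ι₀) (pullback.snd p ι₀) pullback.condition]
        rw [pullback.condition, Category.assoc]
      · show (pullback.snd p ι₀ ≫ sec) ≫ pullback.snd p ι₀ = 𝟙 _ ≫ pullback.snd p ι₀
        simp only [sec, Category.assoc]
        erw [pullback.lift_snd, Category.comp_id]
    infer_instance
  have hσp : ∀ s : S, p (σ s) = s := fun s => by
    rw [← Scheme.Hom.comp_apply, hσ]; rfl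
  obtain ⟨W, hW, hWu⟩ := Groth.Lead.UnrLocus.exists_open p (σ s₀) (by rw [hσp]; exact hfib)
  haveI := hWu
  refine ⟨σ ⁻¹ᵁ W, hW, ?_⟩
  -- agreement with the unit near `s₀`
  have hagree : ∀ {Q : Scheme.{u}} (a : Q ⟶ kerSch f), (∀ q : Q, a q ∈ W) → (∀ q : Q, p (a q) ∈ σ ⁻¹ᵁ W) →
      (∀ q : Q, ∃ (L : Type u) (_ : Field L) (ζ : Spec (CommRingCat.of L) ⟶ Q) (o : Spec (CommRingCat.of L)),
        ζ o = q ∧ ζ ≫ a = (ζ ≫ a ≫ p) ≫ σ) → a = (a ≫ p) ≫ σ := by
    intro Q a h1 h2 h3
    let b := (a ≫ p) ≫ σ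
    have ha : Set.range a ⊆ Set.range W.ι := by
      rw [Scheme.Opens.range_ι]; rintro _ ⟨q, rfl⟩; exact h1 q
    have hb : Set.range b ⊆ Set.range W.ι := by
      rw [Scheme.Opens.range_ι]; rintro _ ⟨q, rfl⟩
      rw [Scheme.Hom.comp_apply, Scheme.Hom.comp_apply]
      exact h2 q
    let a' := IsOpenImmersion.lift W.ι a ha
    let b' := IsOpenImmersion.lift W.ι b hb
    have hab : a' ≫ W.ι ≫ p = b' ≫ W.ι ≫ p := by
      simp only [a', b', ← Category.assoc, IsOpenImmersion.lift_fac]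
      simp only [b, Category.assoc, hσ, Category.comp_id]
    have key := FixedEtale.eq_of_mem_agree hab (𝟙 Q) fun q => by
      obtain ⟨L, _, ζ, o, ho, hζ⟩ := h3 q
      have e : ζ ≫ a' = ζ ≫ b' := by
        rw [← cancel_mono W.ι]
        simp only [a', b', Category.assoc, IsOpenImmersion.lift_fac, b]
        rw [hζ, Category.assoc, Category.assoc]
      have := FixedEtale.mem_agree hab ζ e o
      rwa [ho] at this
    rw [Category.id_comp, Category.id_comp] at key
    rw [← IsOpenImmersion.lift_fac W.ι a ha]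
    show a' ≫ W.ι = _
    rw [key]
    exact (IsOpenImmersion.lift_fac W.ι b hb).trans (by simp only [b, a', IsOpenImmersion.lift_fac])
  -- field valued points of the kernel over the open
  have hpt : ∀ (L : Type u) [Field L] (ζ : Spec (CommRingCat.of L) ⟶ kerSch f),
      (∀ o, p (ζ o) ∈ σ ⁻¹ᵁ W) → ζ = (ζ ≫ p) ≫ σ := by
    intro L _ ζ hU
    obtain ⟨z, hz, hz'⟩ := kpt ζ
    refine kone ζ z hz ?_
    let j : Spec (CommRingCat.of L) ⟶ S := ζ ≫ p
    let z' : Sp j L ⟶ P := (self j).hom ≫ z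
    suffices h : z' = 1 by
      rw [← cancel_epi (self j).hom, MonObj.comp_one]
      exact h
    let q := z' ≫ inv ((jT ⊗ₘ jU) ≫ μ[P])
    let t := q ≫ fst T (Red.Ga S)
    let x := q ≫ snd T (Red.Ga S)
    have hq : z' = (t ≫ jT) * (x ≫ jU) := by
      rw [← lift_semidirect, show lift t x = q from lift_comp_fst_snd q]
      simp [q]
    have hker : z' ≫ f = 1 := by
      show ((self j).hom ≫ z) ≫ f = 1
      rw [Category.assoc, hz', MonObj.comp_one]
    have hx : gv x = 0 := by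
      by_contra hx
      let e : Sp j (DualNumber L) ⟶ P := gp j (DualNumber.eps : DualNumber L) ≫ jU
      have he : e ≫ f = 1 := exists_tangent hT hconj t x (hq ▸ hker) hx
      let a : (Sp j (DualNumber L)).left ⟶ kerSch f := pullback.lift e.left (Sp j (DualNumber L)).hom (by
        rw [← Over.comp_left, he, MonoFibres.one_left])
      have hap : a ≫ p = (Sp j (DualNumber L)).hom := by rw [hp]; exact pullback.lift_snd _ _ _
      let i : Sp j L ⟶ Sp j (DualNumber L) := mor j (TrivSqZeroExt.fstHom L L L)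
      have hi : i ≫ e = 1 := by
        show i ≫ gp j _ ≫ jU = 1
        rw [← Category.assoc, mor_gp, TrivSqZeroExt.fstHom_apply, DualNumber.fst_eps, gp_zero, MonObj.one_comp]
      have hia : i.left ≫ a = (i.left ≫ a ≫ p) ≫ σ := by
        apply pullback.hom_ext
        · rw [Category.assoc, pullback.lift_fst, Category.assoc, pullback.lift_fst, hap, Over.w i]
          exact (congrArg CommaMorphism.left hi).trans (MonoFibres.one_left (Z := Sp j L))
        · rw [Category.assoc, pullback.lift_snd, Category.assoc, pullback.lift_snd, Category.comp_id, hap]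
      have hsurj : ∀ q : (Sp j (DualNumber L)).left, ∃ o, i.left o = q := fun q => by
        refine ⟨(⊥ : PrimeSpectrum L), ?_⟩
        refine PrimeSpectrum.ext (SetLike.ext fun w => ?_)
        show (TrivSqZeroExt.fst w ∈ (⊥ : Ideal L)) ↔ w ∈ q.asIdeal
        rw [Ideal.mem_bot]
        refine ⟨fun hw => ?_, fun hw => ?_⟩
        · refine q.2.mem_of_pow_mem 2 ?_
          rw [show w ^ 2 = 0 from TrivSqZeroExt.ext (by simp [hw]) (by simp [hw, pow_two])]
          exact zero_mem _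
        · by_contra hne
          exact q.2.ne_top (Ideal.eq_top_of_isUnit_mem _ hw
            (TrivSqZeroExt.isUnit_iff_isUnit_fst.2 (isUnit_iff_ne_zero.2 hne)))
      have hpa : ∀ q : (Sp j (DualNumber L)).left, p (a q) ∈ σ ⁻¹ᵁ W := fun q => by
        rw [← Scheme.Hom.comp_apply, hap]
        show j _ ∈ _
        exact hU _
      have key := hagree a (fun q => by
        obtain ⟨o, rfl⟩ := hsurj q
        rw [← Scheme.Hom.comp_apply, hia, Scheme.Hom.comp_apply, Scheme.Hom.comp_apply]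
        exact hpa _) hpa
        (fun q => by
          obtain ⟨o, rfl⟩ := hsurj q
          exact ⟨L, inferInstance, i.left, o, rfl, hia⟩)
      have h0 : e = 1 := by
        apply Over.OverMorphism.ext
        refine (pullback.lift_fst e.left (Sp j (DualNumber L)).hom _).symm.trans
          ((congrArg (· ≫ pullback.fst f.left e₀) key).trans ?_)
        show ((a ≫ p) ≫ σ) ≫ pullback.fst f.left e₀ = _
        rw [hap, Category.assoc, pullback.lift_fst, MonoFibres.one_left]
      have h1 := congrArg (fun v : DualNumber L => TrivSqZeroExt.snd v)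
        (congrArg gv (semidirect_unique hiso (t := 1) (t' := 1)
          (x := gp j (DualNumber.eps : DualNumber L)) (x' := 1) (by
            rw [MonObj.one_comp, MonObj.one_comp, _root_.one_mul, _root_.one_mul]; exact h0)).2)
      rw [gv_gp] at h1
      simp only [DualNumber.snd_eps, gv, GaPts.gaFn_one, map_zero, TrivSqZeroExt.snd_zero] at h1
      exact one_ne_zero h1
    have hx1 : x = 1 := by rw [← gp_gv x, hx, gp_zero]
    rw [hq, hx1, MonObj.one_comp, _root_.mul_one] at hker ⊢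
    rw [Category.assoc] at hker
    rw [show t = 1 from (cancel_mono (jT ≫ f)).1 (hker.trans (MonObj.one_comp _).symm), MonObj.one_comp]
  -- the kernel is trivial over the open
  refine ⟨fun {Z} g₁ g₂ h => toBase_injective' (σ ⁻¹ᵁ W).ι ?_⟩
  have h' := congrArg (NilAction.toBase (σ ⁻¹ᵁ W).ι) h
  rw [toBase_comp_map', toBase_comp_map'] at h'
  refine mul_inv_eq_one.1 ?_
  let w := NilAction.toBase (σ ⁻¹ᵁ W).ι g₁ * (NilAction.toBase (σ ⁻¹ᵁ W).ι g₂)⁻¹
  show w = 1
  have hw : w ≫ f = 1 := by rw [MonObj.mul_comp, GrpObj.inv_comp, h', mul_inv_cancel]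
  let a : Z.left ⟶ kerSch f := pullback.lift w.left (Z.hom ≫ (σ ⁻¹ᵁ W).ι) (by
    rw [← Over.comp_left, hw, MonoFibres.one_left]
    rfl)
  have hap : a ≫ p = Z.hom ≫ (σ ⁻¹ᵁ W).ι := by rw [hp]; exact pullback.lift_snd _ _ _
  have hpa : ∀ q, p (a q) ∈ σ ⁻¹ᵁ W := fun q => by
    rw [← Scheme.Hom.comp_apply, hap, Scheme.Hom.comp_apply]
    exact (Z.hom q).2
  have hpts : ∀ q, Z.left.fromSpecResidueField q ≫ a = (Z.left.fromSpecResidueField q ≫ a ≫ p) ≫ σ := fun q => by
    refine (hpt _ (Z.left.fromSpecResidueField q ≫ a) fun o => ?_).trans (congrArg (· ≫ σ) (Category.assoc _ _ _))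
    rw [Scheme.Hom.comp_apply]
    exact hpa _
  have hr : ∀ q : Z.left, ∃ o, (Z.left.fromSpecResidueField q) o = q := fun q => by
    have : q ∈ Set.range (Z.left.fromSpecResidueField q) := by rw [Scheme.range_fromSpecResidueField]; rfl
    exact this
  have key := hagree a (fun q => by
    obtain ⟨o, ho⟩ := hr q
    rw [← ho, ← Scheme.Hom.comp_apply, hpts q, Scheme.Hom.comp_apply, Scheme.Hom.comp_apply]
    exact hpa _) hpa (fun q => by
    obtain ⟨o, ho⟩ := hr q
    exact ⟨_, inferInstance, _, o, ho, hpts q⟩)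
  apply Over.OverMorphism.ext
  refine (pullback.lift_fst w.left (Z.hom ≫ (σ ⁻¹ᵁ W).ι) _).symm.trans
    ((congrArg (· ≫ pullback.fst f.left e₀) key).trans ?_)
  show ((a ≫ p) ≫ σ) ≫ pullback.fst f.left e₀ = _
  rw [hap, Category.assoc, pullback.lift_fst, MonoFibres.one_left]
  rfl

end Groth.L14.RankOne
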