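import Groth.Agent.L14.RankOne.HomExist
import Groth.Agent.S5421

/-!
Generators and relations of a rank one system.
-/

set_option autoImplicit false
universe u

open CategoryTheory CategoryTheory.Limits MonoidalCategory CartesianMonoidalCategory MonObj AlgebraicGeometry
open Groth.L25 Groth.L25.RankOne

set_option backward.isDefEq.respectTransparency.types false
set_option synthInstance.maxHeartbeats 100000
set_option maxHeartbeats 1000000

noncomputable section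

namespace Groth.L14.RankOne

section abs

variable {A : Type*} [CommRing A] {P : Type*} [Group P] (a b : A → P) (τ : Aˣ → P) (w : P)
  (a_add : ∀ r s, a (r + s) = a r * a s) (b_add : ∀ r s, b (r + s) = b r * b s)
  (τ_mul : ∀ y z, τ (y * z) = τ y * τ z)
  (conj_a : ∀ (z : Aˣ) r, τ z * a r * (τ z)⁻¹ = a (z * z * r))
  (conj_b : ∀ (z : Aˣ) r, τ z * b r * (τ z)⁻¹ = b (↑z⁻¹ * ↑z⁻¹ * r))
  (hw : ∀ s : Aˣ, a s * b (-↑s⁻¹) * a s = τ s * w)

include a_add τ_mul conj_a conj_b hw in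
/-- The commutation formula for a unit, from the shape of the Weyl elements. -/
theorem comm_of_weyl (x : A) (y u : Aˣ) (hu : (u : A) = 1 + x * y) :
    a x * b y = b (y * ↑u⁻¹) * τ u * a (x * ↑u⁻¹) := by
  have ha : ∀ r, a (-r) = (a r)⁻¹ := fun r => by
    refine eq_inv_of_mul_eq_one_left ?_
    rw [← a_add, neg_add_cancel]
    have := a_add 0 0
    rw [add_zero] at this
    exact left_eq_mul.1 this
  let s : Aˣ := -y⁻¹
  let d : Aˣ := -(u * y)⁻¹
  have hs : -(↑s⁻¹ : A) = y := by simp [s]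
  have hd : -(↑d⁻¹ : A) = u * y := by simp [d, mul_inv_rev, mul_comm]
  have h1 : b y = a (-s) * τ s * w * a (-s) := by
    rw [_root_.mul_assoc (a _) (τ s), ← hw s, hs, ha]
    group
  have hp : (↑s⁻¹ : A) * ↑s⁻¹ * (x - s) = u * y := by
    have e1 : (s : A) * y = -1 := by simp [s]
    have e2 : (↑s⁻¹ : A) = -(y : A) := by rw [← hs, neg_neg]
    rw [e2]
    linear_combination -(y : A) * hu - (y : A) * e1
  have h2 : a (x - s) * τ s = τ s * a (u * y) := by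
    conv_rhs => rw [← hp]
    have h := conj_a s (↑s⁻¹ * ↑s⁻¹ * (x - s))
    rw [show (s : A) * s * (↑s⁻¹ * ↑s⁻¹ * (x - s)) = ((s : A) * ↑s⁻¹) * ((s : A) * ↑s⁻¹) * (x - s) by ring,
      Units.mul_inv, _root_.one_mul, _root_.one_mul] at h
    rw [← h]
    group
  have h3 : a (u * y) * (τ d)⁻¹ * a d = (τ d)⁻¹ := by
    have h := conj_a d (u * y)
    have e : (d : A) * d * (u * y) = -(d : A) := by
      rw [← hd]
      linear_combination -(d : A) * d.mul_inv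
    rw [e, ha, mul_inv_eq_iff_eq_mul] at h
    calc a (u * y) * (τ d)⁻¹ * a d = (τ d)⁻¹ * ((τ d * a (u * y)) * ((τ d)⁻¹ * a d)) := by group
      _ = (τ d)⁻¹ := by rw [h]; group
  have hsd : s = u * d := by
    refine Units.ext ?_
    simp [s, d, mul_inv_rev]
  have hτ : τ s * (τ d)⁻¹ = τ u := by rw [hsd, τ_mul, mul_inv_cancel_right]
  have hda : (d : A) - s = x * ↑u⁻¹ := by
    have e1 : (d : A) = -(↑y⁻¹ * ↑u⁻¹) := by simp [d, mul_inv_rev]
    have e2 : (s : A) = -↑y⁻¹ := by simp [s]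
    rw [e1, e2]
    linear_combination -(↑y⁻¹ : A) * u.inv_mul + (↑u⁻¹ : A) * ↑y⁻¹ * hu + x * ↑u⁻¹ * y.inv_mul
  calc a x * b y = (a x * a (-s)) * τ s * w * a (-s) := by rw [h1]; group
    _ = τ s * (a (u * y) * w) * a (-s) := by rw [← a_add, ← sub_eq_add_neg, h2]; group
    _ = τ s * (a (u * y) * ((τ d)⁻¹ * (τ d * w))) * a (-s) := by group
    _ = τ s * ((a (u * y) * (τ d)⁻¹ * a d) * b (u * y) * a d) * a (-s) := by rw [← hw d, hd]; group
    _ = τ u * b (u * y) * (a d * a (-s)) := by rw [h3, ← hτ]; group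
    _ = _ := by
      rw [← a_add, ← sub_eq_add_neg, hda,
        show b (y * ↑u⁻¹) = τ u * b (u * y) * (τ u)⁻¹ by
          rw [conj_b]; congr 1; linear_combination -(y : A) * ↑u⁻¹ * u.inv_mul]
      group

include b_add τ_mul conj_b in
/-- The commutation formula for a sum, from those of the summands. -/
theorem comm_of_split
    (hc : ∀ (x : A) (y u : Aˣ), (u : A) = 1 + x * y → a x * b y = b (y * ↑u⁻¹) * τ u * a (x * ↑u⁻¹))
    (x y : A) (w₁ q u u₁ : Aˣ) (hy : y = w₁ + q) (hu : (u : A) = 1 + x * y) (hu₁ : (u₁ : A) = 1 + x * w₁) :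
    a x * b y = b (y * ↑u⁻¹) * τ u * a (x * ↑u⁻¹) := by
  have h2 : ((u * u₁⁻¹ : Aˣ) : A) = 1 + x * ↑u₁⁻¹ * q := by
    rw [Units.val_mul, hu, hy]
    linear_combination u₁.inv_mul - (↑u₁⁻¹ : A) * hu₁
  calc a x * b y = (a x * b w₁) * b q := by rw [hy, b_add]; group
    _ = b (↑w₁ * ↑u₁⁻¹) * τ u₁ * (a (x * ↑u₁⁻¹) * b q) := by rw [hc x w₁ u₁ hu₁]; group
    _ = b (↑w₁ * ↑u₁⁻¹) * (τ u₁ * b (q * ↑(u * u₁⁻¹)⁻¹) * (τ u₁)⁻¹) * (τ u₁ * τ (u * u₁⁻¹)) *
        a (x * ↑u₁⁻¹ * ↑(u * u₁⁻¹)⁻¹) := by rw [hc _ q _ h2]; group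
    _ = _ := by
      rw [conj_b, ← b_add, ← τ_mul, mul_inv_cancel_comm_assoc u₁ u]
      simp only [mul_inv_rev, inv_inv, Units.val_mul]
      have e1 : (↑u₁⁻¹ : A) * u₁ = 1 := u₁.inv_mul
      have e2 : (↑u⁻¹ : A) * u = 1 := u.inv_mul
      have hy' : y * u₁ = w₁ * u + q := by rw [hu, hu₁, hy]; ring
      rw [show (↑w₁ : A) * ↑u₁⁻¹ + ↑u₁⁻¹ * ↑u₁⁻¹ * (q * (↑u₁ * ↑u⁻¹)) = y * ↑u⁻¹ by
          linear_combination (↑q * ↑u⁻¹ * ↑u₁⁻¹) * e1 - (↑u₁⁻¹ * ↑u⁻¹) * hy' + (y * ↑u⁻¹) * e1 -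
            (↑w₁ * ↑u₁⁻¹) * e2,
        show x * ↑u₁⁻¹ * (↑u₁ * ↑u⁻¹) = x * ↑u⁻¹ by linear_combination x * ↑u⁻¹ * e1]

end abs

variable {S : Scheme.{u}}

/-- Locally every element is the sum of two units avoiding a forbidden value. -/
theorem exists_split {R : Type u} [CommRing R] {j : Spec (CommRingCat.of R) ⟶ S}
    (x y : Sp j R ⟶ Red.Ga S) (hu : IsUnit (1 + Red.gaFn x * Red.gaFn y)) :
    ∃ (X' : Over S) (c : X' ⟶ Sp j R) (w q u : (Γ(X'.left, ⊤))ˣ), Epi c ∧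
      Red.gaFn (c ≫ y) = w + q ∧ (u : Γ(X'.left, ⊤)) = 1 + Red.gaFn (c ≫ x) * w := by
  let x₀ : R := gv x
  let y₀ : R := gv y
  have hu₀ : IsUnit (1 + x₀ * y₀) := by
    have := hu.map (Scheme.ΓSpecIso (CommRingCat.of R)).hom.hom
    rw [map_add, map_one, map_mul] at this
    exact this
  let f₁ : Polynomial R := Polynomial.X
  let f₂ : Polynomial R := Polynomial.C y₀ - Polynomial.X
  let f₃ : Polynomial R := Polynomial.C (1 + x₀ * y₀) - Polynomial.X * Polynomial.C x₀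
  let f := f₁ * f₂ * f₃
  let R' := Localization.Away f
  let h : R →ₐ[R] R' := Algebra.ofId R R'
  let c : Sp j R' ⟶ Sp j R := mor j h
  haveI : Module.Flat (Polynomial R) R' := IsLocalization.flat R' (Submonoid.powers f)
  haveI : Module.Flat R R' := Module.Flat.trans R (Polynomial R) R'
  haveI : Flat c.left :=
    (HasRingHomProperty.Spec_iff (P := @Flat)).2 (RingHom.flat_algebraMap_iff.2 inferInstance)
  haveI : Surjective c.left := by
    refine ⟨fun p => ?_⟩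
    let p' : Ideal R := PrimeSpectrum.asIdeal p
    haveI : p'.IsPrime := PrimeSpectrum.isPrime p
    let Q : PrimeSpectrum (Polynomial R) := ⟨p'.map Polynomial.C, Ideal.isPrime_map_C_of_isPrime⟩
    have hmem : Q ∈ (PrimeSpectrum.basicOpen f : Set (PrimeSpectrum (Polynomial R))) := by
      show f₁ * f₂ * f₃ ∉ p'.map Polynomial.C
      intro hf
      have hone : (1 : R) ∉ p' := fun h => Ideal.IsPrime.ne_top inferInstance ((Ideal.eq_top_iff_one _).2 h)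
      have hP := Ideal.isPrime_map_C_of_isPrime (P := p')
      rcases hP.mem_or_mem hf with h1 | h1
      · rcases hP.mem_or_mem h1 with h2 | h2
        · have h3 := Ideal.mem_map_C_iff.1 h2 1
          simp [f₁] at h3
          exact hone h3
        · have h3 := Ideal.mem_map_C_iff.1 h2 1
          simp [f₂, Polynomial.coeff_C] at h3
          exact hone h3
      · have h3 := Ideal.mem_map_C_iff.1 h1 0
        simp only [f₃, Polynomial.coeff_sub, Polynomial.coeff_C_zero, Polynomial.coeff_X_mul_zero, sub_zero] at h3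
        exact Ideal.IsPrime.ne_top inferInstance (p'.eq_top_of_isUnit_mem h3 hu₀)
    rw [← PrimeSpectrum.localization_away_comap_range R' f] at hmem
    obtain ⟨P, hP⟩ := hmem
    refine ⟨P, PrimeSpectrum.ext ?_⟩
    show P.asIdeal.comap (algebraMap R R') = p'
    rw [IsScalarTower.algebraMap_eq R (Polynomial R) R', ← Ideal.comap_comap]
    rw [show P.asIdeal.comap (algebraMap (Polynomial R) R') = p'.map Polynomial.C from congrArg PrimeSpectrum.asIdeal hP]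
    ext z
    simp only [Ideal.mem_comap, Ideal.mem_map_C_iff, Polynomial.algebraMap_eq]
    refine ⟨fun hz => by simpa using hz 0, fun hz n => ?_⟩
    rw [Polynomial.coeff_C]
    split
    · exact hz
    · exact zero_mem _
  haveI : QuasiCompact c.left := inferInstanceAs (QuasiCompact (Spec.map _))
  haveI : Epi c.left := inferInstance
  let g := algebraMap (Polynomial R) R'
  have hg : IsUnit (g f₁ * g f₂ * g f₃) := by
    rw [← map_mul, ← map_mul]; exact IsLocalization.Away.algebraMap_isUnit _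
  obtain ⟨hg12, ⟨u, hu'⟩⟩ := IsUnit.mul_iff.1 hg
  obtain ⟨⟨q, hq⟩, ⟨w, hw⟩⟩ := IsUnit.mul_iff.1 hg12
  let e : R' →+* Γ((Sp j R').left, ⊤) := (Scheme.ΓSpecIso (CommRingCat.of R')).inv.hom
  have hx : ∀ x : Sp j R ⟶ Red.Ga S, Red.gaFn (c ≫ x) = e (g (Polynomial.C (gv x))) := fun x => by
    conv_lhs => rw [← gp_gv x, mor_gp, gaFn_gp]
    exact congrArg e (IsScalarTower.algebraMap_apply R (Polynomial R) R' (gv x))
  refine ⟨_, c, Units.map e.toMonoidHom w, Units.map e.toMonoidHom q, Units.map e.toMonoidHom u,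
    Over.epi_of_epi_left c, ?_, ?_⟩
  · rw [hx]
    show _ = e (w : R') + e (q : R')
    rw [hw, hq, ← map_add e, ← map_add g, sub_add_cancel]
  · rw [hx]
    show e (u : R') = 1 + _ * e (w : R')
    rw [hw, hu', ← map_mul e, ← map_mul g, ← map_one e, ← map_add e, ← map_one g, ← map_add g]
    congr 2
    simp only [f₂, f₃, map_add, map_mul, map_one]
    ring

variable {G T Gr : Over S} [GrpObj G] [GrpObj T] [GrpObj Gr] {i : T ⟶ G} [IsMonHom i]
  {α : T ⟶ Red.Gm S} [IsMonHom α] {pp pm : Red.Ga S ⟶ G} [IsMonHom pp] [IsMonHom pm]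
  {av : Red.Gm S ⟶ T} [IsMonHom av] (H : Sys i α pp pm av) (fT : T ⟶ Gr) [IsMonHom fT]
  (fα : Red.Ga S ⟶ Gr) [IsMonHom fα] (h : 𝟙_ (Over S) ⟶ Gr)

/-- The opposite root group from the positive one and the Weyl element. -/
def oppRoot : Red.Ga S ⟶ Gr :=
  (toUnit _ ≫ h) * ((𝟙 (Red.Ga S))⁻¹ ≫ fα) * (toUnit _ ≫ h)⁻¹

omit [IsMonHom fα] in
theorem comp_oppRoot {X : Over S} (y : X ⟶ Red.Ga S) :
    y ≫ oppRoot fα h = (toUnit X ≫ h) * (y⁻¹ ≫ fα) * (toUnit X ≫ h)⁻¹ := by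
  simp only [oppRoot, MonObj.comp_mul, GrpObj.comp_inv, Category.comp_id, ← Category.assoc, comp_toUnit]

theorem isMonHom_oppRoot : IsMonHom (oppRoot fα h) :=
  Groth.L25.Bridge.isMonHom_of_mul (oppRoot fα h) fun Y a b => by
    rw [comp_oppRoot, comp_oppRoot, comp_oppRoot,
      show (a * b)⁻¹ = a⁻¹ * b⁻¹ from GaPts.gaFn_injective (by
        show Red.gaFn _ = Red.gaFn _
        rw [GaPts.gaFn_inv, GaPts.gaFn_mul, GaPts.gaFn_mul, GaPts.gaFn_inv, GaPts.gaFn_inv, neg_add]),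
      MonObj.mul_comp]
    group

/-- The conditions on the values at the generators. -/
structure GenCond : Prop where
  conj : ∀ (X : Over S) (t : X ⟶ T) (x x' : X ⟶ Red.Ga S), Red.gaFn x' = Red.gmFn (t ≫ α) * Red.gaFn x →
    (t ≫ fT) * (x ≫ fα) * (t ≫ fT)⁻¹ = x' ≫ fα
  refl : ∀ (X : Over S) (t : X ⟶ T),
    (toUnit X ≫ h) * (t ≫ fT) * (toUnit X ≫ h)⁻¹ = (t * (t ≫ α ≫ av)⁻¹) ≫ fT
  sq : ∀ (X : Over S), (toUnit X ≫ h) * (toUnit X ≫ h) = GmPts.ptOfUnit (-1 : (Γ(X.left, ⊤))ˣ) ≫ av ≫ fT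
  cube : ∀ (X : Over S), ((toUnit X ≫ h) * (GaPts.ptOfElt (1 : Γ(X.left, ⊤)) ≫ fα)) ^ 3 = 1

variable {fT fα h}

include H in
/-- The relations give a rank one system. -/
theorem sys_gen (C : GenCond (α := α) (av := av) fT fα h) [Flat α.left] [Surjective α.left]
    (hcomm : ∀ {X : Over S} (a b : X ⟶ T), a * b = b * a) :
    Sys fT α fα (oppRoot fα h) av ∧ ∀ X : Over S,
      (GaPts.ptOfElt (1 : Γ(X.left, ⊤)) ≫ fα) * (GaPts.ptOfElt (-1 : Γ(X.left, ⊤)) ≫ oppRoot fα h) *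
        (GaPts.ptOfElt (1 : Γ(X.left, ⊤)) ≫ fα) = toUnit X ≫ h := by
  haveI := isMonHom_oppRoot fα h
  have hχ : ∀ {X : Over S} (z : (Γ(X.left, ⊤))ˣ), GmPts.unitOfPt ((GmPts.ptOfUnit z ≫ av) ≫ α) = z * z :=
    fun z => by rw [unitOfPt_av H, GmPts.unitOfPt_ptOfUnit]
  let a : ∀ X : Over S, Γ(X.left, ⊤) → (X ⟶ Gr) := fun X r => GaPts.ptOfElt r ≫ fα
  let b : ∀ X : Over S, Γ(X.left, ⊤) → (X ⟶ Gr) := fun X r => GaPts.ptOfElt r ≫ oppRoot fα h
  let w : ∀ X : Over S, X ⟶ Gr := fun X => toUnit X ≫ h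
  let τ : ∀ X : Over S, (Γ(X.left, ⊤))ˣ → (X ⟶ Gr) := fun X z => GmPts.ptOfUnit z ≫ av ≫ fT
  have a_add : ∀ X r s, a X (r + s) = a X r * a X s := fun X r s => by
    simp only [a]; rw [ptOfElt_add, MonObj.mul_comp]
  have b_add : ∀ X r s, b X (r + s) = b X r * b X s := fun X r s => by
    simp only [b]; rw [ptOfElt_add, MonObj.mul_comp]
  have τ_mul : ∀ X y z, τ X (y * z) = τ X y * τ X z := fun X y z => by
    simp only [τ]; rw [GmPts.ptOfUnit_mul, MonObj.mul_comp]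
  have hb : ∀ X r, b X r = w X * a X (-r) * (w X)⁻¹ := fun X r => by
    simp only [a, b, w]
    rw [comp_oppRoot]
    congr 3
    exact GaPts.gaFn_injective (by
      show Red.gaFn _ = Red.gaFn _
      rw [GaPts.gaFn_inv, GaPts.gaFn_ptOfElt, GaPts.gaFn_ptOfElt])
  have conjA : ∀ (X : Over S) (t : X ⟶ T) (r : Γ(X.left, ⊤)),
      (t ≫ fT) * a X r * (t ≫ fT)⁻¹ = a X (Units.val (GmPts.unitOfPt (t ≫ α)) * r) := fun X t r =>
    C.conj X t _ _ (by rw [GaPts.gaFn_ptOfElt, GaPts.gaFn_ptOfElt]; rfl)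
  have hinv : ∀ {X : Over S} (z : (Γ(X.left, ⊤))ˣ),
      (GmPts.ptOfUnit z⁻¹ ≫ av : X ⟶ T) = (GmPts.ptOfUnit z ≫ av)⁻¹ := fun z =>
    eq_inv_of_mul_eq_one_left
      (by rw [← MonObj.mul_comp, ← GmPts.ptOfUnit_mul, inv_mul_cancel, GmPts.ptOfUnit_one, MonObj.one_comp])
  have hav : ∀ {X : Over S} (t : X ⟶ T), t ≫ α ≫ av = GmPts.ptOfUnit (GmPts.unitOfPt (t ≫ α)) ≫ av :=
    fun t => by rw [GmPts.ptOfUnit_unitOfPt, Category.assoc]
  have hchi : ∀ {X : Over S} (t : X ⟶ T),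
      GmPts.unitOfPt ((t * (t ≫ α ≫ av)⁻¹) ≫ α) = (GmPts.unitOfPt (t ≫ α))⁻¹ := fun {X} t => by
    rw [hav, ← hinv]
    show chiW α X (t * (GmPts.ptOfUnit _ ≫ av)) = (chiW α X t)⁻¹
    rw [map_mul]
    show GmPts.unitOfPt (t ≫ α) * GmPts.unitOfPt ((_ ≫ av) ≫ α) = _
    rw [hχ, mul_inv_cancel_left]
    rfl
  have hrefl : ∀ (X : Over S) (t : X ⟶ T),
      (t ≫ fT) * w X = w X * ((t * (t ≫ α ≫ av)⁻¹) ≫ fT) := fun X t => by
    let t' := t * (t ≫ α ≫ av)⁻¹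
    have h1 := C.refl X t'
    have h2 : t' ≫ α ≫ av = (t ≫ α ≫ av)⁻¹ := by rw [hav, hchi, hinv, ← hav]
    rw [h2, inv_inv, show t' * (t ≫ α ≫ av) = t from inv_mul_cancel_right _ _, mul_inv_eq_iff_eq_mul] at h1
    exact h1.symm
  have conjB : ∀ (X : Over S) (t : X ⟶ T) (r : Γ(X.left, ⊤)),
      (t ≫ fT) * b X r * (t ≫ fT)⁻¹ = b X (↑(GmPts.unitOfPt (t ≫ α))⁻¹ * r) := fun X t r => by
    let t' := t * (t ≫ α ≫ av)⁻¹
    have e : GmPts.unitOfPt (t' ≫ α) = (GmPts.unitOfPt (t ≫ α))⁻¹ := hchi t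
    calc (t ≫ fT) * b X r * (t ≫ fT)⁻¹
        = ((t ≫ fT) * w X) * a X (-r) * ((t ≫ fT) * w X)⁻¹ := by rw [hb]; group
      _ = w X * ((t' ≫ fT) * a X (-r) * (t' ≫ fT)⁻¹) * (w X)⁻¹ := by rw [hrefl]; simp only [t']; group
      _ = _ := by rw [conjA, e, hb, mul_neg]
  have tau_a : ∀ (X : Over S) (z : (Γ(X.left, ⊤))ˣ) r, τ X z * a X r * (τ X z)⁻¹ = a X (z * z * r) := fun X z r => by
    simp only [τ]
    rw [← Category.assoc, conjA, hχ, Units.val_mul]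
  have tau_b : ∀ (X : Over S) (z : (Γ(X.left, ⊤))ˣ) r, τ X z * b X r * (τ X z)⁻¹ = b X (↑z⁻¹ * ↑z⁻¹ * r) := fun X z r => by
    simp only [τ]
    rw [← Category.assoc, conjB, hχ, mul_inv_rev, Units.val_mul]
  have tau_w : ∀ (X : Over S) (z : (Γ(X.left, ⊤))ˣ), τ X z * w X = w X * τ X z⁻¹ := fun X z => by
    simp only [τ]
    rw [← Category.assoc _ av fT, hrefl]
    congr 1
    rw [hav, hχ, GmPts.ptOfUnit_mul, ← Category.assoc _ av fT]
    congr 1
    rw [MonObj.mul_comp, mul_inv_rev, ← _root_.mul_assoc, mul_inv_cancel, _root_.one_mul, hinv]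
  have base : ∀ X, a X 1 * b X (-1) * a X 1 = w X := fun X => by
    have h3 : w X * a X 1 * (w X * a X 1) * (w X * a X 1) = 1 := by
      have := C.cube X
      rwa [pow_succ, pow_two] at this
    have h4 : w X * w X = τ X (-1) := C.sq X
    have h5 : τ X (-1) * τ X (-1) = 1 := by
      rw [← τ_mul, neg_mul_neg, _root_.one_mul]
      simp only [τ]
      rw [GmPts.ptOfUnit_one, MonObj.one_comp]
    have h6 : τ X (-1) * a X 1 = a X 1 * τ X (-1) := by
      have := tau_a X (-1) 1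
      rw [show ((-1 : (Γ(X.left, ⊤))ˣ) : Γ(X.left, ⊤)) * ((-1 : (Γ(X.left, ⊤))ˣ) : Γ(X.left, ⊤)) * 1 = 1 by simp,
        mul_inv_eq_iff_eq_mul] at this
      exact this
    have hi : (w X)⁻¹ = w X * τ X (-1) :=
      inv_eq_of_mul_eq_one_right (by rw [← _root_.mul_assoc, h4, h5])
    rw [hb, neg_neg]
    refine mul_inv_eq_one.1 ?_
    calc a X 1 * (w X * a X 1 * (w X)⁻¹) * a X 1 * (w X)⁻¹
        = a X 1 * w X * a X 1 * w X * (τ X (-1) * a X 1) * w X * τ X (-1) := by rw [hi]; group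
      _ = a X 1 * w X * a X 1 * w X * a X 1 * (τ X (-1) * w X) * τ X (-1) := by rw [h6]; group
      _ = (a X 1 * w X * a X 1 * w X * a X 1 * w X) * (τ X (-1) * τ X (-1)) := by
        rw [tau_w, inv_neg, inv_one]; group
      _ = a X 1 * (w X * a X 1 * (w X * a X 1) * (w X * a X 1)) * (a X 1)⁻¹ := by rw [h5]; group
      _ = 1 := by rw [h3]; group
  have hw : ∀ (X : Over S) (s : (Γ(X.left, ⊤))ˣ), a X s * b X (-↑s⁻¹) * a X s = τ X s * w X := fun X s => by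
    obtain ⟨X', c, t, -, hc, ht⟩ := exists_char_lift α (GmPts.ptOfUnit s : X ⟶ Red.Gm S)
    have hs : GmPts.unitOfPt (t ≫ α) = Units.map c.left.appTop.hom.toMonoidHom s := by
      rw [ht, GmPts.unitOfPt_comp, GmPts.unitOfPt_ptOfUnit]
    rw [← cancel_epi c]
    simp only [a, b, w, τ, MonObj.comp_mul, ← Category.assoc, comp_toUnit, GaPts.ptOfElt_comp]
    rw [← ht]
    have key := congrArg (fun g => (t ≫ fT) * g * (t ≫ fT)⁻¹) (base X')
    rw [show (t ≫ fT) * (a X' 1 * b X' (-1) * a X' 1) * (t ≫ fT)⁻¹ = ((t ≫ fT) * a X' 1 * (t ≫ fT)⁻¹) *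
        ((t ≫ fT) * b X' (-1) * (t ≫ fT)⁻¹) * ((t ≫ fT) * a X' 1 * (t ≫ fT)⁻¹) by group,
      conjA, conjB, _root_.mul_one, mul_neg, _root_.mul_one, hs] at key
    have e : c.left.appTop (-↑s⁻¹) = -↑(Units.map c.left.appTop.hom.toMonoidHom s)⁻¹ := by
      rw [map_neg, ← map_inv]
      rfl
    rw [e]
    refine key.trans ?_
    simp only [w]
    have h1 := hrefl X' t
    simp only [w] at h1
    rw [h1, hcomm t, MonObj.mul_comp, GrpObj.inv_comp, ← _root_.mul_assoc, mul_inv_cancel_right]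
    have h2 := hrefl X' (t ≫ α ≫ av)
    simp only [w] at h2
    have e2 : (t ≫ α ≫ av) * ((t ≫ α ≫ av) ≫ α ≫ av)⁻¹ = (t ≫ α ≫ av)⁻¹ := by
      have e3 : GmPts.unitOfPt ((t ≫ α ≫ av) ≫ α) = GmPts.unitOfPt (t ≫ α) * GmPts.unitOfPt (t ≫ α) := by
        conv_lhs => rw [← Category.assoc t α av, unitOfPt_av H]
      rw [← Category.assoc (t ≫ α ≫ av), ← GmPts.ptOfUnit_unitOfPt ((t ≫ α ≫ av) ≫ α), e3, GmPts.ptOfUnit_mul,
        GmPts.ptOfUnit_unitOfPt, MonObj.mul_comp, Category.assoc, mul_inv_rev, mul_inv_cancel_left]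
    rw [e2, GrpObj.inv_comp] at h2
    simp only [Category.assoc] at h2 ⊢
    exact h2.symm
  refine ⟨⟨fun X t x => ⟨GaPts.ptOfElt (Red.gmFn (t ≫ α) * Red.gaFn x), ?_, by rw [GaPts.gaFn_ptOfElt]⟩,
    fun X t y => ⟨GaPts.ptOfElt (↑(GmPts.unitOfPt (t ≫ α))⁻¹ * Red.gaFn y), ?_, ?_⟩, H.h2,
    fun X x y hu => ?_⟩, base⟩
  · rw [← C.conj X t x _ (by rw [GaPts.gaFn_ptOfElt])]
  · have := conjB X t (Red.gaFn y)
    simp only [b, GaPts.ptOfElt_gaFn] at this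
    exact this.symm
  · rw [GaPts.gaFn_ptOfElt, ← GmPts.val_unitOfPt, mul_right_comm, Units.inv_mul, _root_.one_mul]
  · obtain ⟨u, hu'⟩ := hu
    refine ⟨GaPts.ptOfElt (Red.gaFn x * ↑u⁻¹), GaPts.ptOfElt (Red.gaFn y * ↑u⁻¹), GmPts.ptOfUnit u, ?_, ?_, ?_, ?_⟩
    · rw [← GmPts.val_unitOfPt, GmPts.unitOfPt_ptOfUnit, hu']
    · rw [GaPts.gaFn_ptOfElt, ← GmPts.val_unitOfPt, GmPts.unitOfPt_ptOfUnit, _root_.mul_assoc, Units.inv_mul,
        _root_.mul_one]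
    · rw [GaPts.gaFn_ptOfElt, ← GmPts.val_unitOfPt, GmPts.unitOfPt_ptOfUnit, _root_.mul_assoc, Units.inv_mul,
        _root_.mul_one]
    · refine hom_ext_affine fun A _ j p => ?_
      rw [← cancel_epi (self j).hom, ← Category.assoc _ p, ← Category.assoc _ p]
      generalize (self j).hom ≫ p = p'
      have hu₁ : (Units.map p'.left.appTop.hom.toMonoidHom u : Γ((Sp j A).left, ⊤)) =
          1 + Red.gaFn (p' ≫ x) * Red.gaFn (p' ≫ y) := by
        show p'.left.appTop (u : Γ(X.left, ⊤)) = _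
        rw [hu', map_add, map_one, map_mul, ← GaPts.gaFn_comp, ← GaPts.gaFn_comp]
      obtain ⟨X', c, w₁, q, u₁, hc, hy, hu₁'⟩ := exists_split (p' ≫ x) (p' ≫ y) (hu₁ ▸ (Units.isUnit _))
      rw [← cancel_epi c, ← Category.assoc c p', ← Category.assoc c p']
      rw [← Category.assoc c p'] at hy hu₁'
      generalize c ≫ p' = k at hy hu₁' ⊢
      simp only [MonObj.comp_mul, ← Category.assoc, GaPts.ptOfElt_comp, map_mul]
      have hux : (Units.map k.left.appTop.hom.toMonoidHom u : Γ(X'.left, ⊤)) =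
          1 + Red.gaFn (k ≫ x) * Red.gaFn (k ≫ y) := by
        show k.left.appTop (u : Γ(X.left, ⊤)) = _
        rw [hu', map_add, map_one, map_mul, ← GaPts.gaFn_comp, ← GaPts.gaFn_comp]
      have := comm_of_split (a X') (b X') (τ X') (b_add X') (τ_mul X') (tau_b X')
        (comm_of_weyl (a X') (b X') (τ X') (w X') (a_add X') (τ_mul X') (tau_a X') (tau_b X') (hw X'))
        _ _ w₁ q _ u₁ hy hux hu₁'
      simp only [a, b, τ, GaPts.ptOfElt_gaFn] at this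
      rw [← GaPts.gaFn_comp, ← GaPts.gaFn_comp, ← GmPts.ptOfUnit_unitOfPt (k ≫ GmPts.ptOfUnit u),
        GmPts.unitOfPt_comp, GmPts.unitOfPt_ptOfUnit]
      simp only [← Category.assoc] at this
      exact this

include H in
omit [IsMonHom fT] [IsMonHom fα] in
/-- The Weyl element carries one root group to the other. -/
theorem w_one_conj_root {X : Over S} (r : Γ(X.left, ⊤)) :
    (rel H X).w 1 * (rel H X).a r * ((rel H X).w 1)⁻¹ = (rel H X).b (-r) := by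
  have hunit : ∀ {Y : Over S} (c : (Γ(Y.left, ⊤))ˣ),
      (rel H Y).w 1 * (rel H Y).a c * ((rel H Y).w 1)⁻¹ = (rel H Y).b (-(c : Γ(Y.left, ⊤))) := by
    intro Y c
    let R := rel H Y
    have h1 : R.w c * R.a c * (R.w c)⁻¹ = R.b (-(↑c⁻¹ : Γ(Y.left, ⊤))) := by
      have hb := braid H (X := Y) c
      rw [mul_inv_eq_iff_eq_mul]
      show R.a c * R.b (-↑c⁻¹) * R.a c * R.a c = R.b (-↑c⁻¹) * (R.a c * R.b (-↑c⁻¹) * R.a c)
      conv_lhs => rw [show R.a c * R.b (-↑c⁻¹) * R.a c = R.b (-↑c⁻¹) * R.a c * R.b (-↑c⁻¹) from hb]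
      simp only [_root_.mul_assoc]
    have h2 : R.w 1 = R.h c⁻¹ * R.w c := by rw [← R.w_mul_left, inv_mul_cancel]
    rw [h2, show R.h c⁻¹ * R.w c * R.a c * (R.h c⁻¹ * R.w c)⁻¹ =
      R.h c⁻¹ * (R.w c * R.a c * (R.w c)⁻¹) * (R.h c⁻¹)⁻¹ by group, h1, R.h_conj_b, inv_inv]
    congr 1
    linear_combination -(c : Γ(Y.left, ⊤)) * c.mul_inv
  refine hom_ext_affine fun A _ j p => ?_
  rw [← cancel_epi (self j).hom, ← Category.assoc _ p, ← Category.assoc _ p]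
  generalize (self j).hom ≫ p = p'
  obtain ⟨X', c, w₁, q, u₁, hc, hy, -⟩ := exists_split (1 : Sp j A ⟶ Red.Ga S)
    (GaPts.ptOfElt (p'.left.appTop r)) (by rw [GaPts.gaFn_one, zero_mul, add_zero]; exact isUnit_one)
  rw [← cancel_epi c, ← Category.assoc c p', ← Category.assoc c p']
  rw [GaPts.ptOfElt_comp, GaPts.gaFn_ptOfElt] at hy
  have hr : (c ≫ p').left.appTop r = w₁ + q := by
    rw [← hy, Over.comp_left, Scheme.Hom.comp_appTop]
    rfl
  generalize c ≫ p' = k at hr ⊢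
  rw [MonObj.comp_mul, MonObj.comp_mul, GrpObj.comp_inv, comp_w_one H]
  show (rel H X').w 1 * (k ≫ GaPts.ptOfElt r ≫ pp) * _ = k ≫ GaPts.ptOfElt (-r) ≫ pm
  rw [← Category.assoc, ← Category.assoc, GaPts.ptOfElt_comp, GaPts.ptOfElt_comp, map_neg, hr]
  let R := rel H X'
  show R.w 1 * R.a ((w₁ : Γ(X'.left, ⊤)) + q) * (R.w 1)⁻¹ = R.b (-((w₁ : Γ(X'.left, ⊤)) + q))
  rw [R.a_add, neg_add, R.b_add, ← hunit w₁, ← hunit q]
  simp only [R]
  group

end Groth.L14.RankOne
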