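import Groth.Agent.L14.RankOne.Generated
import Groth.Agent.L25.NilAction
import Groth.Agent.L08.WeilInsep.Props
import Groth.Agent.L14.Smoothing.SymAlg

/-!
In a reductive group the two root groups of a rank one system commute on no geometric fibre.
-/

set_option autoImplicit false
universe u

open CategoryTheory CategoryTheory.Limits MonoidalCategory CartesianMonoidalCategory MonObj AlgebraicGeometry
open Groth.L25 Groth.L25.NilAction

set_option backward.isDefEq.respectTransparency.types false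
set_option synthInstance.maxHeartbeats 100000
set_option maxHeartbeats 1000000

noncomputable section

namespace Groth.L14.RankOne

variable {S : Scheme.{u}}

/-- Points of a base change and composition. -/
theorem toBase_comp_map {P : Scheme.{u}} (g : P ⟶ S) {X X' : Over S} {Y : Over P} (a : Y ⟶ Red.bc g X) (f : X ⟶ X') :
    toBase g (a ≫ (Over.pullback g).map f) = toBase g a ≫ f := by
  conv_lhs => rw [← ofBase_toBase g a, ofBase_comp, toBase_ofBase]

theorem toBase_injective {P : Scheme.{u}} (g : P ⟶ S) {X : Over S} {Y : Over P} :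
    Function.Injective (toBase g : (Y ⟶ Red.bc g X) → _) :=
  Function.LeftInverse.injective (ofBase_toBase g)

theorem connectedSpace_line {K : Type u} [Field K] (g : Spec (CommRingCat.of K) ⟶ S) :
    ConnectedSpace (Red.bc g (Red.Ga S)).left := by
  let φ : (Sp g (Polynomial K)).left ⟶ (Red.bc g (Red.Ga S)).left :=
    pullback.lift (gp g (Polynomial.X : Polynomial K)).left
      (Spec.map (CommRingCat.ofHom (algebraMap K (Polynomial K)))) (Over.w (gp g (Polynomial.X : Polynomial K)))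
  haveI : Surjective φ := by
    refine ⟨fun v => ?_⟩
    let L : Type u := (Red.bc g (Red.Ga S)).left.residueField v
    let l : Spec (CommRingCat.of L) ⟶ Spec (CommRingCat.of K) :=
      (Red.bc g (Red.Ga S)).left.fromSpecResidueField v ≫ (Red.bc g (Red.Ga S)).hom
    letI : Algebra K L := (Spec.preimage l).hom.toAlgebra
    have hl : Spec.map (CommRingCat.ofHom (algebraMap K L)) = l := Spec.map_preimage l
    let t : Sp g L ⟶ Red.Ga S := Over.homMk ((Red.bc g (Red.Ga S)).left.fromSpecResidueField v ≫ pullback.fst _ _) (by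
      show (_ ≫ _) ≫ _ = Spec.map (CommRingCat.ofHom (algebraMap K L)) ≫ g
      rw [hl, Category.assoc, pullback.condition]
      exact (Category.assoc _ _ _).symm)
    have ht : mor g (Polynomial.aeval (gv t) : Polynomial K →ₐ[K] L) ≫ gp g (Polynomial.X : Polynomial K) = t := by
      rw [mor_gp, Polynomial.aeval_X, gp_gv]
    have e : (mor g (Polynomial.aeval (gv t) : Polynomial K →ₐ[K] L)).left ≫ φ =
        (Red.bc g (Red.Ga S)).left.fromSpecResidueField v := by
      apply pullback.hom_ext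
      · rw [Category.assoc, pullback.lift_fst]
        exact congrArg CommaMorphism.left ht
      · rw [Category.assoc, pullback.lift_snd]
        show Spec.map _ ≫ Spec.map _ = _
        rw [← Spec.map_comp, ← CommRingCat.ofHom_comp, AlgHom.toRingHom_eq_coe, AlgHom.comp_algebraMap, hl]
        rfl
    obtain ⟨z, hz⟩ : v ∈ Set.range ((Red.bc g (Red.Ga S)).left.fromSpecResidueField v) := by
      rw [Scheme.range_fromSpecResidueField]; rfl
    exact ⟨_, (congrArg (fun ψ : Spec (CommRingCat.of L) ⟶ (Red.bc g (Red.Ga S)).left => ψ z) e).trans hz⟩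
  haveI : IrreducibleSpace (Sp g (Polynomial K)).left :=
    inferInstanceAs (IrreducibleSpace (PrimeSpectrum (Polynomial K)))
  exact φ.surjective.connectedSpace φ.continuous

theorem smooth_line {P : Scheme.{u}} (g : P ⟶ S) : Smooth (Red.bc g (Red.Ga S)).hom := by
  haveI : Smooth (Red.GaZ.{u}).hom := by
    refine (HasRingHomProperty.Spec_iff (P := @Smooth)).2 ?_
    exact RingHom.smooth_algebraMap.2
      (inferInstanceAs (Algebra.Smooth (ULift.{u} ℤ) (SymmetricAlgebra (ULift.{u} ℤ) (ULift.{u} ℤ))))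
  haveI : Smooth (Red.Ga S).hom := MorphismProperty.pullback_snd (P := @Smooth) _ _ ‹_›
  exact inferInstanceAs (Smooth (pullback.snd (Red.Ga S).hom g))

theorem hasNoSubtorus_line {K : Type u} [Field K] [IsAlgClosed K] (g : Spec (CommRingCat.of K) ⟶ S) :
    Red.HasNoSubtorus K (Red.bc g (Red.Ga S)) := by
  refine Groth.L08.WeilInsep.hasNoSubtorus_of_torsion _ fun n t hn ht => toBase_injective g ?_
  let Z : Over S := Over.mk ((𝟙_ (Over (Spec (CommRingCat.of K)))).hom ≫ g)
  let φ := MonoidHom.mk' (toBase g : (𝟙_ (Over (Spec (CommRingCat.of K))) ⟶ Red.bc g (Red.Ga S)) → (Z ⟶ Red.Ga S))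
    (fun a b => toBase_mul g a b)
  have h1 : φ t ^ n = 1 := by rw [← map_pow, ht, map_one]
  have hpow : ∀ m : ℕ, Red.gaFn (φ t ^ m) = (m : Γ(Z.left, ⊤)) * Red.gaFn (φ t) := by
    intro m
    induction m with
    | zero => rw [pow_zero, GaPts.gaFn_one, Nat.cast_zero, zero_mul]
    | succ k ih => rw [pow_succ, GaPts.gaFn_mul, ih]; push_cast; ring
  have h2 : ((n : ℕ) : Γ(Z.left, ⊤)) * Red.gaFn (φ t) = 0 := by rw [← hpow, h1, GaPts.gaFn_one]
  have hu : IsUnit ((n : ℕ) : Γ(Z.left, ⊤)) := by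
    have := (isUnit_iff_ne_zero.2 hn).map (Scheme.ΓSpecIso (CommRingCat.of K)).inv.hom
    rwa [map_natCast] at this
  rw [toBase_one]
  refine GaPts.gaFn_injective ?_
  show Red.gaFn (φ t) = Red.gaFn _
  rw [GaPts.gaFn_one, hu.mul_right_eq_zero.1 h2]

variable {G T : Over S} [GrpObj G] [GrpObj T] {i : T ⟶ G} [IsMonHom i] {α : T ⟶ Red.Gm S} [IsMonHom α]
  {pp pm : Red.Ga S ⟶ G} [IsMonHom pp] [IsMonHom pm]

theorem not_commute (hG : Red.IsReductive G) (hcell : IsOpenImmersion (cell i pp pm).left)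
    (hpp : ∀ (X : Over S) (t : X ⟶ T) (x : X ⟶ Red.Ga S), ∃ x' : X ⟶ Red.Ga S,
      x' ≫ pp = (t ≫ i) * (x ≫ pp) * (t ≫ i)⁻¹ ∧ Red.gaFn x' = Red.gmFn (t ≫ α) * Red.gaFn x)
    (hpm : ∀ (X : Over S) (t : X ⟶ T) (y : X ⟶ Red.Ga S), ∃ y' : X ⟶ Red.Ga S,
      y' ≫ pm = (t ≫ i) * (y ≫ pm) * (t ≫ i)⁻¹ ∧ Red.gaFn y' * Red.gmFn (t ≫ α) = Red.gaFn y)
    (s : S) :
    ¬ ∀ (X : Over (Spec (CommRingCat.of (AlgebraicClosure (S.residueField s)))))
      (x y : X ⟶ Red.bc (Red.geomPt s) (Red.Ga S)),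
      (x ≫ (Over.pullback (Red.geomPt s)).map pp) * (y ≫ (Over.pullback (Red.geomPt s)).map pm) =
        (y ≫ (Over.pullback (Red.geomPt s)).map pm) * (x ≫ (Over.pullback (Red.geomPt s)).map pp) := by
  intro hcom
  have := hcell
  let K := AlgebraicClosure (S.residueField s)
  let g : Spec (CommRingCat.of K) ⟶ S := Red.geomPt s
  let U := Red.bc g (Red.Ga S)
  let iU : U ⟶ Red.bc g G := (Over.pullback g).map pp
  -- the root groups commute over the geometric point
  have hc : ∀ {X : Over S} (_ : X ⟶ Over.mk g) (x y : X ⟶ Red.Ga S), Commute (x ≫ pp) (y ≫ pm) := by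
    intro X e x y
    let Y : Over (Spec (CommRingCat.of K)) := Over.mk e.left
    let c : Over.mk (Y.hom ≫ g) ⟶ X := Over.homMk (𝟙 X.left) (by
      show 𝟙 X.left ≫ X.hom = e.left ≫ g
      rw [Category.id_comp]; exact (Over.w e).symm)
    haveI : IsIso c.left := inferInstanceAs (IsIso (𝟙 X.left))
    haveI : IsIso ((Over.forget S).map c) := ‹IsIso c.left›
    haveI : IsIso c := isIso_of_reflects_iso c (Over.forget S)
    have h := congrArg (toBase g) (hcom Y (ofBase g (c ≫ x)) (ofBase g (c ≫ y)))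
    rw [toBase_mul, toBase_mul, toBase_comp_map, toBase_comp_map, toBase_ofBase, toBase_ofBase, Category.assoc,
      Category.assoc, ← MonObj.comp_mul, ← MonObj.comp_mul] at h
    exact (cancel_epi c).1 h
  -- so the big cell is the whole fibre
  have hmem : ∀ {X : Over S} (_ : X ⟶ Over.mk g) (a : X ⟶ G), Mem i pp pm a := by
    intro X e a
    obtain ⟨X', f, b, c, -, hsurj, -, hb, hc', he⟩ := exists_two_cell hG hcell a
    haveI := hsurj
    refine Mem.of_comp f ?_
    obtain ⟨Y₁, t₁, Z₁, rfl⟩ := hb.exists_decomp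
    obtain ⟨Y₂, t₂, Z₂, rfl⟩ := hc'.exists_decomp
    obtain ⟨Y₂', hY, -⟩ := hpm X' t₁ Y₂
    obtain ⟨Z₁', hZ, -⟩ := hpp X' t₂⁻¹ Z₁
    rw [GrpObj.inv_comp, inv_inv] at hZ
    have key : f ≫ a = ((Y₁ * Y₂') ≫ pm) * ((t₁ * t₂) ≫ i) * ((Z₁' * Z₂) ≫ pp) := by
      rw [he, MonObj.mul_comp, MonObj.mul_comp, MonObj.mul_comp, hY, hZ]
      have h := (hc (f ≫ e) Z₁ Y₂).eq
      calc (Y₁ ≫ pm) * (t₁ ≫ i) * (Z₁ ≫ pp) * ((Y₂ ≫ pm) * (t₂ ≫ i) * (Z₂ ≫ pp))
          = (Y₁ ≫ pm) * (t₁ ≫ i) * ((Z₁ ≫ pp) * (Y₂ ≫ pm)) * (t₂ ≫ i) * (Z₂ ≫ pp) := by group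
        _ = _ := by rw [h]; group
    rw [key]
    exact mem_mul _ _ _
  -- the cell is the fibre
  have hiso : IsIso ((Over.pullback g).map (cell i pp pm)) := by
    let P : Over S := Over.mk ((Red.bc g G).hom ≫ g)
    obtain ⟨w, hw⟩ := (mem_iff_exists (g := toBase g (𝟙 (Red.bc g G)))).1
      (hmem (X := P) (Over.homMk (Red.bc g G).hom rfl) _)
    haveI : Mono (cell i pp pm).left := inferInstance
    haveI : Mono (cell i pp pm) := Over.mono_of_mono_left _
    haveI : (Over.pullback g).PreservesMonomorphisms := inferInstance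
    haveI : IsSplitEpi ((Over.pullback g).map (cell i pp pm)) := ⟨⟨ofBase g w, toBase_injective g (by
      rw [toBase_comp_map, toBase_ofBase, hw])⟩⟩
    exact isIso_of_mono_of_isSplitEpi _
  haveI : IsAffineHom G.hom := hG.1
  haveI := isConnected_fibre_of_reductive hG
  -- the root group is closed
  have hclosed : IsClosedImmersion iU.left := by
    let D := (Red.Ga S ⊗ T) ⊗ Red.Ga S
    let sec : Red.Ga S ⟶ D := lift (lift 1 1) (𝟙 _)
    have e : sec ≫ cell i pp pm = pp := by
      rw [lift_cell, MonObj.one_comp, MonObj.one_comp, _root_.one_mul, _root_.one_mul, Category.id_comp]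
    haveI := hiso
    let cK := (Over.pullback g).map (cell i pp pm)
    haveI : IsIso cK.left := inferInstanceAs (IsIso ((Over.forget _).map cK))
    let sK := (Over.pullback g).map sec
    let qK := (Over.pullback g).map (snd (Red.Ga S ⊗ T) (Red.Ga S))
    haveI : IsAffineHom ((Over.pullback g).obj G).hom := MorphismProperty.pullback_snd _ _ hG.1
    haveI : IsSeparated ((Over.pullback g).obj G).hom := inferInstance
    haveI : IsSeparated ((Over.pullback g).obj D).hom := by
      rw [← Over.w cK]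
      infer_instance
    haveI : IsSeparated qK.left := by
      haveI : IsSeparated (qK.left ≫ ((Over.pullback g).obj (Red.Ga S)).hom) := by rw [Over.w qK]; infer_instance
      exact IsSeparated.of_comp qK.left ((Over.pullback g).obj (Red.Ga S)).hom
    haveI : IsClosedImmersion (sK.left ≫ qK.left) := by
      rw [← Over.comp_left, ← Functor.map_comp, lift_snd, CategoryTheory.Functor.map_id]
      infer_instance
    haveI : IsClosedImmersion sK.left := IsClosedImmersion.of_comp sK.left qK.left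
    show IsClosedImmersion ((Over.pullback g).map pp).left
    rw [← e, Functor.map_comp, Over.comp_left]
    infer_instance
  -- the root group is normal
  have hnorm : AlgGrp.IsNormalHom iU := by
    intro X h n
    let X' : Over S := Over.mk (X.hom ≫ g)
    let e : X' ⟶ Over.mk g := Over.homMk X.hom rfl
    obtain ⟨Y, t, Z, hd⟩ := (hmem e (toBase g h)).exists_decomp
    obtain ⟨r', hr, -⟩ := hpp X' t (toBase g n)
    refine ⟨ofBase g r', toBase_injective g ?_⟩
    have hinv : toBase g h⁻¹ = (toBase g h)⁻¹ :=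
      map_inv (MonoidHom.mk' (toBase g) (toBase_mul g) : (X ⟶ Red.bc g G) →* (X' ⟶ G)) h
    rw [toBase_mul, toBase_mul, hinv, toBase_comp_map, toBase_comp_map, toBase_ofBase, hd, hr]
    have hzz : (Z ≫ pp) * (toBase g n ≫ pp) * (Z ≫ pp)⁻¹ = toBase g n ≫ pp := by
      rw [← MonObj.mul_comp, show Z * toBase g n = toBase g n * Z from GaPts.gaFn_injective (by
        show Red.gaFn _ = Red.gaFn _
        rw [GaPts.gaFn_mul, GaPts.gaFn_mul, add_comm]), MonObj.mul_comp, mul_inv_cancel_right]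
    have hyy : (Y ≫ pm) * (r' ≫ pp) * (Y ≫ pm)⁻¹ = r' ≫ pp := by
      rw [← (hc e r' Y).eq, mul_inv_cancel_right]
    calc (Y ≫ pm) * (t ≫ i) * (Z ≫ pp) * (toBase g n ≫ pp) * ((Y ≫ pm) * (t ≫ i) * (Z ≫ pp))⁻¹
        = (Y ≫ pm) * ((t ≫ i) * ((Z ≫ pp) * (toBase g n ≫ pp) * (Z ≫ pp)⁻¹) * (t ≫ i)⁻¹) * (Y ≫ pm)⁻¹ := by group
      _ = _ := by rw [hzz, ← hr, hyy]
  -- contradiction
  have htriv : Red.IsTrivialGrp U := (hG.2.2 s).2.2.2 U iU hclosed (smooth_line g) (connectedSpace_line g) hnorm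
    (hasNoSubtorus_line g)
  haveI : IsIso U.hom := htriv
  let Y : Over (Spec (CommRingCat.of K)) := 𝟙_ _
  let Z : Over S := Over.mk (Y.hom ≫ g)
  let p1 : Y ⟶ U := ofBase g (GaPts.ptOfElt (1 : Γ(Z.left, ⊤)))
  have heq : p1 = 1 := Over.OverMorphism.ext ((cancel_mono U.hom).1 ((Over.w p1).trans (Over.w (1 : Y ⟶ U)).symm))
  have h := congrArg (fun v => Red.gaFn (toBase g v)) heq
  simp only [p1, toBase_ofBase, toBase_one, GaPts.gaFn_ptOfElt, GaPts.gaFn_one] at h
  have h' := congrArg (Scheme.ΓSpecIso (CommRingCat.of K)).hom h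
  rw [map_one, map_zero] at h'
  exact one_ne_zero h'

end Groth.L14.RankOne
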