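import Groth.Agent.L14.RankOne.Pts
import Mathlib.AlgebraicGeometry.Morphisms.Flat
import Mathlib.FieldTheory.RatFunc.Basic

/-!
The big cell, lifting of units along a faithfully flat character, and open conditions on the affine line.
-/

set_option autoImplicit false
universe u

open CategoryTheory CategoryTheory.Limits MonoidalCategory CartesianMonoidalCategory MonObj AlgebraicGeometry
open Groth.L25

set_option backward.isDefEq.respectTransparency.types false

noncomputable section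

namespace Groth.L14.RankOne

variable {S : Scheme.{u}} {G T : Over S} [GrpObj G] [GrpObj T] (i : T ⟶ G) (pp pm : Red.Ga S ⟶ G)

/-- The map of the big cell. -/
abbrev cell : (Red.Ga S ⊗ T) ⊗ Red.Ga S ⟶ G := ((pm ⊗ₘ i) ⊗ₘ pp) ≫ (μ[G] ▷ G) ≫ μ[G]

theorem lift_cell {X : Over S} (y : X ⟶ Red.Ga S) (t : X ⟶ T) (x : X ⟶ Red.Ga S) :
    lift (lift y t) x ≫ cell i pp pm = (y ≫ pm) * (t ≫ i) * (x ≫ pp) := by
  rw [cell, lift_map_assoc, lift_map, lift_whiskerRight_assoc, ← Hom.mul_def, ← Hom.mul_def]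

/-- A point lies in the big cell. -/
def Mem {X : Over S} (g : X ⟶ G) : Prop := Set.range g.left ⊆ Set.range (cell i pp pm).left

variable {i pp pm}

theorem Mem.comp {X X' : Over S} {g : X ⟶ G} (h : Mem i pp pm g) (f : X' ⟶ X) : Mem i pp pm (f ≫ g) := by
  rintro _ ⟨z, rfl⟩
  exact h ⟨f.left z, rfl⟩

theorem Mem.of_comp {X X' : Over S} {g : X ⟶ G} (f : X' ⟶ X) [Surjective f.left] (h : Mem i pp pm (f ≫ g)) :
    Mem i pp pm g := by
  rintro _ ⟨z, rfl⟩
  obtain ⟨w, rfl⟩ := f.left.surjective z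
  exact h ⟨w, rfl⟩

variable [hcell : IsOpenImmersion (cell i pp pm).left]

theorem mem_iff_exists {X : Over S} {g : X ⟶ G} :
    Mem i pp pm g ↔ ∃ w, w ≫ cell i pp pm = g := by
  constructor
  · intro h
    refine ⟨Over.homMk (IsOpenImmersion.lift (cell i pp pm).left g.left h) ?_,
      Over.OverMorphism.ext (IsOpenImmersion.lift_fac _ _ _)⟩
    rw [← Over.w (cell i pp pm), ← Category.assoc, IsOpenImmersion.lift_fac]
    exact Over.w g
  · rintro ⟨w, rfl⟩ _ ⟨z, rfl⟩
    exact ⟨w.left z, rfl⟩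

theorem Mem.exists_decomp {X : Over S} {g : X ⟶ G} (h : Mem i pp pm g) :
    ∃ (y : X ⟶ Red.Ga S) (t : X ⟶ T) (x : X ⟶ Red.Ga S), g = (y ≫ pm) * (t ≫ i) * (x ≫ pp) := by
  obtain ⟨w, rfl⟩ := mem_iff_exists.1 h
  refine ⟨w ≫ fst _ _ ≫ fst _ _, w ≫ fst _ _ ≫ snd _ _, w ≫ snd _ _, ?_⟩
  rw [← lift_cell]
  congr 1
  apply CartesianMonoidalCategory.hom_ext
  · apply CartesianMonoidalCategory.hom_ext <;> simp
  · simp

theorem mem_mul {X : Over S} (y : X ⟶ Red.Ga S) (t : X ⟶ T) (x : X ⟶ Red.Ga S) :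
    Mem i pp pm ((y ≫ pm) * (t ≫ i) * (x ≫ pp)) :=
  mem_iff_exists.2 ⟨_, lift_cell i pp pm y t x⟩

theorem decomp_unique {X : Over S} {y y' : X ⟶ Red.Ga S} {t t' : X ⟶ T} {x x' : X ⟶ Red.Ga S}
    (h : (y ≫ pm) * (t ≫ i) * (x ≫ pp) = (y' ≫ pm) * (t' ≫ i) * (x' ≫ pp)) : y = y' ∧ t = t' ∧ x = x' := by
  have : Mono (cell i pp pm) := Over.mono_of_mono_left _
  rw [← lift_cell, ← lift_cell, cancel_mono] at h
  have h1 := congrArg (· ≫ fst _ _) h
  have h2 := congrArg (· ≫ snd _ _) h
  simp only [lift_fst, lift_snd] at h1 h2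
  refine ⟨?_, ?_, h2⟩
  · simpa using congrArg (· ≫ fst _ _) h1
  · simpa using congrArg (· ≫ snd _ _) h1

theorem mem_one [IsMonHom i] [IsMonHom pp] [IsMonHom pm] {X : Over S} : Mem i pp pm (1 : X ⟶ G) := by
  have := mem_mul (i := i) (pp := pp) (pm := pm) (1 : X ⟶ Red.Ga S) 1 1
  simpa only [MonObj.one_comp, _root_.mul_one] using this

omit hcell

/-- Lifting a unit along a faithfully flat character. -/
theorem exists_char_lift {Q : Over S} (β : Q ⟶ Red.Gm S) [Flat β.left] [Surjective β.left] {X : Over S}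
    (c : X ⟶ Red.Gm S) :
    ∃ (X' : Over S) (f : X' ⟶ X) (q : X' ⟶ Q), Surjective f.left ∧ Epi f ∧ q ≫ β = f ≫ c := by
  let f₀ := pullback.fst c.left β.left
  let X' : Over S := Over.mk (f₀ ≫ X.hom)
  let f : X' ⟶ X := Over.homMk f₀ rfl
  let q : X' ⟶ Q := Over.homMk (pullback.snd c.left β.left) (by
    show _ = f₀ ≫ X.hom
    rw [← Over.w β, ← Over.w c, ← Category.assoc, ← pullback.condition, Category.assoc])
  have hs : Surjective f₀ := inferInstance
  have hf : Flat f₀ := inferInstance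
  refine ⟨X', f, q, hs, ?_, Over.OverMorphism.ext pullback.condition.symm⟩
  have : Epi f.left := Flat.epi_of_flat_of_surjective f₀
  exact Over.epi_of_epi_left f

variable {R : Type u} [CommRing R] {j : Spec (CommRingCat.of R) ⟶ S}
  {K : Type u} [Field K] [Algebra R K]

/-- An open condition holding at the origin holds at transcendental points. -/
theorem mem_of_transcendental {φ : Sp j (Polynomial K) ⟶ G}
    (h0 : Mem i pp pm (mor j ((Polynomial.aeval (0 : K)).restrictScalars R : Polynomial K →ₐ[R] K) ≫ φ))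
    [IsOpenImmersion (cell i pp pm).left]
    {L : Type u} [Field L] [Algebra R L] (θ : Polynomial K →ₐ[R] L) (hθ : Function.Injective θ) :
    Mem i pp pm (mor j θ ≫ φ) := by
  have hopen : IsOpen (φ.left ⁻¹' Set.range (cell i pp pm).left) :=
    (cell i pp pm).left.isOpenEmbedding.isOpen_range.preimage φ.left.continuous
  let o : PrimeSpectrum (Polynomial K) :=
    PrimeSpectrum.comap ((Polynomial.aeval (0 : K)).restrictScalars R : Polynomial K →ₐ[R] K).toRingHom
      (IsLocalRing.closedPoint K)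
  have ho : φ.left o ∈ Set.range (cell i pp pm).left := h0 ⟨IsLocalRing.closedPoint K, rfl⟩
  rintro _ ⟨z, rfl⟩
  let z' : PrimeSpectrum (Polynomial K) := PrimeSpectrum.comap θ.toRingHom z
  have hz : z' ≤ o := by
    intro p hp
    have : θ.toRingHom p = 0 := by
      have hb : (z : PrimeSpectrum L).asIdeal = ⊥ :=
        (Ideal.eq_bot_or_top (z : PrimeSpectrum L).asIdeal).resolve_right (z : PrimeSpectrum L).isPrime.ne_top
      have hp' : θ.toRingHom p ∈ (z : PrimeSpectrum L).asIdeal := hp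
      rwa [hb, Ideal.mem_bot] at hp'
    rw [hθ (this.trans (map_zero θ).symm)]
    exact Ideal.zero_mem _
  exact ((PrimeSpectrum.le_iff_specializes z' o).1 hz).mem_open hopen ho

theorem mem_of_fields {X : Over S} {g : X ⟶ G}
    (h : ∀ (K : Type u) [Field K] (j : Spec (CommRingCat.of K) ⟶ S) (x : Sp j K ⟶ X), Mem i pp pm (x ≫ g)) :
    Mem i pp pm g := by
  rintro _ ⟨v, rfl⟩
  let K : Type u := X.left.residueField v
  let j : Spec (CommRingCat.of K) ⟶ S := X.left.fromSpecResidueField v ≫ X.hom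
  let x : Sp j K ⟶ X := (self j).hom ≫ Over.homMk (X.left.fromSpecResidueField v) rfl
  obtain ⟨z, hz⟩ := (Set.ext_iff.1 (X.left.range_fromSpecResidueField v) v).2 rfl
  refine h K j x ⟨z, ?_⟩
  show g.left ((Over.Hom.left x) z) = g.left v
  refine congrArg g.left ?_
  show X.left.fromSpecResidueField v z = v
  exact hz

/-- Being in the big cell on the affine line follows from invariance under scaling. -/
theorem mem_line [IsOpenImmersion (cell i pp pm).left] [IsMonHom i] [IsMonHom pp] [IsMonHom pm]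
    (p : Red.Ga S ⟶ G) (hp0 : ∀ X : Over S, (1 : X ⟶ Red.Ga S) ≫ p = 1)
    (hscale : ∀ (K : Type u) [Field K] (R : Type u) [CommRing R] (j : Spec (CommRingCat.of R) ⟶ S) [Algebra R K]
      (c : Kˣ) (a : K), Mem i pp pm (gp j a ≫ p) → Mem i pp pm (gp j ((c : K) * a) ≫ p)) :
    Mem i pp pm p := by
  refine mem_of_fields fun K _ j x => ?_
  rw [← gp_gv x]
  generalize gv x = a
  by_cases ha : a = 0
  · rw [ha, gp_zero, hp0]
    exact mem_one
  let L := RatFunc K
  let θ : Polynomial K →ₐ[K] L := IsScalarTower.toAlgHom K (Polynomial K) L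
  have hθ : Function.Injective θ := IsFractionRing.injective (Polynomial K) L
  let φ : Sp j (Polynomial K) ⟶ G := gp j (Polynomial.X : Polynomial K) ≫ p
  have h0 : Mem i pp pm (mor j ((Polynomial.aeval (0 : K)).restrictScalars K : Polynomial K →ₐ[K] K) ≫ φ) := by
    simp only [φ, ← Category.assoc, mor_gp, AlgHom.coe_restrictScalars', Polynomial.aeval_X, gp_zero, hp0]
    exact mem_one
  have h1 := mem_of_transcendental h0 θ hθ
  simp only [φ, ← Category.assoc, mor_gp] at h1
  have hη : θ Polynomial.X ≠ 0 := fun h => Polynomial.X_ne_zero (hθ (h.trans (map_zero θ).symm))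
  have h2 := hscale L K j (Units.mk0 (algebraMap K L a / θ Polynomial.X)
    (div_ne_zero ((map_ne_zero _).2 ha) hη)) _ h1
  rw [Units.val_mk0, div_mul_cancel₀ _ hη] at h2
  let e : K →ₐ[K] L := Algebra.ofId K L
  have hsur : Surjective (mor j e).left := ⟨fun z => ⟨IsLocalRing.closedPoint L,
    Subsingleton.elim (α := PrimeSpectrum K) _ _⟩⟩
  refine Mem.of_comp (mor j e) ?_
  rw [← Category.assoc, mor_gp]
  exact h2

end Groth.L14.RankOne
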