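import Groth.Agent.L14.RankOne.Pts

/-!
A global function from a natural family of values at points with values in rings.
-/

set_option autoImplicit false
universe u

open CategoryTheory CategoryTheory.Limits MonoidalCategory CartesianMonoidalCategory MonObj AlgebraicGeometry
open Groth.L25

set_option backward.isDefEq.respectTransparency.types false

noncomputable section

namespace Groth.L14.RankOne

theorem exists_section {S : Scheme.{u}}
    (A : ∀ (R : Type u) [CommRing R], (Spec (CommRingCat.of R) ⟶ S) → R)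
    (hA : ∀ (R R' : Type u) [CommRing R] [CommRing R'] (φ : R →+* R') (s : Spec (CommRingCat.of R) ⟶ S),
      φ (A R s) = A R' (Spec.map (CommRingCat.ofHom φ) ≫ s)) :
    ∃ a : Γ(S, ⊤), ∀ (R : Type u) [CommRing R] (s : Spec (CommRingCat.of R) ⟶ S),
      (Scheme.ΓSpecIso (CommRingCat.of R)).hom (s.appTop a) = A R s := by
  let P : ∀ (R : Type u) [CommRing R] (s : Spec (CommRingCat.of R) ⟶ S), Over.mk s ⟶ Red.Ga S := fun R _ s =>
    GaPts.ptOfElt ((Scheme.ΓSpecIso (CommRingCat.of R)).inv (A R s))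
  have hP : ∀ (R R' : Type u) [CommRing R] [CommRing R'] (s : Spec (CommRingCat.of R) ⟶ S)
      (s' : Spec (CommRingCat.of R') ⟶ S) (f : Over.mk s' ⟶ Over.mk s), f ≫ P R s = P R' s' := by
    intro R R' _ _ s s' f
    obtain ⟨φ, hφ⟩ := Spec.map_surjective (R := CommRingCat.of R) (S := CommRingCat.of R') f.left
    have hs : Spec.map (CommRingCat.ofHom φ.hom) ≫ s = s' := by
      rw [CommRingCat.ofHom_hom, hφ]; exact Over.w f
    subst hs
    rw [GaPts.ptOfElt_comp]
    refine congrArg GaPts.ptOfElt (Eq.trans ?_ (congrArg _ (hA R R' φ.hom s)))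
    rw [← hφ]
    exact (congrArg (fun ψ => ψ.hom (A R s)) (Scheme.ΓSpecIso_inv_naturality φ)).symm
  let 𝒰 := S.affineCover
  let f : ∀ i, 𝒰.X i ⟶ (Red.Ga S).left := fun i => (P _ (𝒰.f i)).left
  have hf : ∀ i k, pullback.fst (𝒰.f i) (𝒰.f k) ≫ f i = pullback.snd (𝒰.f i) (𝒰.f k) ≫ f k := fun i k => by
    let W : Over S := Over.mk (pullback.fst (𝒰.f i) (𝒰.f k) ≫ 𝒰.f i)
    let p₁ : W ⟶ Over.mk (𝒰.f i) := Over.homMk (pullback.fst (𝒰.f i) (𝒰.f k)) rfl
    let p₂ : W ⟶ Over.mk (𝒰.f k) := Over.homMk (pullback.snd (𝒰.f i) (𝒰.f k)) pullback.condition.symm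
    refine congrArg CommaMorphism.left (?_ : p₁ ≫ P _ (𝒰.f i) = p₂ ≫ P _ (𝒰.f k))
    refine hom_ext_affine fun R _ s t => ?_
    rw [← Category.assoc, ← Category.assoc]
    exact (hP _ R _ s (t ≫ p₁)).trans (hP _ R _ s (t ≫ p₂)).symm
  let p : S ⟶ (Red.Ga S).left := Scheme.Cover.glueMorphisms 𝒰 f hf
  have hp : p ≫ (Red.Ga S).hom = 𝟙 S := Scheme.Cover.hom_ext 𝒰 _ _ fun i => by
    rw [← Category.assoc, Scheme.Cover.ι_glueMorphisms 𝒰 f hf i, Category.comp_id]
    exact Over.w (P _ (𝒰.f i))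
  let q : 𝟙_ (Over S) ⟶ Red.Ga S := Over.homMk p hp
  refine ⟨Red.gaFn q, fun R _ s => ?_⟩
  let t : Over.mk s ⟶ 𝟙_ (Over S) := Over.homMk s (Category.comp_id s)
  have key : t ≫ q = P R s := by
    refine Over.OverMorphism.ext (Scheme.Cover.hom_ext (𝒰.pullback₁ s) _ _ fun i => ?_)
    let W : Over S := Over.mk ((𝒰.pullback₁ s).f i ≫ s)
    let w : W ⟶ Over.mk s := Over.homMk ((𝒰.pullback₁ s).f i) rfl
    let w' : W ⟶ Over.mk (𝒰.f i) := Over.homMk (pullback.snd s (𝒰.f i)) pullback.condition.symm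
    have e : w ≫ t ≫ q = w' ≫ P _ (𝒰.f i) := by
      apply Over.OverMorphism.ext
      show pullback.fst s (𝒰.f i) ≫ s ≫ p = pullback.snd s (𝒰.f i) ≫ f i
      rw [pullback.condition_assoc, Scheme.Cover.ι_glueMorphisms 𝒰 f hf i]
    refine congrArg CommaMorphism.left (?_ : w ≫ t ≫ q = w ≫ P R s)
    rw [e]
    refine hom_ext_affine fun R' _ s' x => ?_
    rw [← Category.assoc, ← Category.assoc]
    exact (hP _ R' _ s' (x ≫ w')).trans (hP _ R' _ s' (x ≫ w)).symm
  have e := congrArg Red.gaFn key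
  rw [GaPts.gaFn_comp, GaPts.gaFn_ptOfElt] at e
  show (Scheme.ΓSpecIso (CommRingCat.of R)).hom (t.left.appTop (Red.gaFn q)) = _
  rw [e, Iso.inv_hom_id_apply]

end Groth.L14.RankOne
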