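import Groth.Agent.L14.RankOne.Weight
import Groth.Agent.S5421

/-!
Weighted homomorphisms for tori, and monomorphisms of the weight of the root.
-/

set_option autoImplicit false
universe u

open CategoryTheory CategoryTheory.Limits MonoidalCategory CartesianMonoidalCategory MonObj AlgebraicGeometry
open Groth.L25

set_option backward.isDefEq.respectTransparency.types false

noncomputable section

namespace Groth.L14.RankOne

variable {S : Scheme.{u}}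

/-- A function which is non-zero at every field-valued point is a unit. -/
theorem isUnit_of_fields (a : Γ(S, ⊤))
    (h : ∀ (K : Type u) [Field K] (g : Spec (CommRingCat.of K) ⟶ S), g.appTop a ≠ 0) : IsUnit a := by
  refine RingedSpace.isUnit_of_isUnit_germ S.toLocallyRingedSpace.toSheafedSpace ⊤ a fun s _ => ?_
  have hu : IsUnit ((S.fromSpecResidueField s).appTop a) := by
    have h0 := h _ (S.fromSpecResidueField s)
    let e := (Scheme.ΓSpecIso (S.residueField s)).commRingCatIsoToRingEquiv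
    have h1 : IsUnit (e ((S.fromSpecResidueField s).appTop a)) :=
      isUnit_iff_ne_zero.2 ((map_ne_zero_iff _ e.injective).2 h0)
    simpa using h1.map e.symm
  obtain ⟨z, hz⟩ := (Set.ext_iff.1 (S.range_fromSpecResidueField s) s).2 rfl
  have hz' : z ∈ S.fromSpecResidueField s ⁻¹ᵁ S.basicOpen a := by
    rw [Scheme.preimage_basicOpen_top, Scheme.basicOpen_of_isUnit _ hu]
    trivial
  have hs : s ∈ S.basicOpen a := hz ▸ hz'
  exact (Scheme.mem_basicOpen S a s trivial).1 hs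

variable {G T : Over S} [GrpObj G] [GrpObj T] {i : T ⟶ G} [IsMonHom i] {α : T ⟶ Red.Gm S} [IsMonHom α]
  {pp pm : Red.Ga S ⟶ G} [IsMonHom pp] [IsMonHom pm]

theorem weighted_of_torus [IsOpenImmersion (cell i pp pm).left] (hT : Red.IsTorus T)
    {Q : Over S} [GrpObj Q] (jT : Q ⟶ T) [IsMonHom jT] (hQ : Red.IsTorus Q)
    (hα : ∀ s : S, (Over.pullback (Red.geomPt s)).map (jT ≫ α) ≠ 1)
    (hpp : ∀ (X : Over S) (t : X ⟶ T) (x : X ⟶ Red.Ga S), ∃ x' : X ⟶ Red.Ga S,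
      x' ≫ pp = (t ≫ i) * (x ≫ pp) * (t ≫ i)⁻¹ ∧ Red.gaFn x' = Red.gmFn (t ≫ α) * Red.gaFn x)
    (hpm : ∀ (X : Over S) (t : X ⟶ T) (y : X ⟶ Red.Ga S), ∃ y' : X ⟶ Red.Ga S,
      y' ≫ pm = (t ≫ i) * (y ≫ pm) * (t ≫ i)⁻¹ ∧ Red.gaFn y' * Red.gmFn (t ≫ α) = Red.gaFn y)
    (p : Red.Ga S ⟶ G) (q : ℕ)
    (hp : ∀ (X : Over S) (t : X ⟶ Q) (x x' : X ⟶ Red.Ga S), Red.gaFn x' = Red.gmFn (t ≫ jT ≫ α) * Red.gaFn x →
      x' ≫ p = ((t ≫ jT ≫ i) ^ q) * (x ≫ p) * ((t ≫ jT ≫ i) ^ q)⁻¹) :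
    Weighted (i := i) α (pp := pp) (pm := pm) p q Q jT := by
  haveI : IsMonHom (jT ≫ α) := inferInstance
  obtain ⟨hflat, hsurj⟩ := ((Groth.Agent.S5421.result S Q hQ (jT ≫ α)).2).1 hα
  exact ⟨fun a b => Central.mul_comm_of_multTypeFT (Locus.isMultTypeFT_of_isTorus hT) a b, hpp, hpm, hflat, hsurj, hp⟩

theorem isSeparated_torus (hT : Red.IsTorus T) : IsSeparated T.hom := by
  have : IsAffineHom T.hom := Central.isAffineHom_of_multTypeFT (Locus.isMultTypeFT_of_isTorus hT)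
  infer_instance

/-- A monomorphism of the weight of the root is a rescaling of the root homomorphism by a unit. -/
theorem existsUnique_unit [IsOpenImmersion (cell i pp pm).left] (hT : Red.IsTorus T)
    (hα : ∀ s : S, (Over.pullback (Red.geomPt s)).map α ≠ 1)
    (hpp : ∀ (X : Over S) (t : X ⟶ T) (x : X ⟶ Red.Ga S), ∃ x' : X ⟶ Red.Ga S,
      x' ≫ pp = (t ≫ i) * (x ≫ pp) * (t ≫ i)⁻¹ ∧ Red.gaFn x' = Red.gmFn (t ≫ α) * Red.gaFn x)
    (hpm : ∀ (X : Over S) (t : X ⟶ T) (y : X ⟶ Red.Ga S), ∃ y' : X ⟶ Red.Ga S,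
      y' ≫ pm = (t ≫ i) * (y ≫ pm) * (t ≫ i)⁻¹ ∧ Red.gaFn y' * Red.gmFn (t ≫ α) = Red.gaFn y)
    (p : Red.Ga S ⟶ G) [IsMonHom p] [Mono p]
    (hp : ∀ (X : Over S) (t : X ⟶ T) (x : X ⟶ Red.Ga S), ∃ x' : X ⟶ Red.Ga S,
      x' ≫ p = (t ≫ i) * (x ≫ p) * (t ≫ i)⁻¹ ∧ Red.gaFn x' = Red.gmFn (t ≫ α) * Red.gaFn x) :
    ∃! c : 𝟙_ (Over S) ⟶ Red.Gm S, ∀ (X : Over S) (x y : X ⟶ Red.Ga S),
      Red.gaFn y = Red.gmFn (toUnit X ≫ c) * Red.gaFn x → x ≫ p = y ≫ pp := by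
  have := isSeparated_torus hT
  have H := weighted_of_torus (α := α) hT (𝟙 T) hT (by simpa using hα) hpp hpm p 1 (fun X t x x' hx => by
    obtain ⟨x₁, h1, h2⟩ := hp X t x
    have : x' = x₁ := GaPts.gaFn_injective (hx.trans (show _ = Red.gaFn x₁ by rw [h2, Category.id_comp]))
    rw [this, h1, pow_one, Category.id_comp])
  obtain ⟨ν, hν, huniq⟩ := H.existsUnique
  simp only [pow_one] at hν huniq
  have hu : IsUnit (Red.gaFn ν) := by
    refine isUnit_of_fields _ fun K _ g h0 => ?_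
    let f : Over.mk g ⟶ 𝟙_ (Over S) := Over.homMk g (Category.comp_id g)
    let x : Over.mk g ⟶ Red.Ga S := GaPts.ptOfElt 1
    have hzero : Red.gaFn (f ≫ ν) = 0 := by rw [GaPts.gaFn_comp]; exact h0
    have h1 : x ≫ p = (1 : _ ⟶ Red.Ga S) ≫ pp := hν _ x 1 (by
      rw [GaPts.gaFn_one, toUnit_unique (toUnit _) f, hzero, zero_mul])
    rw [MonObj.one_comp, ← MonObj.one_comp p, cancel_mono] at h1
    have h2 := congrArg Red.gaFn h1
    rw [GaPts.gaFn_ptOfElt, GaPts.gaFn_one] at h2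
    have h3 := congrArg (Scheme.ΓSpecIso (CommRingCat.of K)).hom h2
    rw [map_one, map_zero] at h3
    exact one_ne_zero h3
  let c : 𝟙_ (Over S) ⟶ Red.Gm S := GmPts.ptOfUnit hu.unit
  have hc : Red.gmFn c = Red.gaFn ν := GmPts.gmFn_ptOfUnit _
  refine ⟨c, fun X x y hy => hν X x y (by rw [hy, GmPts.gmFn_comp, hc, GaPts.gaFn_comp]), fun c' hc' => ?_⟩
  have h' := huniq (GaPts.ptOfElt (Red.gmFn c')) fun X x y hy => hc' X x y (by
    rw [hy, GaPts.gaFn_comp, GaPts.gaFn_ptOfElt, GmPts.gmFn_comp])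
  refine GmPts.gmFn_injective ?_
  show Red.gmFn c' = Red.gmFn c
  rw [hc, ← h', GaPts.gaFn_ptOfElt]

end Groth.L14.RankOne
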