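import Groth.Agent.L14.RankOne.Formula
import Groth.Agent.L14.RankOne.GlueSection
import Groth.Agent.L14.RankOne.WeightMono

/-!
The commutation formula of a rank one system.
-/

set_option autoImplicit false
universe u

open CategoryTheory CategoryTheory.Limits MonoidalCategory CartesianMonoidalCategory MonObj AlgebraicGeometry
open Groth.L25

set_option backward.isDefEq.respectTransparency.types false

noncomputable section

namespace Groth.L14.RankOne

open DualNumber TrivSqZeroExt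

variable {S : Scheme.{u}} {G T : Over S} [GrpObj G] [GrpObj T] {i : T ⟶ G} [IsMonHom i] {α : T ⟶ Red.Gm S}
  [IsMonHom α] {pp pm : Red.Ga S ⟶ G} [IsMonHom pp] [IsMonHom pm]

/-- The values of functions at a point with values in a ring. -/
def evalPt {X : Over S} {R : Type u} [CommRing R] {j : Spec (CommRingCat.of R) ⟶ S} {C : Type u} [CommRing C]
    [Algebra R C] (t : Sp j C ⟶ X) : Γ(X.left, ⊤) →+* C :=
  (t.left.appTop ≫ (Scheme.ΓSpecIso (CommRingCat.of C)).hom).hom

theorem gp_evalPt {X : Over S} {R : Type u} [CommRing R] {j : Spec (CommRingCat.of R) ⟶ S} {C : Type u} [CommRing C]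
    [Algebra R C] (t : Sp j C ⟶ X) (x : X ⟶ Red.Ga S) : gp j (evalPt t (Red.gaFn x)) = t ≫ x := by
  rw [← gp_gv (t ≫ x)]
  congr 1

theorem ptOfElt_evalPt {X : Over S} {R : Type u} [CommRing R] {j : Spec (CommRingCat.of R) ⟶ S} {C : Type u}
    [CommRing C] [Algebra R C] (t : Sp j C ⟶ X) (v : Γ(X.left, ⊤)) : t ≫ GaPts.ptOfElt v = gp j (evalPt t v) := by
  rw [← gp_evalPt, GaPts.gaFn_ptOfElt]

theorem evalPt_gmFn {X : Over S} {R : Type u} [CommRing R] {j : Spec (CommRingCat.of R) ⟶ S} {C : Type u}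
    [CommRing C] [Algebra R C] (t : Sp j C ⟶ X) (c : X ⟶ Red.Gm S) : evalPt t (Red.gmFn c) = (uv (t ≫ c) : C) := by
  rw [val_uv, GmPts.gmFn_comp]
  rfl

/-- Commutation at a geometric point where the constant vanishes. -/
theorem commute_bc (H : Pair i α pp pm) (hT : Red.IsTorus T) {K : Type u} [Field K] [IsAlgClosed K]
    (g : Spec (CommRingCat.of K) ⟶ S) (ha : aAt H g = 0) (X : Over (Spec (CommRingCat.of K)))
    (x y : X ⟶ Red.bc g (Red.Ga S)) :
    (x ≫ (Over.pullback g).map pp) * (y ≫ (Over.pullback g).map pm) =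
      (y ≫ (Over.pullback g).map pm) * (x ≫ (Over.pullback g).map pp) := by
  let adj := Over.mapPullbackAdj g
  let X' : Over S := (Over.map g).obj X
  obtain ⟨x', rfl⟩ := (adj.homEquiv X (Red.Ga S)).surjective x
  obtain ⟨y', rfl⟩ := (adj.homEquiv X (Red.Ga S)).surjective y
  have key : (x' ≫ pp) * (y' ≫ pm) = (y' ≫ pm) * (x' ≫ pp) := by
    refine hom_ext_affine fun R _ j' t => ?_
    let l : Spec (CommRingCat.of R) ⟶ Spec (CommRingCat.of K) := t.left ≫ X.hom
    letI : Algebra K R := (Spec.preimage l).hom.toAlgebra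
    have hj : Spec.map (CommRingCat.ofHom (algebraMap K R)) ≫ g = j' := by
      show Spec.map (Spec.preimage l) ≫ g = j'
      rw [Spec.map_preimage, Category.assoc]
      exact Over.w t
    let f : Over.mk j' ⟶ Sp g R := Over.homMk (𝟙 _) (by simp only [Over.mk_hom, Category.id_comp, hj])
    let t' : Sp g R ⟶ X' := Over.homMk t.left (by simp only [Over.mk_hom]; rw [hj]; exact Over.w t)
    have ht : t = f ≫ t' := Over.OverMorphism.ext (Category.id_comp _).symm
    have e := commute_of_aEl_eq_zero (j := g) H hT ha (C := R) (evalPt t' (Red.gaFn x')) (evalPt t' (Red.gaFn y'))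
    simp only [com, gp_evalPt, Category.assoc] at e
    have e' : t' ≫ ((x' ≫ pp) * (y' ≫ pm)) = t' ≫ ((y' ≫ pm) * (x' ≫ pp)) := by
      rw [MonObj.comp_mul, MonObj.comp_mul, e]
    rw [ht, Category.assoc, Category.assoc, e']
  have h : ∀ (z : X' ⟶ Red.Ga S) (p : Red.Ga S ⟶ G), adj.homEquiv X (Red.Ga S) z ≫ (Over.pullback g).map p =
      adj.unit.app X ≫ (Over.pullback g).map (z ≫ p) := fun z p => by
    rw [Adjunction.homEquiv_unit, Category.assoc, ← Functor.map_comp]
  rw [h, h, ← MonObj.comp_mul, ← MonObj.comp_mul, ← Functor.map_mul, ← Functor.map_mul, key]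

theorem aAt_geomPt_ne_zero (H : Pair i α pp pm) (hT : Red.IsTorus T)
    (hnc : ∀ s : S, ∃ (X : Over (Spec (CommRingCat.of (AlgebraicClosure (S.residueField s)))))
      (x y : X ⟶ Red.bc (Red.geomPt s) (Red.Ga S)),
      (x ≫ (Over.pullback (Red.geomPt s)).map pp) * (y ≫ (Over.pullback (Red.geomPt s)).map pm) ≠
        (y ≫ (Over.pullback (Red.geomPt s)).map pm) * (x ≫ (Over.pullback (Red.geomPt s)).map pp))
    (s : S) : aAt H (Red.geomPt s) ≠ 0 := fun h => by
  obtain ⟨X, x, y, hxy⟩ := hnc s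
  exact hxy (commute_bc H hT _ h X x y)

/-- The property of the pair of the scaling constant and the coroot. -/
def IsCommutationPair (i : T ⟶ G) (α : T ⟶ Red.Gm S) (pp pm : Red.Ga S ⟶ G)
    (q : (𝟙_ (Over S) ⟶ Red.Gm S) × (Red.Gm S ⟶ T)) : Prop :=
  IsMonHom q.2 ∧ q.2 ≫ α = (𝟙 (Red.Gm S)) ^ 2 ∧
      ∀ (X : Over S) (x y : X ⟶ Red.Ga S),
        ((∃ w : X ⟶ (Red.Ga S ⊗ T) ⊗ Red.Ga S, w ≫ (((pm ⊗ₘ i) ⊗ₘ pp) ≫ (μ[G] ▷ G) ≫ μ[G]) = (x ≫ pp) * (y ≫ pm)) ↔
          IsUnit (1 + Red.gmFn (toUnit X ≫ q.1) * Red.gaFn x * Red.gaFn y)) ∧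
        (IsUnit (1 + Red.gmFn (toUnit X ≫ q.1) * Red.gaFn x * Red.gaFn y) →
          ∃ (x' y' : X ⟶ Red.Ga S) (z : X ⟶ Red.Gm S),
            Red.gmFn z = 1 + Red.gmFn (toUnit X ≫ q.1) * Red.gaFn x * Red.gaFn y ∧
            Red.gaFn x' * Red.gmFn z = Red.gaFn x ∧ Red.gaFn y' * Red.gmFn z = Red.gaFn y ∧
            (x ≫ pp) * (y ≫ pm) = (y' ≫ pm) * (z ≫ q.2 ≫ i) * (x' ≫ pp))

theorem existsUnique_commutationPair (H : Pair i α pp pm) (hne : ∀ s : S, aAt H (Red.geomPt s) ≠ 0) :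
    ∃! q, IsCommutationPair i α pp pm q := by
  have := H.cell
  -- the constant
  obtain ⟨a, ha⟩ := exists_section (S := S) (fun R _ s => aAt H s) (fun R R' _ _ φ s => aAt_map H φ s)
  have hau : IsUnit a := isUnit_of_fields a fun K _ g h => aAt_ne_zero H hne g (by rw [← ha, h, map_zero])
  let c : 𝟙_ (Over S) ⟶ Red.Gm S := GmPts.ptOfUnit hau.unit
  have hc : Red.gmFn c = a := GmPts.gmFn_ptOfUnit _
  have hcv : ∀ {R : Type u} [CommRing R] {j : Spec (CommRingCat.of R) ⟶ S} {C : Type u} [CommRing C] [Algebra R C]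
      {X : Over S} (t : Sp j C ⟶ X), evalPt t (Red.gmFn (toUnit X ≫ c)) = aEl H j C := by
    intro R _ j C _ _ X t
    rw [evalPt_gmFn, val_uv, ← Category.assoc, comp_toUnit, GmPts.gmFn_comp, hc, aEl_eq_aAt, ← ha]
    rfl
  -- the universal slice
  let u : (Γ((Red.Gm S).left, ⊤))ˣ := GmPts.unitOfPt (toUnit (Red.Gm S) ≫ c)
  let x₀ : Red.Gm S ⟶ Red.Ga S := GaPts.ptOfElt ((Red.gmFn (𝟙 (Red.Gm S)) - 1) * (↑u⁻¹ : Γ((Red.Gm S).left, ⊤)))
  let e₀ : Red.Gm S ⟶ Red.Ga S := GaPts.ptOfElt 1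
  have hx₀ : ∀ {R : Type u} [CommRing R] {j : Spec (CommRingCat.of R) ⟶ S} {C : Type u} [CommRing C] [Algebra R C]
      (t : Sp j C ⟶ Red.Gm S) (x : C), (uv t : C) = 1 + aEl H j C * x →
      t ≫ x₀ = gp j x ∧ t ≫ e₀ = gp j 1 := by
    intro R _ j C _ _ t x hx
    refine ⟨?_, by rw [ptOfElt_evalPt, map_one]⟩
    rw [ptOfElt_evalPt]
    congr 1
    apply (isUnit_aEl H hne j C).mul_left_cancel
    have hu : evalPt t (u : Γ((Red.Gm S).left, ⊤)) * evalPt t (↑u⁻¹ : Γ((Red.Gm S).left, ⊤)) = 1 := by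
      rw [← map_mul, Units.mul_inv, map_one]
    rw [show evalPt t (u : Γ((Red.Gm S).left, ⊤)) = aEl H j C from hcv t] at hu
    rw [map_mul, map_sub, map_one, evalPt_gmFn, Category.comp_id, hx]
    linear_combination (aEl H j C * x) * hu
  have hmem : Mem i pp pm (com pp pm x₀ e₀) := by
    refine mem_of_fields fun K _ j t => ?_
    have hz : (uv t : K) = 1 + aEl H j K * ((((uv t : K)) - 1) / aEl H j K) := by
      rw [mul_div_cancel₀ _ (isUnit_aEl H hne j K).ne_zero, add_sub_cancel]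
    obtain ⟨e1, e2⟩ := hx₀ t _ hz
    rw [com_comp, e1, e2]
    exact (memC_iff H hne (j := j) _ 1).2 (by rw [_root_.mul_one, ← hz]; exact (uv t).isUnit)
  obtain ⟨Y₀, av, Z₀, hd₀⟩ := exists_dec H hmem
  have hτ : ∀ {R : Type u} [CommRing R] {j : Spec (CommRingCat.of R) ⟶ S} (C : Type u) [CommRing C] [Algebra R C]
      (x : C) (z : Cˣ), (z : C) = 1 + aEl H j C * x → ∃ F Z, DecC i pp pm j x 1 F (up j z ≫ av) Z := by
    intro R _ j C _ _ x z hz
    obtain ⟨e1, e2⟩ := hx₀ (up j z) x (by rw [uv_up]; exact hz)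
    have h := Dec.comp (up j z) hd₀
    rw [e1, e2, ← gp_gv (up j z ≫ Y₀), ← gp_gv (up j z ≫ Z₀)] at h
    exact ⟨_, _, h⟩
  have hform : ∀ {R : Type u} [CommRing R] (j : Spec (CommRingCat.of R) ⟶ S) {C : Type u} [CommRing C] [Algebra R C]
      (x y : C) (z : Cˣ), (z : C) = 1 + aEl H j C * x * y →
      DecC i pp pm j x y (y * ↑z⁻¹) (up j z ≫ av) (x * ↑z⁻¹) := by
    intro R _ j C _ _ x y z hz
    exact decC_formula H hne (fun C _ _ z => up j z ≫ av) (fun C _ _ x z h => hτ C x z h) x y z hz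
  -- the coroot is a homomorphism
  have hmul : ∀ {R : Type u} [CommRing R] (j : Spec (CommRingCat.of R) ⟶ S) (C : Type u) [CommRing C] [Algebra R C]
      (z z' : Cˣ), up j (z * z') ≫ av = (up j z ≫ av) * (up j z' ≫ av) := by
    intro R _ j C _ _ z z'
    obtain ⟨v, hv⟩ := isUnit_aEl H hne j C
    let x : C := ((z : C) - 1) * ↑v⁻¹
    let x'' : C := ((z' : C) - 1) * ↑v⁻¹
    have hzx : (z : C) = 1 + aEl H j C * x := by
      rw [← hv]; linear_combination ((z : C) - 1) * (-1 : C) * v.mul_inv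
    have hzx'' : (z' : C) = 1 + aEl H j C * x'' := by
      rw [← hv]; linear_combination ((z' : C) - 1) * (-1 : C) * v.mul_inv
    obtain ⟨F, Z, hd⟩ := hτ C x z hzx
    have hF : F = ↑z⁻¹ := Units.eq_inv_of_mul_eq_one_left (by
      rw [hzx, _root_.mul_comm]; exact hd.slice_eq H hne)
    rw [hF] at hd
    have hd' := hform j (x'' * z) (↑z⁻¹) z' (by
      rw [hzx'', _root_.mul_assoc, _root_.mul_assoc x'', Units.mul_inv, _root_.mul_one])
    obtain ⟨Z₂, h₂, -⟩ := hd.addLeft H hd'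
    obtain ⟨F₃, Z₃, h₃⟩ := hτ C (x'' * z + x) (z * z') (by
      rw [Units.val_mul, hzx'']; linear_combination hzx)
    rw [(h₃.unique H h₂).2.1]
    exact H.comm _ _
  have hone : ∀ {R : Type u} [CommRing R] (j : Spec (CommRingCat.of R) ⟶ S) (C : Type u) [CommRing C] [Algebra R C],
      up j (1 : Cˣ) ≫ av = 1 := by
    intro R _ j C _ _
    have h := hmul j C 1 1
    rw [_root_.mul_one] at h
    exact left_eq_mul.1 h
  have hhom : IsMonHom av := by
    refine ⟨?_, ?_⟩
    · refine hom_ext_affine fun R _ j t => ?_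
      rw [← cancel_epi (self j).hom, ← Category.assoc t, ← Category.assoc (self j).hom]
      have e : (self j).hom ≫ t ≫ η[Red.Gm S] = up j (1 : Rˣ) := by
        rw [up_one, Hom.one_def, ← Category.assoc, toUnit_unique ((self j).hom ≫ t) (toUnit _)]
      rw [e, hone, Hom.one_def, ← Category.assoc, toUnit_unique ((self j).hom ≫ t) (toUnit _)]
    · refine hom_ext_affine fun R _ j t => ?_
      rw [← cancel_epi (self j).hom]
      let a₁ := uv ((self j).hom ≫ t ≫ fst _ _)
      let a₂ := uv ((self j).hom ≫ t ≫ snd _ _)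
      have e : (self j).hom ≫ t = lift (up j a₁) (up j a₂) := by
        apply CartesianMonoidalCategory.hom_ext <;> simp [a₁, a₂, up_uv]
      rw [← Category.assoc, ← Category.assoc, e, ← Category.assoc, ← Hom.mul_def, ← up_mul, hmul, Hom.mul_def,
        ← lift_map, Category.assoc, ← e, Category.assoc]
  have hsq : av ≫ α = (𝟙 (Red.Gm S)) ^ 2 := by
    refine hom_ext_affine fun R _ j t => ?_
    rw [← cancel_epi (self j).hom, MonObj.comp_pow, MonObj.comp_pow, Category.comp_id, pow_two]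
    obtain ⟨z, hz⟩ : ∃ z : Rˣ, (self j).hom ≫ t = up j z := ⟨_, (up_uv _).symm⟩
    obtain ⟨v, hv⟩ := isUnit_aEl H hne j R
    obtain ⟨F, Z, hd⟩ := hτ R (((z : R) - 1) * ↑v⁻¹) z (by
      rw [← hv]; linear_combination ((z : R) - 1) * (-1 : R) * v.mul_inv)
    have e := (hd.slice_spec H hne).1
    rw [← Category.assoc, ← Category.assoc ((self j).hom ≫ t) av, hz, ← up_mul, ← up_uv ((up j z ≫ av) ≫ α)]
    congr 1
    ext
    show (chi α (up j z ≫ av) : R) = _
    rw [e, Units.val_mul, ← hv]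
    linear_combination (((v : R) * (((z : R) - 1) * ↑v⁻¹)) + (z : R) + 1) * ((z : R) - 1) * v.mul_inv
  have hmem_iff : ∀ (X : Over S) (x y : X ⟶ Red.Ga S),
      Mem i pp pm (com pp pm x y) ↔ IsUnit (1 + Red.gmFn (toUnit X ≫ c) * Red.gaFn x * Red.gaFn y) := by
    intro X x y
    constructor
    · intro hm
      refine isUnit_of_fields _ fun K _ g h0 => ?_
      let t : Sp (g ≫ X.hom) K ⟶ X := (self _).hom ≫ Over.homMk g rfl
      have hm' := Mem.comp hm t
      rw [com_comp, ← gp_evalPt, ← gp_evalPt] at hm'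
      have hu := (memC_iff H hne _ _).1 hm'
      rw [← hcv t, ← map_mul, ← map_mul, ← map_one (evalPt t), ← map_add] at hu
      refine hu.ne_zero ?_
      show (Scheme.ΓSpecIso (CommRingCat.of K)).hom (t.left.appTop _) = 0
      rw [show t.left = g from Category.id_comp g, h0, map_zero]
    · intro hu
      refine mem_of_fields fun K _ j t => ?_
      rw [com_comp, ← gp_evalPt, ← gp_evalPt]
      refine (memC_iff H hne _ _).2 ?_
      rw [← hcv t, ← map_mul, ← map_mul, ← map_one (evalPt t), ← map_add]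
      exact hu.map _
  refine ⟨(c, av), ⟨hhom, hsq, fun X x y => ⟨?_, fun hu => ?_⟩⟩, ?_⟩
  · exact (mem_iff_exists (g := com pp pm x y)).symm.trans (hmem_iff X x y)
  · let z : X ⟶ Red.Gm S := GmPts.ptOfUnit hu.unit
    have hz : Red.gmFn z = 1 + Red.gmFn (toUnit X ≫ c) * Red.gaFn x * Red.gaFn y := GmPts.gmFn_ptOfUnit _
    refine ⟨GaPts.ptOfElt (Red.gaFn x * (↑hu.unit⁻¹ : Γ(X.left, ⊤))),
      GaPts.ptOfElt (Red.gaFn y * (↑hu.unit⁻¹ : Γ(X.left, ⊤))), z, hz, ?_, ?_, ?_⟩
    · rw [GaPts.gaFn_ptOfElt, hz, _root_.mul_assoc, hu.val_inv_mul, _root_.mul_one]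
    · rw [GaPts.gaFn_ptOfElt, hz, _root_.mul_assoc, hu.val_inv_mul, _root_.mul_one]
    · refine hom_ext_affine fun R _ j t => ?_
      rw [← cancel_epi (self j).hom, ← Category.assoc, ← Category.assoc]
      generalize (self j).hom ≫ t = t'
      have hd := hform j (evalPt t' (Red.gaFn x)) (evalPt t' (Red.gaFn y))
        (Units.map (evalPt t').toMonoidHom hu.unit) (by
          show evalPt t' (hu.unit : Γ(X.left, ⊤)) = _
          rw [IsUnit.unit_spec, map_add, map_mul, map_mul, map_one, hcv])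
      have ez : up j (Units.map (evalPt t').toMonoidHom hu.unit) = t' ≫ z := by
        rw [← up_uv (t' ≫ z)]
        congr 1
        ext
        rw [← evalPt_gmFn, hz]
        exact congrArg (evalPt t') hu.unit_spec
      have ei : (↑(Units.map (evalPt t').toMonoidHom hu.unit)⁻¹ : R) =
          evalPt t' (↑hu.unit⁻¹ : Γ(X.left, ⊤)) := rfl
      rw [ez, ei, ← map_mul, ← map_mul, DecC, Dec, gp_evalPt, gp_evalPt, ← ptOfElt_evalPt, ← ptOfElt_evalPt,
        ← com_comp] at hd
      simpa only [com, MonObj.comp_mul, Category.assoc] using hd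
  · rintro ⟨c', f⟩ ⟨hf, hf2, hf3⟩
    have hc' : ∀ {R : Type u} [CommRing R] (j : Spec (CommRingCat.of R) ⟶ S) {C : Type u} [CommRing C]
        [Algebra R C] (x y : C) (z : Cˣ), (z : C) = 1 + (uv (toUnit (Sp j C) ≫ c') : C) * x * y →
        DecC i pp pm j x y (y * ↑z⁻¹) (up j z ≫ f) (x * ↑z⁻¹) := by
      intro R _ j C _ _ x y z hz
      let e := (Scheme.ΓSpecIso (CommRingCat.of C)).inv.hom
      have hu : IsUnit (1 + Red.gmFn (toUnit (Sp j C) ≫ c') * Red.gaFn (gp j x) * Red.gaFn (gp j y)) := by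
        have : 1 + Red.gmFn (toUnit (Sp j C) ≫ c') * Red.gaFn (gp j x) * Red.gaFn (gp j y) = e z := by
          rw [hz, map_add, map_one, map_mul, map_mul, gaFn_gp, gaFn_gp, val_uv]
          simp only [e, Iso.hom_inv_id_apply]
        rw [this]
        exact z.isUnit.map e
      obtain ⟨x', y', zz, h1, h2, h3, h4⟩ := (hf3 _ (gp j x) (gp j y)).2 hu
      have ez : uv zz = z := by
        ext
        rw [val_uv, h1, map_add, map_one, map_mul, map_mul, gaFn_gp, gaFn_gp, Iso.inv_hom_id_apply,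
          Iso.inv_hom_id_apply, hz, val_uv]
      have hv : ∀ (w : Sp j C ⟶ Red.Ga S) (b : C), Red.gaFn w * Red.gmFn zz = Red.gaFn (gp j b) →
          gv w = b * ↑z⁻¹ := by
        intro w b hw
        have := congrArg (Scheme.ΓSpecIso (CommRingCat.of C)).hom hw
        rw [map_mul, gaFn_gp, Iso.inv_hom_id_apply, ← val_uv, ez] at this
        exact (Units.eq_mul_inv_iff_mul_eq z).2 this
      rw [DecC, Dec, ← hv x' x h2, ← hv y' y h3, gp_gv, gp_gv, ← ez, up_uv]
      simpa only [com, Category.assoc] using h4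
    have hval : ∀ {R : Type u} [CommRing R] (j : Spec (CommRingCat.of R) ⟶ S) (C : Type u) [CommRing C]
        [Algebra R C], (uv (toUnit (Sp j C) ≫ c') : C) = aEl H j C := by
      intro R _ j C _ _
      let κ : C →ₐ[R] C[ε] := IsScalarTower.toAlgHom R C C[ε]
      have hκ : (uv (toUnit (Sp j C[ε]) ≫ c') : C[ε]) = algebraMap C C[ε] (uv (toUnit (Sp j C) ≫ c') : C) := by
        rw [← comp_toUnit (mor j κ), Category.assoc, ← up_uv (toUnit (Sp j C) ≫ c'), mor_up, uv_up, uv_up]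
        rfl
      let z : (C[ε])ˣ := ⟨1 + inl (uv (toUnit (Sp j C) ≫ c') : C) * ε, 1 - inl (uv (toUnit (Sp j C) ≫ c') : C) * ε,
        by linear_combination (-(inl (uv (toUnit (Sp j C) ≫ c') : C) * inl (uv (toUnit (Sp j C) ≫ c') : C)) : C[ε]) *
          DualNumber.eps_mul_eps (R := C),
        by linear_combination (-(inl (uv (toUnit (Sp j C) ≫ c') : C) * inl (uv (toUnit (Sp j C) ≫ c') : C)) : C[ε]) *
          DualNumber.eps_mul_eps (R := C)⟩
      have hd := hc' j (ε : C[ε]) 1 z (by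
        rw [hκ, _root_.mul_one, TrivSqZeroExt.algebraMap_eq_inl])
      have e := congrArg snd (aEl_spec H hd)
      simpa [z, TrivSqZeroExt.algebraMap_eq_inl] using e
    have ec : c' = c := by
      refine hom_ext_affine fun R _ j t => ?_
      rw [← cancel_epi (self j).hom]
      have e : (self j).hom ≫ t = toUnit _ := toUnit_unique _ _
      rw [← Category.assoc, ← Category.assoc, e, ← up_uv (toUnit (Sp j R) ≫ c'), ← up_uv (toUnit (Sp j R) ≫ c)]
      congr 1
      ext
      rw [hval, ← evalPt_gmFn]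
      exact ((congrArg (fun p => evalPt (toUnit (Sp j R)) (Red.gmFn p))
        (show toUnit _ ≫ c = c by rw [toUnit_unique (toUnit _) (𝟙 _), Category.id_comp])).symm.trans
        (hcv (toUnit (Sp j R)))).symm
    have ef : f = av := by
      refine hom_ext_affine fun R _ j t => ?_
      rw [← cancel_epi (self j).hom, ← Category.assoc, ← Category.assoc]
      obtain ⟨z, hz⟩ : ∃ z : Rˣ, (self j).hom ≫ t = up j z := ⟨_, (up_uv _).symm⟩
      obtain ⟨v, hv⟩ := isUnit_aEl H hne j R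
      have hzx : (z : R) = 1 + aEl H j R * (((z : R) - 1) * ↑v⁻¹) := by
        rw [← hv]; linear_combination ((z : R) - 1) * (-1 : R) * v.mul_inv
      have h1 := hc' j (((z : R) - 1) * ↑v⁻¹) 1 z (by rw [hval, _root_.mul_one]; exact hzx)
      obtain ⟨F, Z, h2⟩ := hτ R _ z hzx
      rw [hz]
      exact (h1.unique H h2).2.1
    rw [ec, ef]

end Groth.L14.RankOne
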