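import Groth.Agent.L14.RankOne.BorelClosed
import Groth.Agent.L24.LocQ.Descent
import Mathlib.AlgebraicGeometry.Morphisms.FlatMono

/-!
Homomorphisms of rank one systems which are faithfully flat on the torus.
-/

set_option autoImplicit false
universe u

open CategoryTheory CategoryTheory.Limits MonoidalCategory CartesianMonoidalCategory MonObj AlgebraicGeometry
open Groth.L25 Groth.L25.RankOne

set_option backward.isDefEq.respectTransparency.types false
set_option synthInstance.maxHeartbeats 100000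
set_option maxHeartbeats 1000000

noncomputable section

namespace Groth.L14.RankOne

variable {S : Scheme.{u}}

/-- Multiplication by a point of the multiplicative group. -/
def scaleLine (c : 𝟙_ (Over S) ⟶ Red.Gm S) : Red.Ga S ⟶ Red.Ga S :=
  GaPts.ptOfElt (Red.gmFn (toUnit (Red.Ga S) ≫ c) * Red.gaFn (𝟙 (Red.Ga S)))

theorem gaFn_scaleLine (c : 𝟙_ (Over S) ⟶ Red.Gm S) {X : Over S} (x : X ⟶ Red.Ga S) :
    Red.gaFn (x ≫ scaleLine c) = Red.gmFn (toUnit X ≫ c) * Red.gaFn x := by
  rw [scaleLine, GaPts.gaFn_comp, GaPts.gaFn_ptOfElt, map_mul, ← GaPts.gaFn_comp, Category.comp_id,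
    ← GmPts.gmFn_comp, ← Category.assoc, comp_toUnit]

theorem scaleLine_inv (c : 𝟙_ (Over S) ⟶ Red.Gm S) : scaleLine c ≫ scaleLine c⁻¹ = 𝟙 _ := by
  refine GaPts.gaFn_injective ?_
  show Red.gaFn _ = Red.gaFn _
  rw [gaFn_scaleLine, ← Category.id_comp (scaleLine c), gaFn_scaleLine, ← _root_.mul_assoc, ← GmPts.gmFn_mul,
    ← MonObj.comp_mul, inv_mul_cancel, MonObj.comp_one, GmPts.gmFn_one, _root_.one_mul]

theorem isIso_scaleLine (c : 𝟙_ (Over S) ⟶ Red.Gm S) : IsIso (scaleLine c) :=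
  ⟨scaleLine c⁻¹, scaleLine_inv c, by
    have := scaleLine_inv c⁻¹
    rwa [show c⁻¹⁻¹ = c from @_root_.inv_inv (𝟙_ (Over S) ⟶ Red.Gm S) _ c] at this⟩

variable {G T G' T' : Over S} [GrpObj G] [GrpObj T] [GrpObj G'] [GrpObj T']
  {i : T ⟶ G} [IsMonHom i] {pp pm : Red.Ga S ⟶ G} [IsMonHom pp] [IsMonHom pm]
  {i' : T' ⟶ G'} [IsMonHom i'] {pp' pm' : Red.Ga S ⟶ G'} [IsMonHom pp'] [IsMonHom pm']
  {f : G ⟶ G'} [IsMonHom f] {fT : T ⟶ T'} {a b : Red.Ga S ⟶ Red.Ga S}

/-- A map of big cells. -/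
def cellMap (a : Red.Ga S ⟶ Red.Ga S) (fT : T ⟶ T') (b : Red.Ga S ⟶ Red.Ga S) :
    (Red.Ga S ⊗ T) ⊗ Red.Ga S ⟶ (Red.Ga S ⊗ T') ⊗ Red.Ga S := (b ⊗ₘ fT) ⊗ₘ a

omit [IsMonHom i] [IsMonHom pp] [IsMonHom pm] [IsMonHom i'] [IsMonHom pp'] [IsMonHom pm'] in
theorem translates_comp (hT : i ≫ f = fT ≫ i') (hp : pp ≫ f = a ≫ pp') (hm : pm ≫ f = b ≫ pm') :
    translates i pp pm ≫ f = (a ⊗ₘ cellMap a fT b) ≫ translates i' pp' pm' := by
  have hcell : cell i pp pm ≫ f = cellMap a fT b ≫ cell i' pp' pm' := by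
    conv_lhs => rw [← Category.id_comp (cell i pp pm),
      show 𝟙 ((Red.Ga S ⊗ T) ⊗ Red.Ga S) = lift (lift (fst _ _ ≫ fst _ _) (fst _ _ ≫ snd _ _)) (snd _ _) by
        rw [← comp_lift, lift_fst_snd, Category.comp_id, lift_fst_snd], lift_cell]
    conv_rhs => rw [show cellMap a fT b = lift (lift ((fst _ _ ≫ fst _ _) ≫ b) ((fst _ _ ≫ snd _ _) ≫ fT))
      ((snd _ _) ≫ a) by
        rw [cellMap, ← lift_fst_comp_snd_comp, ← lift_fst_comp_snd_comp]
        simp only [Category.assoc, comp_lift], lift_cell]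
    simp only [MonObj.mul_comp, Category.assoc, hT, hp, hm]
  rw [translates, translates, MonObj.mul_comp, MonObj.comp_mul, Category.assoc, hp, Category.assoc, hcell,
    tensorHom_fst_assoc, tensorHom_snd_assoc]

theorem flat_tensor {A A' B B' : Over S} (p : A ⟶ A') (q : B ⟶ B') (hp : Flat p.left) (hq : Flat q.left) :
    Flat (p ⊗ₘ q).left := by
  haveI : Flat (A ◁ q).left := MorphismProperty.of_isPullback (P := @Flat)
    (Groth.L25.HomScheme.isPullback_whiskerLeft A q).flip hq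
  haveI : Flat (p ▷ B').left := by
    rw [show p ▷ B' = (β_ A B').hom ≫ (B' ◁ p) ≫ (β_ B' A').hom by
      ext <;> simp, Over.comp_left, Over.comp_left]
    haveI : Flat (B' ◁ p).left := MorphismProperty.of_isPullback (P := @Flat)
      (Groth.L25.HomScheme.isPullback_whiskerLeft B' p).flip hp
    haveI : IsIso (β_ A B').hom.left := inferInstanceAs (IsIso ((Over.forget S).map (β_ A B').hom))
    haveI : IsIso (β_ B' A').hom.left := inferInstanceAs (IsIso ((Over.forget S).map (β_ B' A').hom))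
    infer_instance
  rw [tensorHom_def', Over.comp_left]
  infer_instance

theorem surjective_tensor {A A' B B' : Over S} (p : A ⟶ A') (q : B ⟶ B') (hp : Surjective p.left)
    (hq : Surjective q.left) : Surjective (p ⊗ₘ q).left := by
  haveI : Surjective (A ◁ q).left := MorphismProperty.of_isPullback (P := @Surjective)
    (Groth.L25.HomScheme.isPullback_whiskerLeft A q).flip hq
  haveI : Surjective (p ▷ B').left := by
    rw [show p ▷ B' = (β_ A B').hom ≫ (B' ◁ p) ≫ (β_ B' A').hom by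
      ext <;> simp, Over.comp_left, Over.comp_left]
    haveI : Surjective (B' ◁ p).left := MorphismProperty.of_isPullback (P := @Surjective)
      (Groth.L25.HomScheme.isPullback_whiskerLeft B' p).flip hp
    haveI : IsIso (β_ A B').hom.left := inferInstanceAs (IsIso ((Over.forget S).map (β_ A B').hom))
    haveI : IsIso (β_ B' A').hom.left := inferInstanceAs (IsIso ((Over.forget S).map (β_ B' A').hom))
    infer_instance
  rw [tensorHom_def', Over.comp_left]
  infer_instance

omit [IsMonHom f] in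
/-- The homomorphism is faithfully flat and quasi-compact. -/
theorem flat_surjective_of_cellMap [IsMonHom f] {α : T ⟶ Red.Gm S} [IsMonHom α] {α' : T' ⟶ Red.Gm S} [IsMonHom α']
    {av : Red.Gm S ⟶ T} [IsMonHom av] {av' : Red.Gm S ⟶ T'} [IsMonHom av']
    (H : Sys i α pp pm av) (H' : Sys i' α' pp' pm' av')
    (hG : Red.IsReductive G) (hG' : Red.IsReductive G')
    (hcell : IsOpenImmersion (cell i pp pm).left) (hcell' : IsOpenImmersion (cell i' pp' pm').left)
    [IsIso a] [IsIso b] (hfl : Flat fT.left) (hsu : Surjective fT.left)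
    (hT : i ≫ f = fT ≫ i') (hp : pp ≫ f = a ≫ pp') (hm : pm ≫ f = b ≫ pm') :
    Flat f.left ∧ Surjective f.left ∧ QuasiCompact f.left := by
  haveI : IsIso a.left := inferInstanceAs (IsIso ((Over.forget S).map a))
  haveI : IsIso b.left := inferInstanceAs (IsIso ((Over.forget S).map b))
  obtain ⟨hφ, -⟩ := translates_props hG hcell
  have hφs := translates_surjective H hG hcell
  obtain ⟨hφ', -⟩ := translates_props hG' hcell'
  have hφs' := translates_surjective H' hG' hcell'
  haveI := hφ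
  haveI := hφs
  haveI := hφ'
  haveI := hφs'
  haveI : Flat (a ⊗ₘ cellMap a fT b).left :=
    flat_tensor _ _ inferInstance (flat_tensor _ _ (flat_tensor _ _ inferInstance hfl) inferInstance)
  haveI : Surjective (a ⊗ₘ cellMap a fT b).left :=
    surjective_tensor _ _ inferInstance (surjective_tensor _ _ (surjective_tensor _ _ inferInstance hsu) inferInstance)
  have e := congrArg CommaMorphism.left (translates_comp hT hp hm)
  simp only [Over.comp_left] at e
  haveI : Flat ((translates i pp pm).left ≫ f.left) := by rw [e]; infer_instance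
  haveI : Surjective ((translates i pp pm).left ≫ f.left) := by rw [e]; infer_instance
  haveI := hG.1
  haveI := hG'.1
  haveI : IsSeparated G'.hom := inferInstance
  refine ⟨Groth.L24.LocQ.flat_of_comp_surjective (translates i pp pm).left f.left ‹_›,
    Surjective.of_comp (translates i pp pm).left f.left, ?_⟩
  haveI : QuasiCompact (f.left ≫ G'.hom) := by rw [Over.w f]; infer_instance
  exact QuasiCompact.of_comp f.left G'.hom

omit [IsMonHom f] in
/-- The kernel lies in the torus. -/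
theorem kernel_in_torus [IsMonHom f] [IsMonHom fT] {α : T ⟶ Red.Gm S} [IsMonHom α] {α' : T' ⟶ Red.Gm S}
    {av : Red.Gm S ⟶ T} [IsMonHom av] (H : Sys i α pp pm av)
    (hG : Red.IsReductive G) (hcell : IsOpenImmersion (cell i pp pm).left)
    (hcell' : IsOpenImmersion (cell i' pp' pm').left) [Mono a] [Mono b] [IsMonHom a] [IsMonHom b] (hα : fT ≫ α' = α)
    [IsMonHom α'] (hT : i ≫ f = fT ≫ i') (hp : pp ≫ f = a ≫ pp') (hm : pm ≫ f = b ≫ pm')
    {X : Over S} (g : X ⟶ G) (hg : g ≫ f = 1) : ∃ t : X ⟶ T, t ≫ i = g ∧ t ≫ fT = 1 := by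
  have := hcell
  have := hcell'
  have hφs := translates_surjective H hG hcell
  have hmem : Mem i pp pm g := by
    let P : Over S := Over.mk (pullback.fst g.left (translates i pp pm).left ≫ X.hom)
    let u : P ⟶ X := Over.homMk (pullback.fst _ _) rfl
    let v : P ⟶ Red.Ga S ⊗ ((Red.Ga S ⊗ T) ⊗ Red.Ga S) := Over.homMk (pullback.snd _ _) (by
      show pullback.snd _ _ ≫ _ = pullback.fst _ _ ≫ X.hom
      rw [← Over.w (translates i pp pm), ← Over.w g, pullback.condition_assoc])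
    have huv : u ≫ g = v ≫ translates i pp pm := Over.OverMorphism.ext pullback.condition
    haveI : Surjective u.left := inferInstanceAs (Surjective (pullback.fst g.left (translates i pp pm).left))
    refine Mem.of_comp u ?_
    let r := v ≫ fst _ _
    let d := v ≫ snd _ _
    let Y := d ≫ fst _ _ ≫ fst _ _
    let t := d ≫ fst _ _ ≫ snd _ _
    let z := d ≫ snd _ _
    have hd : d = lift (lift Y t) z := by
      simp only [Y, t, z]
      rw [← comp_lift, ← comp_lift, ← comp_lift, lift_fst_snd, Category.comp_id, lift_fst_snd, Category.comp_id]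
    have h1 : u ≫ g = (r ≫ pp) * ((Y ≫ pm) * (t ≫ i) * (z ≫ pp)) := by
      rw [huv, translates, MonObj.comp_mul, ← Category.assoc, ← Category.assoc]
      show (r ≫ pp) * (d ≫ cell i pp pm) = _
      rw [hd, lift_cell]
    have h2 := congrArg (· ≫ f) h1
    simp only [Category.assoc, hg, MonObj.comp_one, MonObj.mul_comp, hp, hm, hT] at h2
    simp only [← Category.assoc] at h2
    have h3 : ((Y ≫ b) ≫ pm') * ((t ≫ fT) ≫ i') * ((z ≫ a) ≫ pp') =
        ((1 : P ⟶ Red.Ga S) ≫ pm') * ((1 : P ⟶ T') ≫ i') * ((r ≫ a)⁻¹ ≫ pp') := by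
      rw [MonObj.one_comp, MonObj.one_comp, _root_.one_mul, _root_.one_mul, GrpObj.inv_comp]
      exact eq_inv_of_mul_eq_one_right h2.symm
    obtain ⟨hY, ht, -⟩ := decomp_unique h3
    have hY' : Y = 1 := (cancel_mono b).1 (hY.trans (MonObj.one_comp b).symm)
    obtain ⟨r', hr', hr''⟩ := H.hpp P t⁻¹ r
    rw [GrpObj.inv_comp, inv_inv] at hr'
    rw [h1, hY', MonObj.one_comp, _root_.one_mul]
    rw [show (r ≫ pp) * ((t ≫ i) * (z ≫ pp)) =
        ((1 : P ⟶ Red.Ga S) ≫ pm) * (t ≫ i) * ((r' * z) ≫ pp) by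
      rw [MonObj.one_comp, _root_.one_mul, MonObj.mul_comp, hr']; group]
    exact mem_mul _ _ _
  obtain ⟨Y, t, z, rfl⟩ := hmem.exists_decomp
  simp only [MonObj.mul_comp, Category.assoc, hp, hm, hT] at hg
  simp only [← Category.assoc] at hg
  obtain ⟨hY, ht, hz⟩ := decomp_unique (y' := 1) (t' := 1) (x' := 1) (hg.trans (by simp [MonObj.one_comp]))
  have hY' : Y = 1 := (cancel_mono b).1 (hY.trans (MonObj.one_comp b).symm)
  have hz' : z = 1 := (cancel_mono a).1 (hz.trans (MonObj.one_comp a).symm)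
  exact ⟨t, by rw [hY', hz', MonObj.one_comp, MonObj.one_comp, _root_.one_mul, _root_.mul_one], ht⟩

theorem isMonHom_scaleLine (c : 𝟙_ (Over S) ⟶ Red.Gm S) : IsMonHom (scaleLine c) :=
  Groth.L25.Bridge.isMonHom_of_mul (scaleLine c) fun Y a b => GaPts.gaFn_injective (by
    show Red.gaFn _ = Red.gaFn _
    rw [gaFn_scaleLine, GaPts.gaFn_mul, GaPts.gaFn_mul, gaFn_scaleLine, gaFn_scaleLine, mul_add])

theorem isPullback_kernel [IsMonHom fT] [Mono i] {Q : Over S} (k : Q ⟶ T) (hk : AlgGrp.IsKernel k fT)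
    (hT : i ≫ f = fT ≫ i') (hker : ∀ (X : Over S) (g : X ⟶ G), g ≫ f = 1 → ∃ t : X ⟶ T, t ≫ i = g ∧ t ≫ fT = 1) :
    AlgGrp.IsKernel (k ≫ i) f := by
  have hkw : k ≫ fT = 1 := by rw [hk.w, Hom.one_def]
  have hw : (k ≫ i) ≫ f = toUnit Q ≫ η[G'] := by
    rw [Category.assoc, hT, ← Category.assoc, hkw, MonObj.one_comp, Hom.one_def]
  haveI : Mono k := ⟨fun u v h => hk.hom_ext h (toUnit_unique _ _)⟩
  refine IsPullback.of_isLimit' ⟨hw⟩ ?_
  have hex : ∀ s : PullbackCone f η[G'], ∃ l : s.pt ⟶ Q, l ≫ k ≫ i = s.fst ∧ l ≫ toUnit Q = s.snd := fun s => by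
    have h1 : s.fst ≫ f = 1 := by rw [s.condition, toUnit_unique s.snd (toUnit _), Hom.one_def]
    obtain ⟨t, ht, ht'⟩ := hker _ _ h1
    exact ⟨hk.lift t (toUnit _) (by rw [ht', Hom.one_def]), by rw [hk.lift_fst_assoc, ht], toUnit_unique _ _⟩
  choose l h1 h2 using hex
  exact PullbackCone.IsLimit.mk _ l h1 h2 fun s m hm _ => by
    rw [← cancel_mono k, ← cancel_mono i, Category.assoc, Category.assoc, h1, hm]

end Groth.L14.RankOne
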