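import Groth.Agent.L14.RankOne.PowHom

/-!
The three conditions on a homomorphism of rank one systems.
-/

set_option autoImplicit false
universe u

open CategoryTheory CategoryTheory.Limits MonoidalCategory CartesianMonoidalCategory MonObj AlgebraicGeometry
open Groth.L25 Groth.L25.RankOne

set_option backward.isDefEq.respectTransparency.types false
set_option synthInstance.maxHeartbeats 100000
set_option maxHeartbeats 1000000

noncomputable section

namespace Groth.L14.RankOne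

variable {S : Scheme.{u}} {G T G' T' : Over S} [GrpObj G] [GrpObj T] [GrpObj G'] [GrpObj T']
  {i : T ⟶ G} [IsMonHom i] {α : T ⟶ Red.Gm S} [IsMonHom α]
  {pp pm : Red.Ga S ⟶ G} [IsMonHom pp] [IsMonHom pm] {av : Red.Gm S ⟶ T} [IsMonHom av]
  {i' : T' ⟶ G'} [IsMonHom i'] {α' : T' ⟶ Red.Gm S} [IsMonHom α']
  {pp' pm' : Red.Ga S ⟶ G'} [IsMonHom pp'] [IsMonHom pm'] {av' : Red.Gm S ⟶ T'} [IsMonHom av']
  {q : ℕ} {F : G ⟶ G'} [IsMonHom F]
  (H : Sys i α pp pm av) (H' : Sys i' α' pp' pm' av')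

include H H' in
/-- A homomorphism of weight `q` on the opposite root group. -/
theorem exists_onRoot_neg (hT' : Red.IsTorus T') (hcell : IsOpenImmersion (cell i' pp' pm').left)
    (hi : OnCoroot i av i' av' F q) :
    ∃ n : 𝟙_ (Over S) ⟶ Red.Ga S, OnRoot pm pm' F q n := by
  have := isSeparated_torus hT'
  have := isOpenImmersion_cell_swap hcell
  have := isCommMonObj_gm (S := S)
  haveI : IsMonHom (α'⁻¹) := Groth.L25.Bridge.isMonHom_of_mul (α'⁻¹) fun Y a b => by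
    refine GmPts.gmFn_injective ?_
    show Red.gmFn _ = Red.gmFn _
    simp only [GrpObj.comp_inv, MonObj.mul_comp, ← GmPts.val_unitOfPt, GmPts.unitOfPt_mul, GmPts.unitOfPt_inv,
      mul_inv, Units.val_mul]
  have hv : ∀ {X : Over S} (t : X ⟶ T'), Red.gmFn (t ≫ α'⁻¹) * Red.gmFn (t ≫ α') = 1 := fun t => by
    rw [← GmPts.gmFn_mul, GrpObj.comp_inv, inv_mul_cancel, GmPts.gmFn_one]
  have hne : ∀ s : S, (Over.pullback (Red.geomPt s)).map (av' ≫ α'⁻¹) ≠ 1 := fun s h => by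
    refine square_ne_one s ?_
    haveI : IsMonHom ((𝟙 (Red.Gm S)) ^ 2) := H'.h2 ▸ (inferInstance : IsMonHom (av' ≫ α'))
    rw [← TrivLocus.triv_iff_map] at h ⊢
    intro Y p g
    have h1 := h Y p g
    rwa [GrpObj.comp_inv, GrpObj.comp_inv, inv_eq_one, H'.h2] at h1
  have W : Weighted (i := i') α'⁻¹ (pp := pm') (pm := pp') (pm ≫ F) q (Red.Gm S) av' := by
    refine weighted_of_torus hT' av' isTorus_gm hne (fun X t x => ?_) (fun X t y => ?_) _ q fun X t x x' hx => ?_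
    · obtain ⟨x', h1, h2⟩ := H'.hpm X t x
      exact ⟨x', h1, by linear_combination Red.gmFn (t ≫ α'⁻¹) * h2 - Red.gaFn x' * hv t⟩
    · obtain ⟨y', h1, h2⟩ := H'.hpp X t y
      exact ⟨y', h1, by linear_combination Red.gmFn (t ≫ α'⁻¹) * h2 + Red.gaFn y * hv t⟩
    · obtain ⟨x₁, h1, h2⟩ := H.hpm X (t ≫ av) x
      have e : (t ≫ av) ≫ α = (t ≫ av') ≫ α' := by rw [Category.assoc, Category.assoc, H.h2, H'.h2]
      have : x' = x₁ := GaPts.gaFn_injective (hx.trans (show _ = Red.gaFn x₁ by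
        rw [e] at h2
        rw [← Category.assoc]
        linear_combination -(Red.gmFn ((t ≫ av') ≫ α'⁻¹)) * h2 + Red.gaFn x₁ * hv (t ≫ av')))
      rw [this, ← Category.assoc, h1, MonObj.mul_comp, MonObj.mul_comp, GrpObj.inv_comp, Category.assoc t av i, hi X t,
        Category.assoc x pm F, MonObj.pow_comp, Category.assoc]
  obtain ⟨n, hn, -⟩ := W.existsUnique
  exact ⟨n, fun X x y hy => (Category.assoc _ _ _).trans (hn X x y hy)⟩

theorem h_eq_prod_scaled {A : Type*} [CommRing A] {Γ' : Type*} [Group Γ'] {Θ : Type*} (R : Rel A Γ' Θ) (c d : A) (hcd : c * d = 1)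
    (z : Aˣ) : R.b (d * (↑z⁻¹ - 1)) * R.a c * R.b (d * ((z : A) - 1)) * R.a (-(c * ↑z⁻¹)) = R.h z := by
  rw [_root_.mul_assoc (R.b _) (R.a c), R.comm c (d * ((z : A) - 1)) z (by linear_combination -((z : A) - 1) * hcd),
    ← _root_.mul_assoc, ← _root_.mul_assoc, ← R.b_add, _root_.mul_assoc _ (R.a _), ← R.a_add, add_neg_cancel,
    R.a_zero, _root_.mul_one, show d * (↑z⁻¹ - 1) + d * ((z : A) - 1) * ↑z⁻¹ = d * ((z : A) * ↑z⁻¹ - 1) by ring,
    Units.mul_inv, sub_self, mul_zero, R.b_zero, _root_.one_mul]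

theorem inv_pow_val {A : Type*} [CommRing A] (z : Aˣ) (q : ℕ) : (↑(z ^ q)⁻¹ : A) = (↑z⁻¹ : A) ^ q := by
  rw [← inv_pow, Units.val_pow_eq_pow_val]

include H H' in
/-- From the two root groups to the coroot. -/
theorem onCoroot_of_onRoots (hq0 : 0 < q) (hq : ∀ (X : Over S) (a b : Γ(X.left, ⊤)), (a + b) ^ q = a ^ q + b ^ q)
    {m n : 𝟙_ (Over S) ⟶ Red.Ga S}
    (hmn : ∀ X : Over S, Red.gaFn (toUnit X ≫ m) * Red.gaFn (toUnit X ≫ n) = 1)
    (hm : OnRoot pp pp' F q m) (hn : OnRoot pm pm' F q n) : OnCoroot i av i' av' F q := by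
  intro X z
  have e := congrArg (· ≫ F) ((rel H X).h_eq_prod (GmPts.unitOfPt z))
  simp only [MonObj.mul_comp] at e
  change ((GaPts.ptOfElt _ ≫ pm) ≫ F) * ((GaPts.ptOfElt (1 : Γ(X.left, ⊤)) ≫ pp) ≫ F) * ((GaPts.ptOfElt _ ≫ pm) ≫ F) *
    ((GaPts.ptOfElt _ ≫ pp) ≫ F) = _ at e
  rw [hm.apply, hn.apply, hn.apply, hm.apply, one_pow, _root_.mul_one, sub_pow_of_add hq0 (hq X),
    sub_pow_of_add hq0 (hq X), one_pow, neg_pow_of_add hq0 (hq X), ← inv_pow_val, ← Units.val_pow_eq_pow_val,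
    mul_neg] at e
  rw [av_eq H, ← MonObj.pow_comp z q av', Category.assoc, av_eq H',
    show GmPts.unitOfPt (z ^ q) = GmPts.unitOfPt z ^ q from map_pow (GmPts.equiv X) z q, ← e]
  exact h_eq_prod_scaled (rel H' X) _ _ (hmn X) _

/-- The element of `w(x)`. -/
def wPt (p m : Red.Ga S ⟶ G) {X : Over S} (x x' : X ⟶ Red.Ga S) : X ⟶ G := (x ≫ p) * (x' ≫ m) * (x ≫ p)

omit [IsMonHom α] [IsMonHom α'] in
/-- From the root groups to the elements `w`. -/
theorem onW_of_onRoots (hq0 : 0 < q) (hq : ∀ (X : Over S) (a b : Γ(X.left, ⊤)), (a + b) ^ q = a ^ q + b ^ q)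
    {m n : 𝟙_ (Over S) ⟶ Red.Ga S}
    (hmn : ∀ X : Over S, Red.gaFn (toUnit X ≫ m) * Red.gaFn (toUnit X ≫ n) = 1)
    (hm : OnRoot pp pp' F q m) (hn : OnRoot pm pm' F q n)
    (X : Over S) (x x' y y' : X ⟶ Red.Ga S) (hx : Red.gaFn x' * Red.gaFn x = -1)
    (hy : Red.gaFn y = Red.gaFn (toUnit X ≫ m) * Red.gaFn x ^ q) (hy' : Red.gaFn y' * Red.gaFn y = -1) :
    wPt pp pm x x' ≫ F = wPt pp' pm' y y' := by
  rw [wPt, wPt, MonObj.mul_comp, MonObj.mul_comp, hm X x y hy, hn X x' y' ?_]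
  have h1 : Red.gaFn x' ^ q * Red.gaFn x ^ q = -1 := by
    rw [← mul_pow, hx, neg_pow_of_add hq0 (hq X), one_pow]
  linear_combination -Red.gaFn (toUnit X ≫ n) * Red.gaFn x' ^ q * hy' + Red.gaFn (toUnit X ≫ n) * Red.gaFn x' ^ q * Red.gaFn y' * hy
    + Red.gaFn (toUnit X ≫ n) * Red.gaFn (toUnit X ≫ m) * Red.gaFn y' * h1 - Red.gaFn y' * hmn X

include H H' in
/-- From the elements `w` to the coroot. -/
theorem onCoroot_of_onW (c : 𝟙_ (Over S) ⟶ Red.Gm S)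
    (h : ∀ (X : Over S) (x x' y y' : X ⟶ Red.Ga S), Red.gaFn x' * Red.gaFn x = -1 →
      Red.gaFn y = Red.gmFn (toUnit X ≫ c) * Red.gaFn x ^ q → Red.gaFn y' * Red.gaFn y = -1 →
      wPt pp pm x x' ≫ F = wPt pp' pm' y y') : OnCoroot i av i' av' F q := by
  intro X z
  let cu : (Γ(X.left, ⊤))ˣ := GmPts.unitOfPt (toUnit X ≫ c)
  have hw : ∀ v : (Γ(X.left, ⊤))ˣ, (rel H X).w v ≫ F = (rel H' X).w (cu * v ^ q) := by
    intro v
    let x : X ⟶ Red.Ga S := GaPts.ptOfElt ↑v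
    let x' : X ⟶ Red.Ga S := GaPts.ptOfElt (-↑v⁻¹)
    let y : X ⟶ Red.Ga S := GaPts.ptOfElt ↑(cu * v ^ q)
    let y' : X ⟶ Red.Ga S := GaPts.ptOfElt (-↑(cu * v ^ q)⁻¹)
    have hx : Red.gaFn x' * Red.gaFn x = -1 := by
      simp only [x, x', GaPts.gaFn_ptOfElt, neg_mul, Units.inv_mul]
    have hy : Red.gaFn y = Red.gmFn (toUnit X ≫ c) * Red.gaFn x ^ q := by
      simp only [x, y, GaPts.gaFn_ptOfElt, Units.val_mul, Units.val_pow_eq_pow_val, cu, GmPts.val_unitOfPt]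
    have hy' : Red.gaFn y' * Red.gaFn y = -1 := by
      simp only [y, y', GaPts.gaFn_ptOfElt, neg_mul, Units.inv_mul]
    have e := h X x x' y y' hx hy hy'
    simp only [wPt] at e
    rw [w_eq H x x' hx, w_eq H' y y' hy', show RankOne.unitOf hx = v from Units.ext (GaPts.gaFn_ptOfElt _),
      show RankOne.unitOf hy' = cu * v ^ q from Units.ext (GaPts.gaFn_ptOfElt _)] at e
    exact e
  let w : (Γ(X.left, ⊤))ˣ := GmPts.unitOfPt z
  have e : (rel H X).h w = (rel H X).w w * ((rel H X).w 1)⁻¹ := by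
    conv_rhs => rw [← _root_.mul_one w, (rel H X).w_mul_left, mul_inv_cancel_right]
  have e' : (rel H' X).h (w ^ q) = (rel H' X).w (cu * w ^ q) * ((rel H' X).w cu)⁻¹ := by
    rw [_root_.mul_comm cu, (rel H' X).w_mul_left, mul_inv_cancel_right]
  rw [av_eq H, ← MonObj.pow_comp z q av', Category.assoc, av_eq H',
    show GmPts.unitOfPt (z ^ q) = GmPts.unitOfPt z ^ q from map_pow (GmPts.equiv X) z q, e, e', MonObj.mul_comp,
    GrpObj.inv_comp, hw, hw, one_pow, _root_.mul_one]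

/-- A unit point as an element of the additive group. -/
def gaOf (c : 𝟙_ (Over S) ⟶ Red.Gm S) : 𝟙_ (Over S) ⟶ Red.Ga S := GaPts.ptOfElt (Red.gmFn c)

theorem gaFn_gaOf (c : 𝟙_ (Over S) ⟶ Red.Gm S) (X : Over S) :
    Red.gaFn (toUnit X ≫ gaOf c) = Red.gmFn (toUnit X ≫ c) := by
  rw [gaOf, GaPts.gaFn_comp, GaPts.gaFn_ptOfElt, GmPts.gmFn_comp]

theorem gaOf_mul_inv (c : 𝟙_ (Over S) ⟶ Red.Gm S) (X : Over S) :
    Red.gaFn (toUnit X ≫ gaOf c) * Red.gaFn (toUnit X ≫ gaOf c⁻¹) = 1 := by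
  rw [gaFn_gaOf, gaFn_gaOf, ← GmPts.gmFn_mul, ← MonObj.comp_mul, mul_inv_cancel, MonObj.comp_one, GmPts.gmFn_one]

end Groth.L14.RankOne
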