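import Groth.Agent.L14.RankOne.Generated
import Groth.Agent.L14.RankOne.PowHom2
import Groth.Agent.L14.Smoothing.SymAlg
import Groth.Agent.L25.HomScheme.Family
import Groth.Agent.L23.Descent

/-!
The Borel subgroups of a rank one system are closed.
-/

set_option autoImplicit false
universe u

open CategoryTheory CategoryTheory.Limits MonoidalCategory CartesianMonoidalCategory MonObj AlgebraicGeometry
open Groth.L25 Groth.L25.RankOne

set_option backward.isDefEq.respectTransparency.types false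
set_option synthInstance.maxHeartbeats 100000
set_option maxHeartbeats 1000000

noncomputable section

namespace Groth.L14.RankOne

/-- A product in the big cell twice is a translate of an element of the big cell. -/
theorem exists_translate {A : Type*} [CommRing A] {Γ' : Type*} [Group Γ'] {Θ : Type*} (R : Rel A Γ' Θ) [Nontrivial A]
    (hA : ∀ a : A, a = 0 ∨ IsUnit a)
    (hw : ∀ c : Aˣ, R.a c * R.b (-↑c⁻¹) * R.a c = R.b (-↑c⁻¹) * R.a c * R.b (-↑c⁻¹))
    (y z y' : A) : ∃ (r Y Z : A) (u : Aˣ), R.b y * R.a z * R.b y' = R.a r * (R.b Y * R.h u * R.a Z) := by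
  rcases hA (1 + z * y) with h0 | h1
  · have hzy : z * y = -1 := by linear_combination h0
    let c : Aˣ := ⟨z, -y, by linear_combination -hzy, by linear_combination -hzy⟩
    have hyc : y = -(↑c⁻¹ : A) := by simp [c]
    have hwc : R.b y * R.a z * R.b y = R.w c := by
      rw [hyc]; exact (hw c).symm
    have hconj : R.w c * R.b (y' - y) = R.a (-(z * z * (y' - y))) * R.w c := by
      rcases hA (y' - y) with hs | ⟨s, hs⟩
      · rw [hs]; simp only [mul_zero, neg_zero, R.a_zero, R.b_zero, _root_.mul_one, _root_.one_mul]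
      · let d : Aˣ := -(c * c * s)
        have h1 : R.w d * R.a d = R.b (-↑d⁻¹) * R.w d := by
          show R.a d * R.b (-↑d⁻¹) * R.a d * R.a d = R.b (-↑d⁻¹) * (R.a d * R.b (-↑d⁻¹) * R.a d)
          conv_lhs => rw [hw d]
          simp only [_root_.mul_assoc]
        have hv : R.w (-c) = R.h (c⁻¹ * s⁻¹) * R.w d := by
          rw [← R.w_mul_left]; congr 1
          simp only [d, mul_neg]
          refine Units.ext ?_
          simp only [Units.val_neg, Units.val_mul]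
          linear_combination (c : A) * c.inv_mul + (c : A) * (↑c⁻¹ : A) * c * s.inv_mul
        have hwi : R.w c = (R.w (-c))⁻¹ := by rw [← R.w_inv, inv_inv]
        rw [hwi, hv, ← hs, show -(z * z * (s : A)) = (d : A) by simp [d, c]]
        have hh : (R.h (c⁻¹ * s⁻¹))⁻¹ * R.b s = R.b (-↑d⁻¹) * (R.h (c⁻¹ * s⁻¹))⁻¹ := by
          rw [← R.h_inv, R.h_mul_b]
          congr 2
          simp only [d, inv_neg, mul_inv_rev, inv_inv, Units.val_neg, Units.val_mul, neg_neg]
          linear_combination (↑s⁻¹ : A) * ↑c⁻¹ * ↑c⁻¹ * s.inv_mul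
        rw [mul_inv_rev, _root_.mul_assoc, hh, ← _root_.mul_assoc, ← _root_.mul_assoc,
          show (R.w d)⁻¹ * R.b (-↑d⁻¹) = R.a d * (R.w d)⁻¹ by
            rw [eq_mul_inv_iff_mul_eq, _root_.mul_assoc, ← h1, inv_mul_cancel_left]]
    refine ⟨-(z * z * (y' - y)) + z, y, z, 1, ?_⟩
    calc R.b y * R.a z * R.b y' = R.b y * R.a z * R.b y * R.b (y' - y) := by
          rw [_root_.mul_assoc _ (R.b y), ← R.b_add, add_sub_cancel]
      _ = R.a (-(z * z * (y' - y))) * R.w c := by rw [hwc, hconj]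
      _ = _ := by
        rw [R.h_one, _root_.mul_one, R.a_add, hyc]
        show _ * (R.a (c : A) * R.b (-↑c⁻¹) * R.a c) = _
        simp only [_root_.mul_assoc]
        rfl
  · obtain ⟨u, hu⟩ := h1
    refine ⟨z * ↑u⁻¹, (u : A) * u * (y * ↑u⁻¹ + y'), 0, u⁻¹, ?_⟩
    rw [R.comm' z y u hu, R.a_zero, _root_.mul_one, _root_.mul_assoc, _root_.mul_assoc, ← R.b_add, ← R.h_inv,
      R.h_mul_b, inv_inv]

variable {S : Scheme.{u}} {G T : Over S} [GrpObj G] [GrpObj T] {i : T ⟶ G} [IsMonHom i]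
  {α : T ⟶ Red.Gm S} [IsMonHom α] {pp pm : Red.Ga S ⟶ G} [IsMonHom pp] [IsMonHom pm]
  {av : Red.Gm S ⟶ T} [IsMonHom av] (H : Sys i α pp pm av)

/-- The translates of the big cell by the positive root group. -/
def translates (i : T ⟶ G) (pp pm : Red.Ga S ⟶ G) : Red.Ga S ⊗ ((Red.Ga S ⊗ T) ⊗ Red.Ga S) ⟶ G :=
  (fst _ _ ≫ pp) * (snd _ _ ≫ cell i pp pm)

omit [IsMonHom i] [IsMonHom pp] [IsMonHom pm] in
theorem translates_props (hG : Red.IsReductive G) (hcell : IsOpenImmersion (cell i pp pm).left) :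
    Flat (translates i pp pm).left ∧ LocallyOfFinitePresentation (translates i pp pm).left := by
  let D := (Red.Ga S ⊗ T) ⊗ Red.Ga S
  haveI := hG.1
  haveI := hG.2.1
  have := hcell
  let e : Red.Ga S ⊗ G ⟶ Red.Ga S ⊗ G := lift (fst _ _) ((fst _ _ ≫ pp) * snd _ _)
  let e' : Red.Ga S ⊗ G ⟶ Red.Ga S ⊗ G := lift (fst _ _) ((fst _ _ ≫ pp)⁻¹ * snd _ _)
  haveI : IsIso e := ⟨e', by
    ext1
    · simp [e, e']
    · simp only [e, e', Category.assoc, lift_snd, MonObj.comp_mul, GrpObj.comp_inv, lift_fst_assoc, Category.id_comp,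
        inv_mul_cancel_left], by
    ext1
    · simp [e, e']
    · simp only [e, e', Category.assoc, lift_snd, MonObj.comp_mul, GrpObj.comp_inv, lift_fst_assoc, Category.id_comp,
        mul_inv_cancel_left]⟩
  haveI : IsIso e.left := inferInstanceAs (IsIso ((Over.forget S).map e))
  have heq : translates i pp pm = (Red.Ga S ◁ cell i pp pm) ≫ e ≫ snd _ _ := by
    simp only [translates, e, lift_snd, MonObj.comp_mul, ← Category.assoc, whiskerLeft_fst, whiskerLeft_snd]
  haveI : Smooth (Red.Ga S).hom := by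
    haveI : Smooth (Red.GaZ.{u}).hom := by
      refine (HasRingHomProperty.Spec_iff (P := @Smooth)).2 ?_
      exact RingHom.smooth_algebraMap.2
        (inferInstanceAs (Algebra.Smooth (ULift.{u} ℤ) (SymmetricAlgebra (ULift.{u} ℤ) (ULift.{u} ℤ))))
    exact MorphismProperty.pullback_snd (P := @Smooth) _ _ ‹_›
  haveI : IsOpenImmersion (Red.Ga S ◁ cell i pp pm).left :=
    MorphismProperty.of_isPullback (P := @IsOpenImmersion)
      (Groth.L25.HomScheme.isPullback_whiskerLeft (Red.Ga S) (cell i pp pm)).flip hcell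
  haveI : Smooth (snd (Red.Ga S) G).left := inferInstanceAs (Smooth (pullback.snd (Red.Ga S).hom G.hom))
  rw [heq, Over.comp_left, Over.comp_left]
  exact ⟨inferInstance, inferInstance⟩

include H in
theorem translates_surjective (hG : Red.IsReductive G) (hcell : IsOpenImmersion (cell i pp pm).left) :
    Surjective (translates i pp pm).left := by
  have := hcell
  refine ⟨fun v => ?_⟩
  let K : Type u := G.left.residueField v
  let j : Spec (CommRingCat.of K) ⟶ S := G.left.fromSpecResidueField v ≫ G.hom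
  let x : Sp j K ⟶ G := (self j).hom ≫ Over.homMk (G.left.fromSpecResidueField v) rfl
  obtain ⟨X', f, a, b, -, hfs, -, ha, hb, hfab⟩ := exists_two_cell hG hcell x
  haveI := hfs
  obtain ⟨p, -⟩ := f.left.surjective (IsLocalRing.closedPoint K)
  let X : Over S := Over.mk (X'.left.fromSpecResidueField p ≫ X'.hom)
  let c : X ⟶ X' := Over.homMk (X'.left.fromSpecResidueField p) rfl
  obtain ⟨Y₁, t₁, Z₁, h₁⟩ := (ha.comp c).exists_decomp
  obtain ⟨Y₂, t₂, Z₂, h₂⟩ := (hb.comp c).exists_decomp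
  let e := (Scheme.ΓSpecIso (X'.left.residueField p)).commRingCatIsoToRingEquiv
  have hA : ∀ r : Γ(X.left, ⊤), r = 0 ∨ IsUnit r := fun r => by
    rcases eq_or_ne (e r) 0 with h | h
    · left; exact e.injective (h.trans (map_zero e).symm)
    · right
      have := (isUnit_iff_ne_zero.2 h).map e.symm
      rwa [RingEquiv.symm_apply_apply] at this
  haveI : Nontrivial Γ(X.left, ⊤) := e.toEquiv.nontrivial
  let R := rel H X
  obtain ⟨Y₂', hY, -⟩ := H.hpm X t₁ Y₂
  obtain ⟨Z₁', hZ, -⟩ := H.hpp X t₁ Z₁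
  obtain ⟨r, Y, Z, u, he⟩ := exists_translate R hA (fun c => braid H (X := X) c)
    (Red.gaFn Y₁) (Red.gaFn Z₁') (Red.gaFn Y₂')
  rw [← pm_eq H, ← pm_eq H, ← pp_eq H] at he
  obtain ⟨Z', hZ', -⟩ := H.hpp X (t₁ * t₂)⁻¹ (GaPts.ptOfElt Z)
  rw [GrpObj.inv_comp, inv_inv] at hZ'
  let q : X ⟶ Red.Ga S ⊗ ((Red.Ga S ⊗ T) ⊗ Red.Ga S) :=
    lift (GaPts.ptOfElt r) (lift (lift (GaPts.ptOfElt Y) ((GmPts.ptOfUnit u ≫ av) * (t₁ * t₂))) (Z' * Z₂))
  have hq : q ≫ translates i pp pm = c ≫ f ≫ x := by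
    simp only [q, translates, MonObj.comp_mul, lift_fst_assoc, lift_snd_assoc, lift_cell]
    rw [hfab, MonObj.comp_mul, h₁, h₂]
    simp only [MonObj.mul_comp, Category.assoc]
    rw [hZ']
    calc (GaPts.ptOfElt r ≫ pp) * ((GaPts.ptOfElt Y ≫ pm) *
          ((GmPts.ptOfUnit u ≫ av ≫ i) * ((t₁ ≫ i) * (t₂ ≫ i))) *
          ((((t₁ * t₂) ≫ i)⁻¹ * (GaPts.ptOfElt Z ≫ pp) * ((t₁ * t₂) ≫ i)) * (Z₂ ≫ pp)))
        = (R.a r * (R.b Y * R.h u * R.a Z)) * ((t₁ ≫ i) * (t₂ ≫ i)) * (Z₂ ≫ pp) := by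
          show _ = ((GaPts.ptOfElt r ≫ pp) * ((GaPts.ptOfElt Y ≫ pm) * (GmPts.ptOfUnit u ≫ av ≫ i) *
            (GaPts.ptOfElt Z ≫ pp))) * ((t₁ ≫ i) * (t₂ ≫ i)) * (Z₂ ≫ pp)
          rw [MonObj.mul_comp]; group
      _ = (Y₁ ≫ pm) * (Z₁' ≫ pp) * (Y₂' ≫ pm) * ((t₁ ≫ i) * (t₂ ≫ i)) * (Z₂ ≫ pp) := by rw [← he]
      _ = _ := by rw [hY, hZ]; group
  obtain ⟨z, hz⟩ : p ∈ Set.range (X'.left.fromSpecResidueField p) := by
    rw [Scheme.range_fromSpecResidueField]; rfl
  refine ⟨q.left z, ?_⟩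
  have h := congrArg (fun φ : X ⟶ G => φ.left z) hq
  refine h.trans ?_
  have hx : ∀ w, x.left w = v := fun w => by
    have : x.left w ∈ Set.range (G.left.fromSpecResidueField v) := ⟨_, rfl⟩
    rwa [Scheme.range_fromSpecResidueField, Set.mem_singleton_iff] at this
  exact hx _

/-- The section of the Borel subgroup in the big cell. -/
def secB : T ⊗ Red.Ga S ⟶ (Red.Ga S ⊗ T) ⊗ Red.Ga S := lift (lift 1 (fst _ _)) (snd _ _)

/-- The Borel subgroup. -/
def borel (i : T ⟶ G) (pp : Red.Ga S ⟶ G) : T ⊗ Red.Ga S ⟶ G := (i ⊗ₘ pp) ≫ μ[G]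

/-- The retraction. -/
def retB : (Red.Ga S ⊗ T) ⊗ Red.Ga S ⟶ T ⊗ Red.Ga S := lift (fst _ _ ≫ snd _ _) (snd _ _)

theorem secB_retB : secB (S := S) (T := T) ≫ retB = 𝟙 _ := by
  rw [secB, retB, comp_lift, lift_fst_assoc, lift_snd, lift_snd, lift_fst_snd]

omit [IsMonHom i] [IsMonHom pp] in
theorem lift_borel {X : Over S} (t : X ⟶ T) (z : X ⟶ Red.Ga S) : lift t z ≫ borel i pp = (t ≫ i) * (z ≫ pp) := by
  rw [borel, lift_map_assoc, Hom.mul_def]

omit [IsMonHom i] [IsMonHom pp] in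
theorem secB_cell : secB ≫ cell i pp pm = borel i pp := by
  conv_rhs => rw [← Category.id_comp (borel i pp), ← lift_fst_snd, lift_borel]
  rw [secB, lift_cell, MonObj.one_comp, _root_.one_mul]

theorem mono_top : Mono (Red.Ga S ◁ secB (S := S) (T := T)) :=
  (⟨Red.Ga S ◁ retB, by rw [← whiskerLeft_comp, secB_retB, MonoidalCategory.whiskerLeft_id]⟩ :
    SplitMono (Red.Ga S ◁ secB (S := S) (T := T))).mono

omit [GrpObj G] in
theorem isClosedImmersion_top [IsSeparated T.hom] [IsSeparated (Red.Ga S).hom] :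
    IsClosedImmersion (Red.Ga S ◁ secB (S := S) (T := T)).left := by
  let D := (Red.Ga S ⊗ T) ⊗ Red.Ga S
  let qq : Red.Ga S ⊗ D ⟶ Red.Ga S ⊗ (T ⊗ Red.Ga S) := Red.Ga S ◁ retB
  haveI : IsSeparated (Red.Ga S ⊗ D).hom := by
    show IsSeparated (pullback.fst _ _ ≫ (Red.Ga S).hom)
    haveI : IsSeparated D.hom := by
      haveI : IsSeparated (Red.Ga S ⊗ T).hom := inferInstanceAs (IsSeparated (pullback.fst _ _ ≫ (Red.Ga S).hom))
      exact inferInstanceAs (IsSeparated (pullback.fst _ _ ≫ (Red.Ga S ⊗ T).hom))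
    infer_instance
  haveI : IsSeparated qq.left := by
    haveI : IsSeparated (qq.left ≫ (Red.Ga S ⊗ (T ⊗ Red.Ga S)).hom) := by rw [Over.w qq]; infer_instance
    exact IsSeparated.of_comp qq.left (Red.Ga S ⊗ (T ⊗ Red.Ga S)).hom
  haveI : IsClosedImmersion ((Red.Ga S ◁ secB (S := S) (T := T)).left ≫ qq.left) := by
    rw [← Over.comp_left, ← whiskerLeft_comp, secB_retB, MonoidalCategory.whiskerLeft_id]
    exact inferInstanceAs (IsClosedImmersion (𝟙 _))
  exact IsClosedImmersion.of_comp _ qq.left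

include H in
theorem exists_isPullback (hcell : IsOpenImmersion (cell i pp pm).left) :
    ∃ γ : Red.Ga S ⊗ (T ⊗ Red.Ga S) ⟶ T ⊗ Red.Ga S,
      IsPullback (Red.Ga S ◁ secB) γ (translates i pp pm) (borel i pp) := by
  have := hcell
  let D := (Red.Ga S ⊗ T) ⊗ Red.Ga S
  haveI : Mono (cell i pp pm) := Over.mono_of_mono_left _
  haveI : Mono (secB (S := S) (T := T)) := (⟨retB, secB_retB⟩ : SplitMono (secB (S := S) (T := T))).mono
  haveI : Mono (borel i pp) := by rw [← secB_cell (pm := pm)]; infer_instance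
  haveI := mono_top (S := S) (T := T)
  obtain ⟨z', hz', hz''⟩ := H.hpp (Red.Ga S ⊗ (T ⊗ Red.Ga S)) (snd _ _ ≫ fst _ _)⁻¹ (fst _ _)
  rw [GrpObj.inv_comp, inv_inv] at hz'
  let γ : Red.Ga S ⊗ (T ⊗ Red.Ga S) ⟶ T ⊗ Red.Ga S := lift (snd _ _ ≫ fst _ _) (z' * (snd _ _ ≫ snd _ _))
  have hw : (Red.Ga S ◁ secB) ≫ translates i pp pm = γ ≫ borel i pp := by
    simp only [γ, translates, lift_borel, MonObj.comp_mul, whiskerLeft_fst_assoc, whiskerLeft_snd_assoc, secB_cell]
    rw [show snd (Red.Ga S) (T ⊗ Red.Ga S) ≫ borel i pp =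
        ((snd _ _ ≫ fst _ _) ≫ i) * ((snd _ _ ≫ snd _ _) ≫ pp) by
      rw [← lift_borel, ← comp_lift, lift_fst_snd, Category.comp_id], MonObj.mul_comp, hz']
    group
  refine ⟨γ, IsPullback.of_isLimit' ⟨hw⟩ ?_⟩
  have hfac : ∀ s : PullbackCone (translates i pp pm) (borel i pp),
        ∃ l : s.pt ⟶ Red.Ga S ⊗ (T ⊗ Red.Ga S), l ≫ (Red.Ga S ◁ secB) = s.fst ∧ l ≫ γ = s.snd := fun s => by
      let r : s.pt ⟶ Red.Ga S := s.fst ≫ fst _ _
      let d : s.pt ⟶ D := s.fst ≫ snd _ _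
      let Y : s.pt ⟶ Red.Ga S := d ≫ fst _ _ ≫ fst _ _
      let t : s.pt ⟶ T := d ≫ fst _ _ ≫ snd _ _
      let z : s.pt ⟶ Red.Ga S := d ≫ snd _ _
      have hd : d = lift (lift Y t) z := by
        simp only [Y, t, z]
        rw [← comp_lift, ← comp_lift, ← comp_lift, lift_fst_snd, Category.comp_id, lift_fst_snd, Category.comp_id]
      let t' : s.pt ⟶ T := s.snd ≫ fst _ _
      let w : s.pt ⟶ Red.Ga S := s.snd ≫ snd _ _
      have hcond := s.condition
      rw [show s.snd = lift t' w by rw [← comp_lift, lift_fst_snd, Category.comp_id], lift_borel] at hcond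
      simp only [translates, MonObj.comp_mul, ← Category.assoc] at hcond
      change (r ≫ pp) * (d ≫ cell i pp pm) = _ at hcond
      rw [hd, lift_cell] at hcond
      obtain ⟨r', hr', -⟩ := H.hpp s.pt t'⁻¹ r⁻¹
      rw [GrpObj.inv_comp, inv_inv, GrpObj.inv_comp] at hr'
      have hd' : (Y ≫ pm) * (t ≫ i) * (z ≫ pp) =
          ((1 : s.pt ⟶ Red.Ga S) ≫ pm) * (t' ≫ i) * ((r' * w) ≫ pp) := by
        rw [MonObj.one_comp, _root_.one_mul, MonObj.mul_comp, hr']
        rw [← eq_inv_mul_iff_mul_eq] at hcond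
        rw [hcond]; group
      obtain ⟨hY, ht, -⟩ := decomp_unique hd'
      let l : s.pt ⟶ Red.Ga S ⊗ (T ⊗ Red.Ga S) := lift r (lift t z)
      have e1 : l ≫ (Red.Ga S ◁ secB) = s.fst := by
        rw [show s.fst = lift r d by rw [← comp_lift, lift_fst_snd, Category.comp_id], hd, hY]
        simp only [l, lift_whiskerLeft, secB, comp_lift, MonObj.comp_one, lift_fst, lift_snd]
      refine ⟨l, e1, ?_⟩
      rw [← cancel_mono (borel i pp), Category.assoc, ← hw, ← Category.assoc, e1]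
      exact s.condition
  choose l hl1 hl2 using hfac
  exact PullbackCone.IsLimit.mk _ l hl1 hl2 fun s m hm _ => by
    rw [← cancel_mono (Red.Ga S ◁ secB), hm, hl1]

include H in
/-- The Borel subgroup is closed. -/
theorem isClosedImmersion_borel (hG : Red.IsReductive G) (hT : Red.IsTorus T)
    (hcell : IsOpenImmersion (cell i pp pm).left) : IsClosedImmersion ((i ⊗ₘ pp) ≫ μ[G]).left := by
  haveI : IsAffineHom T.hom := Central.isAffineHom_of_multTypeFT (Locus.isMultTypeFT_of_isTorus hT)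
  haveI : IsSeparated T.hom := inferInstance
  haveI : IsSeparated (Red.Ga S).hom := by
    haveI : IsAffine (Red.GaZ.{u}).left :=
      inferInstanceAs (IsAffine (Spec (CommRingCat.of (SymmetricAlgebra (ULift.{u} ℤ) (ULift.{u} ℤ)))))
    haveI : IsAffineHom (Red.GaZ.{u}).hom := isAffineHom_of_isAffine _
    haveI : IsAffineHom (pullback.snd (Red.GaZ.{u}).hom (specULiftZIsTerminal.from S)) :=
      MorphismProperty.pullback_snd _ _ ‹_›
    haveI : IsAffineHom (Red.Ga S).hom := inferInstanceAs (IsAffineHom (pullback.snd _ _))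
    infer_instance
  obtain ⟨γ, hlim⟩ := exists_isPullback H hcell
  obtain ⟨hfl, hfp⟩ := translates_props hG hcell
  exact MorphismProperty.of_isPullback_of_descendsAlong (P := @IsClosedImmersion)
    (Q := @Surjective ⊓ @Flat ⊓ @LocallyOfFinitePresentation) (hlim.map (Over.forget S))
    ⟨⟨translates_surjective H hG hcell, hfl⟩, hfp⟩ isClosedImmersion_top

omit [IsMonHom i] [IsMonHom pm] in
theorem isClosedImmersion_root (hT : Red.IsTorus T) (hB : IsClosedImmersion ((i ⊗ₘ pp) ≫ μ[G]).left)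
    [IsMonHom i] : IsClosedImmersion pp.left := by
  haveI := hB
  haveI : IsAffineHom T.hom := Central.isAffineHom_of_multTypeFT (Locus.isMultTypeFT_of_isTorus hT)
  haveI : IsSeparated T.hom := inferInstance
  let sec : Red.Ga S ⟶ T ⊗ Red.Ga S := lift 1 (𝟙 _)
  have e : sec ≫ (i ⊗ₘ pp) ≫ μ[G] = pp := by
    rw [← Category.assoc, lift_map, Category.id_comp, MonObj.one_comp, ← Hom.mul_def, _root_.one_mul]
  haveI : IsSeparated (snd T (Red.Ga S)).left := inferInstanceAs (IsSeparated (pullback.snd T.hom (Red.Ga S).hom))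
  haveI : IsClosedImmersion (sec.left ≫ (snd T (Red.Ga S)).left) := by
    rw [← Over.comp_left, lift_snd]
    exact inferInstanceAs (IsClosedImmersion (𝟙 _))
  haveI : IsClosedImmersion sec.left := IsClosedImmersion.of_comp sec.left (snd T (Red.Ga S)).left
  rw [← e, Over.comp_left]
  infer_instance

include H in
/-- The opposite system. -/
theorem sys_swap : Sys i α⁻¹ pm pp av⁻¹ := by
  have hv : ∀ {X : Over S} (t : X ⟶ T), Red.gmFn (t ≫ α⁻¹) * Red.gmFn (t ≫ α) = 1 := fun t => by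
    rw [← GmPts.gmFn_mul, GrpObj.comp_inv, inv_mul_cancel, GmPts.gmFn_one]
  refine ⟨fun X t x => ?_, fun X t y => ?_, ?_, fun X x y h => ?_⟩
  · obtain ⟨x', h1, h2⟩ := H.hpm X t x
    exact ⟨x', h1, by linear_combination Red.gmFn (t ≫ α⁻¹) * h2 - Red.gaFn x' * hv t⟩
  · obtain ⟨y', h1, h2⟩ := H.hpp X t y
    exact ⟨y', h1, by linear_combination Red.gmFn (t ≫ α⁻¹) * h2 + Red.gaFn y * hv t⟩
  · refine GmPts.gmFn_injective ?_
    show Red.gmFn (av⁻¹ ≫ α⁻¹) = Red.gmFn _
    rw [← H.h2, GrpObj.comp_inv]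
    have e : (av⁻¹ ≫ α) * (av ≫ α) = 1 := by rw [← MonObj.mul_comp, inv_mul_cancel, MonObj.one_comp]
    rw [show av⁻¹ ≫ α = (av ≫ α)⁻¹ from eq_inv_iff_mul_eq_one.2 e]
    exact congrArg Red.gmFn (@_root_.inv_inv (Red.Gm S ⟶ Red.Gm S) _ _)
  · obtain ⟨u, hu⟩ := h
    refine ⟨GaPts.ptOfElt (Red.gaFn x * ↑u⁻¹), GaPts.ptOfElt (Red.gaFn y * ↑u⁻¹), GmPts.ptOfUnit u,
      (GmPts.gmFn_ptOfUnit u).trans hu, ?_, ?_, ?_⟩
    · rw [GaPts.gaFn_ptOfElt, GmPts.gmFn_ptOfUnit, _root_.mul_assoc, Units.inv_mul, _root_.mul_one]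
    · rw [GaPts.gaFn_ptOfElt, GmPts.gmFn_ptOfUnit, _root_.mul_assoc, Units.inv_mul, _root_.mul_one]
    · rw [pp_eq H, pm_eq H, (rel H X).comm' (Red.gaFn y) (Red.gaFn x) u (by rw [hu]; ring), GrpObj.inv_comp,
        GrpObj.comp_inv]
      rfl

end Groth.L14.RankOne
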