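import Groth.Agent.L14.RankOne.Centralizer

/-!
Points inverting a power of the coroot.
-/

set_option autoImplicit false
universe u

open CategoryTheory CategoryTheory.Limits MonoidalCategory CartesianMonoidalCategory MonObj AlgebraicGeometry
open Groth.L25 Groth.L25.RankOne

set_option backward.isDefEq.respectTransparency.types false
set_option synthInstance.maxHeartbeats 100000
set_option maxHeartbeats 1000000

noncomputable section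

namespace Groth.L14.RankOne

variable {S : Scheme.{u}} {G T : Over S} [GrpObj G] [GrpObj T] {i : T ⟶ G} [IsMonHom i]
  {α : T ⟶ Red.Gm S} [IsMonHom α] {pp pm : Red.Ga S ⟶ G} [IsMonHom pp] [IsMonHom pm]
  {av : Red.Gm S ⟶ T} [IsMonHom av] (H : Sys i α pp pm av)

/-- The root character on points. -/
def chiW (α : T ⟶ Red.Gm S) [IsMonHom α] (X : Over S) : (X ⟶ T) →* (Γ(X.left, ⊤))ˣ :=
  MonoidHom.mk' (fun t => GmPts.unitOfPt (t ≫ α)) fun a b => by rw [MonObj.mul_comp, GmPts.unitOfPt_mul]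

include H in
/-- The Weyl element conjugates the torus by the reflection. -/
theorem w_conj_torus {X : Over S} (x : (Γ(X.left, ⊤))ˣ) (t : X ⟶ T) :
    (rel H X).w x * (t ≫ i) * ((rel H X).w x)⁻¹ = (t ≫ α ≫ av ≫ i)⁻¹ * (t ≫ i) := by
  refine ((rel H X).w_conj_j x t).trans ?_
  show (GmPts.ptOfUnit (GmPts.unitOfPt (t ≫ α)) ≫ av ≫ i)⁻¹ * (t ≫ i) = _
  rw [GmPts.ptOfUnit_unitOfPt, Category.assoc]

include H in
/-- The Weyl element at one, pulled back. -/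
theorem comp_w_one {X X' : Over S} (f : X' ⟶ X) : f ≫ (rel H X).w 1 = (rel H X').w 1 := by
  show f ≫ ((GaPts.ptOfElt _ ≫ pp) * (GaPts.ptOfElt _ ≫ pm) * (GaPts.ptOfElt _ ≫ pp)) =
    (GaPts.ptOfElt _ ≫ pp) * (GaPts.ptOfElt _ ≫ pm) * (GaPts.ptOfElt _ ≫ pp)
  simp only [MonObj.comp_mul, ← Category.assoc, GaPts.ptOfElt_comp, map_neg, Units.val_one, inv_one, map_one]

include H in
/-- A point inverting a power of the coroot is the Weyl element times a point of the torus. -/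
theorem exists_torus_mul (hG : Red.IsReductive G) (hT : Red.IsTorus T) [Mono i]
    (hcell : IsOpenImmersion (cell i pp pm).left) (n : ℤ) (hn : n ≠ 0) (w : 𝟙_ (Over S) ⟶ G)
    (hw : ∀ (X : Over S) (z : X ⟶ Red.Gm S),
      (toUnit X ≫ w) * (((z ≫ av) ^ n) ≫ i) * (toUnit X ≫ w)⁻¹ = ((((z ≫ av) ^ n) ≫ i))⁻¹) :
    ∃ t : 𝟙_ (Over S) ⟶ T, w = (rel H (𝟙_ (Over S))).w 1 * (t ≫ i) := by
  have hcomm : ∀ {Y : Over S} (a b : Y ⟶ T), a * b = b * a := fun a b =>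
    Central.mul_comm_of_multTypeFT (Locus.isMultTypeFT_of_isTorus hT) a b
  let jn : Red.Gm S ⟶ T := av ^ n
  have hz : ∀ {Y : Over S} (z : Y ⟶ Red.Gm S), z ≫ jn = (z ≫ av) ^ n := fun z => GrpObj.comp_zpow z av n
  haveI : IsMonHom jn := Groth.L25.Bridge.isMonHom_of_mul jn fun Y a b => by
    rw [hz, hz, hz, MonObj.mul_comp]
    exact Commute.mul_zpow (hcomm _ _) n
  have hchi : ∀ {Y : Over S} (z : Y ⟶ Red.Gm S), chiW α Y (z ≫ av) = GmPts.unitOfPt z * GmPts.unitOfPt z :=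
    fun z => unitOfPt_av H z
  have hjn : ∀ {Y : Over S} (z : Y ⟶ Red.Gm S),
      GmPts.unitOfPt ((z ≫ jn) ≫ α) = GmPts.unitOfPt z ^ (2 * n) := fun {Y} z => by
    show chiW α Y (z ≫ jn) = _
    rw [hz, map_zpow, hchi, zpow_mul, zpow_two]
  let g : 𝟙_ (Over S) ⟶ G := ((rel H (𝟙_ (Over S))).w 1)⁻¹ * w
  suffices hg : ∀ (X' : Over S) (y : X' ⟶ 𝟙_ (Over S)) (z : X' ⟶ Red.Gm S), Commute (z ≫ jn ≫ i) (y ≫ g) by
    obtain ⟨t, ht⟩ := (commute_cochar_iff hG hT hcell H.hpp H.hpm isTorus_gm jn (2 * n)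
      (mul_ne_zero two_ne_zero hn) (cochar_lift jn _ hjn) g).1 hg
    exact ⟨t, by rw [ht, mul_inv_cancel_left]⟩
  intro X' y z
  obtain rfl : y = toUnit X' := toUnit_unique _ _
  have h1 := hw X' z
  rw [← hz, Category.assoc] at h1
  have h2 : (rel H X').w 1 * (z ≫ jn ≫ i) * ((rel H X').w 1)⁻¹ = (z ≫ jn ≫ i)⁻¹ := by
    have e : (z ≫ jn) ≫ α ≫ av = (z ≫ jn) * (z ≫ jn) := by
      rw [← Category.assoc]
      conv_lhs => rw [← GmPts.ptOfUnit_unitOfPt ((z ≫ jn) ≫ α), hjn]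
      have h3 : (GmPts.ptOfUnit (GmPts.unitOfPt z ^ (2 * n)) : X' ⟶ Red.Gm S) = z ^ (2 * n) := by
        rw [show GmPts.unitOfPt z ^ (2 * n) = GmPts.unitOfPt (z ^ (2 * n)) from
          (map_zpow (GmPts.equiv X') z (2 * n)).symm, GmPts.ptOfUnit_unitOfPt]
      rw [h3, hz]
      let φ : (X' ⟶ Red.Gm S) →* (X' ⟶ T) := MonoidHom.mk' (fun v => v ≫ av) fun a b => MonObj.mul_comp a b av
      show φ (z ^ (2 * n)) = φ z ^ n * φ z ^ n
      rw [map_zpow, ← zpow_add, two_mul]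
    rw [← Category.assoc z jn i, w_conj_torus H]
    simp only [← Category.assoc] at e ⊢
    rw [e, MonObj.mul_comp, mul_inv_rev, _root_.mul_assoc, inv_mul_cancel, _root_.mul_one]
  have e1 : toUnit X' ≫ g = ((rel H X').w 1)⁻¹ * (toUnit X' ≫ w) := by
    rw [MonObj.comp_mul, GrpObj.comp_inv, comp_w_one H]
  show _ * _ = _ * _
  rw [e1]
  have e2 : (z ≫ jn ≫ i) = ((rel H X').w 1)⁻¹ * (z ≫ jn ≫ i)⁻¹ * (rel H X').w 1 := by
    conv_rhs => rw [← h2]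
    group
  calc (z ≫ jn ≫ i) * (((rel H X').w 1)⁻¹ * (toUnit X' ≫ w))
      = ((rel H X').w 1)⁻¹ * ((z ≫ jn ≫ i)⁻¹ * (toUnit X' ≫ w)) := by
        conv_lhs => rw [e2]
        group
    _ = ((rel H X').w 1)⁻¹ * (toUnit X' ≫ w) * (z ≫ jn ≫ i) := by
        conv_lhs => rw [← h1]
        group

include H in
/-- The braid identity pins down the torus factor. -/
theorem eq_w_one_of_conj (hcell : IsOpenImmersion (cell i pp pm).left) {X : Over S} (t : X ⟶ T)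
    (h : ((rel H X).w 1 * (t ≫ i)) * (rel H X).a 1 * ((rel H X).w 1 * (t ≫ i))⁻¹ =
      ((rel H X).a 1)⁻¹ * ((rel H X).w 1 * (t ≫ i)) * ((rel H X).a 1)⁻¹) : t = 1 := by
  haveI := hcell
  let R := rel H X
  let c : (Γ(X.left, ⊤))ˣ := R.χ t
  have hbr := braid H (X := X) 1
  simp only [inv_one, Units.val_one] at hbr
  have hw : R.w 1 = R.a 1 * R.b (-1) * R.a 1 := by simp [Rel.w]
  have hwa : R.w 1 * R.a (c : Γ(X.left, ⊤)) * (R.w 1)⁻¹ = R.b (-(c : Γ(X.left, ⊤))) := by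
    have h1 : R.w c * R.a c * (R.w c)⁻¹ = R.b (-(↑c⁻¹ : Γ(X.left, ⊤))) := by
      have hb := braid H (X := X) c
      rw [mul_inv_eq_iff_eq_mul]
      show R.a c * R.b (-↑c⁻¹) * R.a c * R.a c = R.b (-↑c⁻¹) * (R.a c * R.b (-↑c⁻¹) * R.a c)
      conv_lhs => rw [show R.a c * R.b (-↑c⁻¹) * R.a c = R.b (-↑c⁻¹) * R.a c * R.b (-↑c⁻¹) from hb]
      simp only [_root_.mul_assoc]
    have h2 : R.w 1 = R.h c⁻¹ * R.w c := by rw [← R.w_mul_left, inv_mul_cancel]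
    rw [h2, show R.h c⁻¹ * R.w c * R.a c * (R.h c⁻¹ * R.w c)⁻¹ =
      R.h c⁻¹ * (R.w c * R.a c * (R.w c)⁻¹) * (R.h c⁻¹)⁻¹ by group, h1, R.h_conj_b, inv_inv]
    congr 1
    linear_combination -(c : Γ(X.left, ⊤)) * c.mul_inv
  have hta : (t ≫ i) * R.a 1 * (t ≫ i)⁻¹ = R.a (c : Γ(X.left, ⊤)) :=
    (R.conj_a t 1).trans (by rw [_root_.mul_one])
  have hL : ((R.w 1 * (t ≫ i)) * R.a 1 * (R.w 1 * (t ≫ i))⁻¹) = R.b (-(c : Γ(X.left, ⊤))) := by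
    rw [← hwa, ← hta]; group
  change R.w 1 * (t ≫ i) * R.a 1 * (R.w 1 * (t ≫ i))⁻¹ = (R.a 1)⁻¹ * (R.w 1 * (t ≫ i)) * (R.a 1)⁻¹ at h
  rw [hL] at h
  have hta' : (t ≫ i) * (R.a 1)⁻¹ = (R.a (c : Γ(X.left, ⊤)))⁻¹ * (t ≫ i) := by rw [← hta]; group
  have h3 : R.b (-(c : Γ(X.left, ⊤))) = (R.a 1)⁻¹ * R.b (c : Γ(X.left, ⊤)) * R.w 1 * (t ≫ i) := by
    rw [h, show R.b (c : Γ(X.left, ⊤)) = R.w 1 * (R.a (c : Γ(X.left, ⊤)))⁻¹ * (R.w 1)⁻¹ by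
      rw [show R.b (c : Γ(X.left, ⊤)) = (R.b (-(c : Γ(X.left, ⊤))))⁻¹ by rw [← R.b_neg, neg_neg], ← hwa]; group,
      show (R.a 1)⁻¹ * (R.w 1 * (t ≫ i)) * (R.a 1)⁻¹ = (R.a 1)⁻¹ * R.w 1 * ((t ≫ i) * (R.a 1)⁻¹) by group, hta']
    group
  have hbt' : (t ≫ i)⁻¹ * R.b 1 = R.b (c : Γ(X.left, ⊤)) * (t ≫ i)⁻¹ := by
    have e := R.conj_b t (c : Γ(X.left, ⊤))
    rw [Units.inv_mul] at e
    show (R.j t)⁻¹ * _ = _ * (R.j t)⁻¹
    rw [← e]; group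
  have h4 : R.b ((c : Γ(X.left, ⊤)) - 1) = R.a 1 * (t ≫ i)⁻¹ * R.a (-1) := by
    rw [sub_eq_add_neg, R.b_add]
    have hw' : R.w 1 = R.b (-1) * R.a 1 * R.b (-1) := hw.trans hbr
    rw [hw'] at h3
    have h5 : R.a 1 * R.b (-(c : Γ(X.left, ⊤))) * (t ≫ i)⁻¹ =
        R.b (c : Γ(X.left, ⊤)) * R.b (-1) * R.a 1 * R.b (-1) := by
      rw [h3]; group
    calc R.b (c : Γ(X.left, ⊤)) * R.b (-1)
        = (R.b (c : Γ(X.left, ⊤)) * R.b (-1) * R.a 1 * R.b (-1)) * (R.b (-1))⁻¹ * (R.a 1)⁻¹ := by group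
      _ = R.a 1 * (R.b (-(c : Γ(X.left, ⊤))) * ((t ≫ i)⁻¹ * R.b 1)) * R.a (-1) := by
          rw [← h5, ← R.b_neg, neg_neg, ← R.a_neg]; group
      _ = _ := by
          rw [hbt', ← _root_.mul_assoc (R.b _), ← R.b_add, neg_add_cancel, R.b_zero, _root_.one_mul]
  have hja : (t ≫ i)⁻¹ * R.a (c : Γ(X.left, ⊤)) = R.a 1 * (t ≫ i)⁻¹ := by rw [← hta]; group
  have h5 : R.b ((c : Γ(X.left, ⊤)) - 1) * R.j 1 * R.a 0 = R.b 0 * R.j t⁻¹ * R.a ((c : Γ(X.left, ⊤)) - 1) := by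
    show _ * ((1 : X ⟶ T) ≫ i) * _ = _ * (t⁻¹ ≫ i) * _
    rw [MonObj.one_comp, GrpObj.inv_comp, R.a_zero, R.b_zero, _root_.mul_one, _root_.mul_one, _root_.one_mul,
      sub_eq_add_neg (c : Γ(X.left, ⊤)) 1, R.a_add, ← _root_.mul_assoc, hja, ← sub_eq_add_neg, h4]
  obtain ⟨-, e, -⟩ := decomp_unique (y := GaPts.ptOfElt _) (x := GaPts.ptOfElt _) (y' := GaPts.ptOfElt _)
    (x' := GaPts.ptOfElt _) (t := (1 : X ⟶ T)) (t' := t⁻¹) h5
  exact inv_eq_one.1 e.symm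

omit [IsMonHom pp] [IsMonHom pm] in
/-- A point conjugating the torus by the reflection is in the torus only where fourth powers of units are one. -/
theorem pow_four_eq_one_of_mem [Mono i] (h2 : av ≫ α = (𝟙 (Red.Gm S)) ^ 2)
    (hcomm : ∀ {Y : Over S} (a b : Y ⟶ T), a * b = b * a) {X : Over S} (g : X ⟶ G)
    (hg : ∀ t : X ⟶ T, g * (t ≫ i) * g⁻¹ = (t ≫ α ≫ av ≫ i)⁻¹ * (t ≫ i)) (t' : X ⟶ T) (ht : t' ≫ i = g)
    (z : X ⟶ Red.Gm S) : GmPts.unitOfPt z ^ 4 = 1 := by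
  have h := hg (z ≫ av)
  rw [← ht] at h
  have e : (t' ≫ i) * ((z ≫ av) ≫ i) * (t' ≫ i)⁻¹ = (z ≫ av) ≫ i := by
    rw [← MonObj.mul_comp, hcomm, MonObj.mul_comp, mul_inv_cancel_right]
  rw [e] at h
  have h1 : (z ≫ av) ≫ α ≫ av ≫ i = 1 := inv_eq_one.1 (right_eq_mul.1 h)
  have h3 : ((z ≫ av) ≫ α) ≫ av = 1 := by
    rw [← cancel_mono i, MonObj.one_comp]
    simpa only [Category.assoc] using h1
  have hsq : ∀ v : X ⟶ Red.Gm S, GmPts.unitOfPt ((v ≫ av) ≫ α) = GmPts.unitOfPt v * GmPts.unitOfPt v :=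
    fun v => by rw [Category.assoc, h2, pow_two, MonObj.comp_mul, Category.comp_id, GmPts.unitOfPt_mul]
  have h4 := congrArg (chiW α X) h3
  rw [map_one] at h4
  change GmPts.unitOfPt ((((z ≫ av) ≫ α) ≫ av) ≫ α) = 1 at h4
  rw [hsq, hsq] at h4
  rw [← h4]
  simp only [pow_succ, pow_zero, _root_.one_mul, _root_.mul_assoc]

end Groth.L14.RankOne
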