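import Groth.Agent.L14.RankOne.BorelClosed
import Groth.Agent.L14.RankOne.WeylElt

/-!
The points of the product of the two root groups in the big cell.
-/

set_option autoImplicit false
universe u

open CategoryTheory CategoryTheory.Limits MonoidalCategory CartesianMonoidalCategory MonObj AlgebraicGeometry
open Groth.L25 Groth.L25.RankOne

set_option backward.isDefEq.respectTransparency.types false
set_option synthInstance.maxHeartbeats 100000
set_option maxHeartbeats 1000000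

noncomputable section

namespace Groth.L14.RankOne

variable {S : Scheme.{u}} {G T : Over S} [GrpObj G] [GrpObj T] {i : T ⟶ G} [IsMonHom i]
  {α : T ⟶ Red.Gm S} [IsMonHom α] {pp pm : Red.Ga S ⟶ G} [IsMonHom pp] [IsMonHom pm]
  {av : Red.Gm S ⟶ T} [IsMonHom av] (H : Sys i α pp pm av)

include H in
/-- The Weyl element is in the big cell only where fourth powers of units are one. -/
theorem pow_four_of_w_mem (hcell : IsOpenImmersion (cell i pp pm).left)
    (hcomm : ∀ {X : Over S} (a b : X ⟶ T), a * b = b * a) {X : Over S} (r v : (Γ(X.left, ⊤))ˣ)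
    (h : Mem i pp pm ((rel H X).w r)) : v ^ 4 = 1 := by
  haveI := hcell
  obtain ⟨Y, t, Z, hd⟩ := h.exists_decomp
  rw [pm_eq H, pp_eq H] at hd
  let R := rel H X
  have hcomm' : ∀ z : (Γ(X.left, ⊤))ˣ, R.h z * (t ≫ i) = (t ≫ i) * R.h z := fun z => by
    show (GmPts.ptOfUnit z ≫ av ≫ i) * _ = _ * (GmPts.ptOfUnit z ≫ av ≫ i)
    rw [← Category.assoc _ av i, ← MonObj.mul_comp, hcomm, MonObj.mul_comp]
  have h1 : R.h v * R.w r * (R.h v)⁻¹ = R.h (v * v) * R.w r := by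
    rw [_root_.mul_assoc (R.h v), ← R.w_mul_right, R.w_mul_left, ← _root_.mul_assoc, ← R.h_mul]
  rw [hd] at h1
  have h2 : R.b (↑v⁻¹ * ↑v⁻¹ * Red.gaFn Y) * (t ≫ i) * R.a (↑v * ↑v * Red.gaFn Z) =
      R.b (↑(v * v)⁻¹ * ↑(v * v)⁻¹ * Red.gaFn Y) * (R.h (v * v) * (t ≫ i)) * R.a (Red.gaFn Z) := by
    rw [← R.h_conj_a, ← R.h_conj_b,
      show R.b (↑(v * v)⁻¹ * ↑(v * v)⁻¹ * Red.gaFn Y) = R.h (v * v) * R.b (Red.gaFn Y) * (R.h (v * v))⁻¹ from
        (R.h_conj_b _ _).symm]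
    refine Eq.trans ?_ (h1.trans ?_)
    · rw [show R.h v * R.b (Red.gaFn Y) * (R.h v)⁻¹ * (t ≫ i) = R.h v * R.b (Red.gaFn Y) * (t ≫ i) * (R.h v)⁻¹ by
        rw [_root_.mul_assoc _ (R.h v)⁻¹, ← R.h_inv, hcomm', R.h_inv, ← _root_.mul_assoc]]
      group
      rfl
    · group
      rfl
  rw [show R.h (v * v) * (t ≫ i) = ((GmPts.ptOfUnit (v * v) ≫ av) * t) ≫ i by
    rw [MonObj.mul_comp, Category.assoc]; rfl] at h2
  obtain ⟨-, ht, -⟩ := decomp_unique (y := GaPts.ptOfElt _) (x := GaPts.ptOfElt _) (y' := GaPts.ptOfElt _)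
    (x' := GaPts.ptOfElt _) (t := t) (t' := (GmPts.ptOfUnit (v * v) ≫ av) * t) h2
  have h3 := congrArg (fun s : X ⟶ T => GmPts.unitOfPt (s ≫ α)) (right_eq_mul.1 ht)
  simp only [unitOfPt_av H, GmPts.unitOfPt_ptOfUnit, MonObj.one_comp, GmPts.unitOfPt_one] at h3
  rw [← h3]
  simp only [pow_succ, pow_zero, _root_.one_mul, _root_.mul_assoc]

omit [IsMonHom pm] in
theorem Mem.mul_torus_root (hcell : IsOpenImmersion (cell i pp pm).left)
    (hpp : ∀ (X : Over S) (t : X ⟶ T) (x : X ⟶ Red.Ga S), ∃ x' : X ⟶ Red.Ga S,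
      x' ≫ pp = (t ≫ i) * (x ≫ pp) * (t ≫ i)⁻¹ ∧ Red.gaFn x' = Red.gmFn (t ≫ α) * Red.gaFn x)
    {X : Over S} {g : X ⟶ G} (h : Mem i pp pm g) (t : X ⟶ T) (z : X ⟶ Red.Ga S) :
    Mem i pp pm (g * (t ≫ i) * (z ≫ pp)) := by
  haveI := hcell
  obtain ⟨Y, t₀, Z, rfl⟩ := h.exists_decomp
  obtain ⟨Z', hZ, -⟩ := hpp X t⁻¹ Z
  rw [GrpObj.inv_comp, inv_inv] at hZ
  have e : (Y ≫ pm) * (t₀ ≫ i) * (Z ≫ pp) * (t ≫ i) * (z ≫ pp) =
      (Y ≫ pm) * ((t₀ * t) ≫ i) * ((Z' * z) ≫ pp) := by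
    rw [MonObj.mul_comp, MonObj.mul_comp, hZ]; group
  rw [e]
  exact mem_mul _ _ _

include H in
/-- `p₊(x) p₋(y)` lies in the big cell only if `1 + xy` is a unit. -/
theorem isUnit_of_mem (hcell : IsOpenImmersion (cell i pp pm).left)
    (hcomm : ∀ {X : Over S} (a b : X ⟶ T), a * b = b * a) {X : Over S} (x y : X ⟶ Red.Ga S)
    (h : Mem i pp pm ((x ≫ pp) * (y ≫ pm))) : IsUnit (1 + Red.gaFn x * Red.gaFn y) := by
  haveI := hcell
  refine isUnit_of_fields _ fun K _ g h0 => ?_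
  let K' := AlgebraicClosure K
  let ι' := Spec.map (CommRingCat.ofHom (algebraMap K K'))
  let X' : Over S := Over.mk ((ι' ≫ g) ≫ X.hom)
  let f : X' ⟶ X := Over.homMk (ι' ≫ g) rfl
  have h0' : f.left.appTop (1 + Red.gaFn x * Red.gaFn y) = 0 := by
    show (ι' ≫ g).appTop _ = 0
    rw [Scheme.Hom.comp_appTop, CommRingCat.comp_apply, h0, map_zero]
  rw [map_add, map_one, map_mul, ← GaPts.gaFn_comp, ← GaPts.gaFn_comp] at h0'
  let e := (Scheme.ΓSpecIso (CommRingCat.of K')).commRingCatIsoToRingEquiv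
  haveI : Nontrivial Γ(X'.left, ⊤) := e.toEquiv.nontrivial
  let r : (Γ(X'.left, ⊤))ˣ := ⟨Red.gaFn (f ≫ x), -Red.gaFn (f ≫ y), by linear_combination -h0', by linear_combination -h0'⟩
  let R := rel H X'
  have hm : Mem i pp pm (R.w r) := by
    have h1 := h.comp f
    rw [MonObj.comp_mul, ← Category.assoc, ← Category.assoc] at h1
    have h2 := h1.mul_torus_root hcell H.hpp 1 (f ≫ x)
    rw [MonObj.one_comp, _root_.mul_one, pp_eq H (f ≫ x), pm_eq H (f ≫ y)] at h2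
    rw [Rel.w, show (-↑r⁻¹ : Γ(X'.left, ⊤)) = Red.gaFn (f ≫ y) from neg_neg _]
    exact h2
  classical
  obtain ⟨u, hu⟩ := Infinite.exists_notMem_finset ((Polynomial.nthRoots 4 (1 : K')).toFinset ∪ {0})
  simp only [Finset.mem_union, Multiset.mem_toFinset, Polynomial.mem_nthRoots (show 0 < 4 by norm_num),
    Finset.mem_singleton, not_or] at hu
  let v : (Γ(X'.left, ⊤))ˣ := Units.map e.symm.toMonoidHom (Units.mk0 u hu.2)
  have h4 := congrArg Units.val (pow_four_of_w_mem H hcell hcomm r v hm)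
  rw [Units.val_pow_eq_pow_val, Units.val_one] at h4
  have h5 : e.symm (u ^ 4) = e.symm 1 := by rw [map_pow, map_one]; exact h4
  exact hu.1 (e.symm.injective h5)

end Groth.L14.RankOne
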