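import Groth.Agent.L14.RankOne.Weight

/-!
The commutation of the two root groups: the calculus of decompositions in the big cell.
-/

set_option autoImplicit false
universe u

open CategoryTheory CategoryTheory.Limits MonoidalCategory CartesianMonoidalCategory MonObj AlgebraicGeometry
open Groth.L25

set_option backward.isDefEq.respectTransparency.types false

noncomputable section

namespace Groth.L14.RankOne

variable {S : Scheme.{u}} {G T : Over S} [GrpObj G] [GrpObj T] (i : T ⟶ G) [IsMonHom i] (α : T ⟶ Red.Gm S)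
  [IsMonHom α] (pp pm : Red.Ga S ⟶ G) [IsMonHom pp] [IsMonHom pm]

/-- The hypotheses of a pair of opposite root homomorphisms with a big cell. -/
structure Pair : Prop where
  comm : ∀ {X : Over S} (a b : X ⟶ T), a * b = b * a
  hpp : ∀ (X : Over S) (t : X ⟶ T) (x : X ⟶ Red.Ga S), ∃ x' : X ⟶ Red.Ga S,
      x' ≫ pp = (t ≫ i) * (x ≫ pp) * (t ≫ i)⁻¹ ∧ Red.gaFn x' = Red.gmFn (t ≫ α) * Red.gaFn x
  hpm : ∀ (X : Over S) (t : X ⟶ T) (y : X ⟶ Red.Ga S), ∃ y' : X ⟶ Red.Ga S,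
      y' ≫ pm = (t ≫ i) * (y ≫ pm) * (t ≫ i)⁻¹ ∧ Red.gaFn y' * Red.gmFn (t ≫ α) = Red.gaFn y
  cell : IsOpenImmersion (cell i pp pm).left
  flat : Flat α.left
  surj : Surjective α.left
  sep : IsSeparated T.hom

variable {i α pp pm} {X : Over S}

/-- The commutation datum of two points. -/
def com (pp pm : Red.Ga S ⟶ G) (x y : X ⟶ Red.Ga S) : X ⟶ G := (x ≫ pp) * (y ≫ pm)

/-- A decomposition of the product of two points in the big cell. -/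
def Dec (i : T ⟶ G) (pp pm : Red.Ga S ⟶ G) (x y Y : X ⟶ Red.Ga S) (t : X ⟶ T) (Z : X ⟶ Red.Ga S) : Prop :=
  com pp pm x y = (Y ≫ pm) * (t ≫ i) * (Z ≫ pp)

theorem com_comp {X' : Over S} (f : X' ⟶ X) (x y : X ⟶ Red.Ga S) :
    f ≫ com pp pm x y = com pp pm (f ≫ x) (f ≫ y) := by
  simp only [com, MonObj.comp_mul, Category.assoc]

theorem Dec.comp {X' : Over S} (f : X' ⟶ X) {x y Y Z : X ⟶ Red.Ga S} {t : X ⟶ T} (h : Dec i pp pm x y Y t Z) :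
    Dec i pp pm (f ≫ x) (f ≫ y) (f ≫ Y) (f ≫ t) (f ≫ Z) := by
  show com pp pm (f ≫ x) (f ≫ y) = _
  rw [← com_comp, show com pp pm x y = _ from h]
  simp only [MonObj.comp_mul, Category.assoc]

theorem Dec.mem (H : Pair i α pp pm) {x y Y Z : X ⟶ Red.Ga S} {t : X ⟶ T} (h : Dec i pp pm x y Y t Z) :
    Mem i pp pm (com pp pm x y) := by
  have := H.cell
  rw [show com pp pm x y = _ from h]
  exact mem_mul Y t Z

theorem exists_dec (H : Pair i α pp pm) {x y : X ⟶ Red.Ga S} (h : Mem i pp pm (com pp pm x y)) :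
    ∃ Y t Z, Dec i pp pm x y Y t Z := by
  have := H.cell
  exact h.exists_decomp

theorem Dec.unique (H : Pair i α pp pm) {x y Y Z Y' Z' : X ⟶ Red.Ga S} {t t' : X ⟶ T}
    (h : Dec i pp pm x y Y t Z) (h' : Dec i pp pm x y Y' t' Z') : Y = Y' ∧ t = t' ∧ Z = Z' := by
  have := H.cell
  exact decomp_unique (h.symm.trans h')

theorem dec_left_one (y : X ⟶ Red.Ga S) : Dec i pp pm 1 y y 1 1 := by
  simp [Dec, com, MonObj.one_comp]

theorem dec_right_one (x : X ⟶ Red.Ga S) : Dec i pp pm x 1 1 1 x := by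
  simp [Dec, com, MonObj.one_comp]

theorem gmFn_isUnit (t : X ⟶ T) : IsUnit (Red.gmFn (t ≫ α)) := (GmPts.unitOfPt (t ≫ α)).isUnit

/-- Adding to the first argument. -/
theorem Dec.addLeft (H : Pair i α pp pm) {x x' y Y Z Y' Z' : X ⟶ Red.Ga S} {t t' : X ⟶ T}
    (h : Dec i pp pm x y Y t Z) (h' : Dec i pp pm x' Y Y' t' Z') :
    ∃ Z₂, Dec i pp pm (x' * x) y Y' (t' * t) Z₂ ∧
      Red.gaFn Z₂ * Red.gmFn (t ≫ α) = Red.gaFn Z' + Red.gaFn Z * Red.gmFn (t ≫ α) := by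
  obtain ⟨W, hW, hW'⟩ := H.hpp X t⁻¹ Z'
  refine ⟨W * Z, ?_, ?_⟩
  · show com pp pm (x' * x) y = _
    calc com pp pm (x' * x) y = (x' ≫ pp) * com pp pm x y := by simp only [com, MonObj.mul_comp]; group
      _ = com pp pm x' Y * (t ≫ i) * (Z ≫ pp) := by
        rw [show com pp pm x y = _ from h]; simp only [com]; group
      _ = (Y' ≫ pm) * (t' ≫ i) * ((t ≫ i) * ((t⁻¹ ≫ i) * (Z' ≫ pp) * (t⁻¹ ≫ i)⁻¹)) * (Z ≫ pp) := by
        rw [show com pp pm x' Y = _ from h', GrpObj.inv_comp]; group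
      _ = _ := by rw [← hW, MonObj.mul_comp, MonObj.mul_comp]; group
  · have e : Red.gmFn (t⁻¹ ≫ α) * Red.gmFn (t ≫ α) = 1 := by
      rw [← GmPts.gmFn_mul, ← MonObj.mul_comp, inv_mul_cancel, MonObj.one_comp, GmPts.gmFn_one]
    rw [GaPts.gaFn_mul, hW']
    linear_combination Red.gaFn Z' * e

/-- The converse of adding to the first argument. -/
theorem Dec.mem_addLeft (H : Pair i α pp pm) {x x' y Y Z : X ⟶ Red.Ga S} {t : X ⟶ T}
    (h : Dec i pp pm x y Y t Z) (h₂ : Mem i pp pm (com pp pm (x' * x) y)) :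
    Mem i pp pm (com pp pm x' Y) := by
  have := H.cell
  obtain ⟨Y₂, t₂, Z₂, e⟩ := exists_dec H h₂
  obtain ⟨W, hW, -⟩ := H.hpp X t (Z₂ * Z⁻¹)
  have : com pp pm x' Y = (Y₂ ≫ pm) * ((t₂ * t⁻¹) ≫ i) * (W ≫ pp) := by
    calc com pp pm x' Y = (x' ≫ pp) * com pp pm x y * ((Z ≫ pp)⁻¹ * (t ≫ i)⁻¹) := by
          rw [show com pp pm x y = _ from h]; simp only [com]; group
      _ = com pp pm (x' * x) y * ((Z ≫ pp)⁻¹ * (t ≫ i)⁻¹) := by simp only [com, MonObj.mul_comp]; group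
      _ = (Y₂ ≫ pm) * ((t₂ ≫ i) * (t ≫ i)⁻¹) * ((t ≫ i) * ((Z₂ * Z⁻¹) ≫ pp) * (t ≫ i)⁻¹) := by
          rw [show com pp pm (x' * x) y = _ from e, MonObj.mul_comp, GrpObj.inv_comp]; group
      _ = _ := by rw [← hW, MonObj.mul_comp, GrpObj.inv_comp]
  rw [this]
  exact mem_mul _ _ _

/-- Adding to the second argument. -/
theorem Dec.addRight (H : Pair i α pp pm) {x y y' Y Z Y' Z' : X ⟶ Red.Ga S} {t t' : X ⟶ T}
    (h : Dec i pp pm x y Y t Z) (h' : Dec i pp pm Z y' Y' t' Z') :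
    ∃ Y₂, Dec i pp pm x (y * y') Y₂ (t * t') Z' ∧
      Red.gaFn Y₂ * Red.gmFn (t ≫ α) = Red.gaFn Y * Red.gmFn (t ≫ α) + Red.gaFn Y' := by
  obtain ⟨W, hW, hW'⟩ := H.hpm X t Y'
  refine ⟨Y * W, ?_, ?_⟩
  · show com pp pm x (y * y') = _
    calc com pp pm x (y * y') = com pp pm x y * (y' ≫ pm) := by simp only [com, MonObj.mul_comp]; group
      _ = (Y ≫ pm) * (t ≫ i) * com pp pm Z y' := by rw [show com pp pm x y = _ from h]; simp only [com]; group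
      _ = (Y ≫ pm) * ((t ≫ i) * (Y' ≫ pm) * (t ≫ i)⁻¹) * ((t ≫ i) * (t' ≫ i)) * (Z' ≫ pp) := by
        rw [show com pp pm Z y' = _ from h']; group
      _ = _ := by rw [← hW, MonObj.mul_comp, MonObj.mul_comp]
  · rw [GaPts.gaFn_mul]
    linear_combination hW'

/-- The converse of adding to the second argument. -/
theorem Dec.mem_addRight (H : Pair i α pp pm) {x y y' Y Z : X ⟶ Red.Ga S} {t : X ⟶ T}
    (h : Dec i pp pm x y Y t Z) (h₂ : Mem i pp pm (com pp pm x (y * y'))) :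
    Mem i pp pm (com pp pm Z y') := by
  have := H.cell
  obtain ⟨Y₂, t₂, Z₂, e⟩ := exists_dec H h₂
  obtain ⟨W, hW, -⟩ := H.hpm X t⁻¹ (Y⁻¹ * Y₂)
  have : com pp pm Z y' = (W ≫ pm) * ((t⁻¹ * t₂) ≫ i) * (Z₂ ≫ pp) := by
    calc com pp pm Z y' = (t ≫ i)⁻¹ * (Y ≫ pm)⁻¹ * com pp pm x y * (y' ≫ pm) := by
          rw [show com pp pm x y = _ from h]; simp only [com]; group
      _ = (t ≫ i)⁻¹ * (Y ≫ pm)⁻¹ * com pp pm x (y * y') := by simp only [com, MonObj.mul_comp]; group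
      _ = ((t⁻¹ ≫ i) * ((Y⁻¹ * Y₂) ≫ pm) * (t⁻¹ ≫ i)⁻¹) * ((t⁻¹ ≫ i) * (t₂ ≫ i)) * (Z₂ ≫ pp) := by
          rw [show com pp pm x (y * y') = _ from e, MonObj.mul_comp, GrpObj.inv_comp, GrpObj.inv_comp]; group
      _ = _ := by rw [← hW, MonObj.mul_comp]
  rw [this]
  exact mem_mul _ _ _

/-- The weight of the torus action: scaling the arguments. -/
theorem Dec.scale (H : Pair i α pp pm) (c : X ⟶ Red.Gm S) {x y x₁ y₁ Y Z : X ⟶ Red.Ga S} {t : X ⟶ T}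
    (h : Dec i pp pm x y Y t Z) (hx : Red.gaFn x₁ = Red.gmFn c * Red.gaFn x)
    (hy : Red.gaFn y₁ * Red.gmFn c = Red.gaFn y) :
    ∃ Y₁ Z₁, Dec i pp pm x₁ y₁ Y₁ t Z₁ ∧ Red.gaFn Y₁ * Red.gmFn c = Red.gaFn Y ∧
      Red.gaFn Z₁ = Red.gmFn c * Red.gaFn Z := by
  have := H.cell
  have := H.flat
  have := H.surj
  obtain ⟨X', f, b, hf, hfe, hb⟩ := exists_char_lift α c
  have hbc : Red.gmFn (b ≫ α) = f.left.appTop (Red.gmFn c) := by rw [hb, GmPts.gmFn_comp]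
  obtain ⟨Y₀, hY₀, hY₀'⟩ := H.hpm X' b (f ≫ Y)
  obtain ⟨Z₀, hZ₀, hZ₀'⟩ := H.hpp X' b (f ≫ Z)
  obtain ⟨x₀, hx₀, hx₀'⟩ := H.hpp X' b (f ≫ x)
  obtain ⟨y₀, hy₀, hy₀'⟩ := H.hpm X' b (f ≫ y)
  have ex : x₀ = f ≫ x₁ := GaPts.gaFn_injective (show Red.gaFn x₀ = Red.gaFn (f ≫ x₁) by
    rw [hx₀', hbc, GaPts.gaFn_comp, GaPts.gaFn_comp, hx, map_mul])
  have ey : y₀ = f ≫ y₁ := GaPts.gaFn_injective (show Red.gaFn y₀ = Red.gaFn (f ≫ y₁) by
    have h2 : Red.gaFn (f ≫ y₁) * Red.gmFn (b ≫ α) = Red.gaFn (f ≫ y) := by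
      rw [hbc, GaPts.gaFn_comp, GaPts.gaFn_comp, ← map_mul, hy]
    exact (gmFn_isUnit b).mul_right_cancel (hy₀'.trans h2.symm))
  have ht : (b ≫ i) * ((f ≫ t) ≫ i) * (b ≫ i)⁻¹ = (f ≫ t) ≫ i := by
    rw [← MonObj.mul_comp, H.comm, MonObj.mul_comp, mul_inv_cancel_right]
  have e1 : Dec i pp pm (f ≫ x₁) (f ≫ y₁) Y₀ (f ≫ t) Z₀ := by
    have hd : com pp pm (f ≫ x) (f ≫ y) = _ := h.comp f
    show com pp pm (f ≫ x₁) (f ≫ y₁) = _
    calc com pp pm (f ≫ x₁) (f ≫ y₁) = (b ≫ i) * com pp pm (f ≫ x) (f ≫ y) * (b ≫ i)⁻¹ := by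
          simp only [com, ← ex, ← ey, hx₀, hy₀]; group
      _ = ((b ≫ i) * ((f ≫ Y) ≫ pm) * (b ≫ i)⁻¹) * ((b ≫ i) * ((f ≫ t) ≫ i) * (b ≫ i)⁻¹) *
          ((b ≫ i) * ((f ≫ Z) ≫ pp) * (b ≫ i)⁻¹) := by rw [hd]; group
      _ = _ := by rw [← hY₀, ht, ← hZ₀]
  have hm : Mem i pp pm (com pp pm x₁ y₁) := Mem.of_comp f (by rw [com_comp]; exact e1.mem H)
  obtain ⟨Y₁, t₁, Z₁, h₁⟩ := exists_dec H hm
  obtain ⟨eY, et, eZ⟩ := (h₁.comp f).unique H e1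
  rw [(cancel_epi f).1 et] at h₁
  refine ⟨Y₁, Z₁, h₁, eq_of_epi_gaFn f ?_, eq_of_epi_gaFn f ?_⟩
  · rw [map_mul, ← GaPts.gaFn_comp, eY, ← hbc, hY₀', GaPts.gaFn_comp]
  · rw [map_mul, ← GaPts.gaFn_comp, eZ, hZ₀', hbc, GaPts.gaFn_comp]

end Groth.L14.RankOne
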