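import Groth.Agent.L14.RankOne.BorelClosed
import Groth.Agent.L14.RankOne.NonComm
import Groth.Agent.L14.RankOne.Commutation
import Groth.Agent.S5421

/-!
Every rank one pair becomes dual after rescaling the negative root homomorphism.
-/

set_option autoImplicit false
universe u

open CategoryTheory CategoryTheory.Limits MonoidalCategory CartesianMonoidalCategory MonObj AlgebraicGeometry
open Groth.L25 Groth.L25.RankOne

set_option backward.isDefEq.respectTransparency.types false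
set_option synthInstance.maxHeartbeats 100000
set_option maxHeartbeats 1000000

noncomputable section

namespace Groth.L14.RankOne

variable {S : Scheme.{u}} {G T : Over S} [GrpObj G] [GrpObj T] {i : T ⟶ G} [IsMonHom i]
  {α : T ⟶ Red.Gm S} [IsMonHom α] {pp pm : Red.Ga S ⟶ G} [IsMonHom pp] [IsMonHom pm]

/-- Multiplication by a function on the additive group. -/
def mulBy (v : Γ(S, ⊤)) : Red.Ga S ⟶ Red.Ga S :=
  GaPts.ptOfElt ((Red.Ga S).hom.appTop v * Red.gaFn (𝟙 (Red.Ga S)))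

theorem gaFn_mulBy (v : Γ(S, ⊤)) {X : Over S} (x : X ⟶ Red.Ga S) :
    Red.gaFn (x ≫ mulBy v) = X.hom.appTop v * Red.gaFn x := by
  rw [mulBy, GaPts.gaFn_comp, GaPts.gaFn_ptOfElt, map_mul, ← GaPts.gaFn_comp, Category.comp_id]
  congr 1
  show ((Red.Ga S).hom.appTop ≫ x.left.appTop) v = _
  rw [← Scheme.Hom.comp_appTop, Over.w x]

theorem isMonHom_mulBy (v : Γ(S, ⊤)) : IsMonHom (mulBy (S := S) v) :=
  Groth.L25.Bridge.isMonHom_of_mul (mulBy v) fun Y a b => GaPts.gaFn_injective (by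
    show Red.gaFn _ = Red.gaFn _
    rw [gaFn_mulBy, GaPts.gaFn_mul, GaPts.gaFn_mul, gaFn_mulBy, gaFn_mulBy, mul_add])

theorem mulBy_mulBy (v w : Γ(S, ⊤)) (h : w * v = 1) : mulBy v ≫ mulBy w = 𝟙 (Red.Ga S) := by
  refine GaPts.gaFn_injective ?_
  show Red.gaFn _ = Red.gaFn _
  rw [gaFn_mulBy, ← Category.id_comp (mulBy v), gaFn_mulBy, ← _root_.mul_assoc, ← map_mul, h, map_one,
    _root_.one_mul]

/-- A rank one pair of a reductive group is dual after rescaling. -/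
theorem exists_sys (hG : Red.IsReductive G) (hT : Red.IsTorus T) (hcell : IsOpenImmersion (cell i pp pm).left)
    (hα : ∀ s : S, (Over.pullback (Red.geomPt s)).map α ≠ 1)
    (hpp : ∀ (X : Over S) (t : X ⟶ T) (x : X ⟶ Red.Ga S), ∃ x' : X ⟶ Red.Ga S,
      x' ≫ pp = (t ≫ i) * (x ≫ pp) * (t ≫ i)⁻¹ ∧ Red.gaFn x' = Red.gmFn (t ≫ α) * Red.gaFn x)
    (hpm : ∀ (X : Over S) (t : X ⟶ T) (y : X ⟶ Red.Ga S), ∃ y' : X ⟶ Red.Ga S,
      y' ≫ pm = (t ≫ i) * (y ≫ pm) * (t ≫ i)⁻¹ ∧ Red.gaFn y' * Red.gmFn (t ≫ α) = Red.gaFn y) :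
    ∃ (e : Red.Ga S ≅ Red.Ga S) (_ : IsMonHom e.hom) (av : Red.Gm S ⟶ T) (_ : IsMonHom av),
      Sys i α pp (e.hom ≫ pm) av ∧ IsOpenImmersion (cell i pp (e.hom ≫ pm)).left := by
  haveI := hcell
  obtain ⟨hflat, hsurj⟩ := ((Groth.Agent.S5421.result S T hT α).2).1 hα
  have HP : Pair i α pp pm :=
    ⟨fun a b => Central.mul_comm_of_multTypeFT (Locus.isMultTypeFT_of_isTorus hT) a b, hpp, hpm,
      hcell, hflat, hsurj, isSeparated_torus hT⟩
  obtain ⟨⟨c, av⟩, ⟨hav, h2, hfor⟩, -⟩ := existsUnique_commutationPair HP (aAt_geomPt_ne_zero HP hT fun s => by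
    have h := not_commute (α := α) hG hcell hpp hpm s
    push Not at h
    exact h)
  let cu : (Γ(S, ⊤))ˣ := GmPts.unitOfPt c
  have hcX : ∀ X : Over S, Red.gmFn (toUnit X ≫ c) = X.hom.appTop (cu : Γ(S, ⊤)) := fun X => by
    rw [GmPts.gmFn_comp]; rfl
  let e : Red.Ga S ≅ Red.Ga S := ⟨mulBy (↑cu⁻¹ : Γ(S, ⊤)), mulBy (cu : Γ(S, ⊤)),
    mulBy_mulBy _ _ cu.mul_inv, mulBy_mulBy _ _ cu.inv_mul⟩
  haveI he : IsMonHom e.hom := isMonHom_mulBy _
  have hyv : ∀ {X : Over S} (y : X ⟶ Red.Ga S),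
      Red.gmFn (toUnit X ≫ c) * Red.gaFn (y ≫ e.hom) = Red.gaFn y := fun {X} y => by
    rw [show e.hom = mulBy (↑cu⁻¹ : Γ(S, ⊤)) from rfl, gaFn_mulBy, hcX, ← _root_.mul_assoc, ← map_mul, Units.mul_inv,
      map_one, _root_.one_mul]
  refine ⟨e, he, av, hav, ⟨hpp, fun X t y => ?_, h2, fun X x y hu => ?_⟩, ?_⟩
  · obtain ⟨y', h1, h3⟩ := hpm X t (y ≫ e.hom)
    refine ⟨y' ≫ e.inv, by simpa only [Category.assoc, Iso.inv_hom_id_assoc] using h1, ?_⟩
    rw [show e.inv = mulBy (cu : Γ(S, ⊤)) from rfl, gaFn_mulBy, ← hcX, _root_.mul_assoc, h3, hyv]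
  · obtain ⟨x', y', z, hz, hx', hy', he'⟩ := (hfor X x (y ≫ e.hom)).2 (by
      rw [show Red.gmFn (toUnit X ≫ c) * Red.gaFn x * Red.gaFn (y ≫ e.hom) = Red.gaFn x * Red.gaFn y by
        linear_combination Red.gaFn x * hyv y]
      exact hu)
    refine ⟨x', y' ≫ e.inv, z, by linear_combination hz + Red.gaFn x * hyv y, hx', ?_, ?_⟩
    · rw [show e.inv = mulBy (cu : Γ(S, ⊤)) from rfl, gaFn_mulBy, ← hcX, _root_.mul_assoc, hy', hyv]
    · simpa only [Category.assoc, Iso.inv_hom_id_assoc] using he'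
  · have e' : cell i pp (e.hom ≫ pm) = ((e.hom ▷ T) ▷ Red.Ga S) ≫ cell i pp pm := by
      conv_lhs => rw [← Category.id_comp (cell i pp (e.hom ≫ pm))]
      rw [show 𝟙 ((Red.Ga S ⊗ T) ⊗ Red.Ga S) = lift (lift (fst _ _ ≫ fst _ _) (fst _ _ ≫ snd _ _)) (snd _ _) by
        rw [← comp_lift, lift_fst_snd, Category.comp_id, lift_fst_snd],
        lift_cell, show (e.hom ▷ T) ▷ Red.Ga S =
          lift (lift ((fst _ _ ≫ fst _ _) ≫ e.hom) (fst _ _ ≫ snd _ _)) (snd _ _) by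
          apply CartesianMonoidalCategory.hom_ext
          · rw [whiskerRight_fst, lift_fst, Category.assoc, ← whiskerRight_fst e.hom T, ← Category.assoc]
            apply CartesianMonoidalCategory.hom_ext
            · simp only [Category.assoc, lift_fst]
            · simp only [Category.assoc, lift_snd, whiskerRight_snd]
          · rw [whiskerRight_snd, lift_snd],
        lift_cell]
      simp only [Category.assoc]
    rw [e', Over.comp_left]
    haveI : IsIso ((e.hom ▷ T) ▷ Red.Ga S) := (whiskerRightIso (whiskerRightIso e T) (Red.Ga S)).isIso_hom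
    haveI : IsIso ((e.hom ▷ T) ▷ Red.Ga S).left :=
      inferInstanceAs (IsIso ((Over.forget S).map ((e.hom ▷ T) ▷ Red.Ga S)))
    infer_instance

/-- The root subgroups and the Borel subgroups are closed. -/
theorem closed_subgroups (hG : Red.IsReductive G) (hT : Red.IsTorus T) (hcell : IsOpenImmersion (cell i pp pm).left)
    (hα : ∀ s : S, (Over.pullback (Red.geomPt s)).map α ≠ 1)
    (hpp : ∀ (X : Over S) (t : X ⟶ T) (x : X ⟶ Red.Ga S), ∃ x' : X ⟶ Red.Ga S,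
      x' ≫ pp = (t ≫ i) * (x ≫ pp) * (t ≫ i)⁻¹ ∧ Red.gaFn x' = Red.gmFn (t ≫ α) * Red.gaFn x)
    (hpm : ∀ (X : Over S) (t : X ⟶ T) (y : X ⟶ Red.Ga S), ∃ y' : X ⟶ Red.Ga S,
      y' ≫ pm = (t ≫ i) * (y ≫ pm) * (t ≫ i)⁻¹ ∧ Red.gaFn y' * Red.gmFn (t ≫ α) = Red.gaFn y) :
    IsClosedImmersion pp.left ∧ IsClosedImmersion pm.left ∧
      IsClosedImmersion ((i ⊗ₘ pp) ≫ μ[G]).left ∧ IsClosedImmersion ((i ⊗ₘ pm) ≫ μ[G]).left := by
  obtain ⟨e, he, av, hav, H, hc⟩ := exists_sys hG hT hcell hα hpp hpm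
  haveI := he
  haveI := hav
  haveI := isCommMonObj_gm (S := S)
  haveI : IsMonHom (α⁻¹) := Groth.L25.Bridge.isMonHom_of_mul (α⁻¹) fun Y a b => by
    refine GmPts.gmFn_injective ?_
    show Red.gmFn _ = Red.gmFn _
    simp only [GrpObj.comp_inv, MonObj.mul_comp, ← GmPts.val_unitOfPt, GmPts.unitOfPt_mul, GmPts.unitOfPt_inv,
      mul_inv, Units.val_mul]
  haveI : IsMonHom (av⁻¹) := Groth.L25.Bridge.isMonHom_of_mul (av⁻¹) fun Y a b => by
    rw [GrpObj.comp_inv, GrpObj.comp_inv, GrpObj.comp_inv, MonObj.mul_comp, mul_inv_rev]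
    exact Central.mul_comm_of_multTypeFT (Locus.isMultTypeFT_of_isTorus hT) _ _
  have hB := isClosedImmersion_borel H hG hT hc
  have hB' := isClosedImmersion_borel (sys_swap H) hG hT (isOpenImmersion_cell_swap hc)
  haveI : IsIso e.hom.left := inferInstanceAs (IsIso ((Over.forget S).map e.hom))
  have hm : (i ⊗ₘ pm) ≫ μ[G] = (T ◁ e.inv) ≫ ((i ⊗ₘ (e.hom ≫ pm)) ≫ μ[G]) := by
    rw [← id_tensorHom, ← Category.assoc, tensorHom_comp_tensorHom, Category.id_comp, Iso.inv_hom_id_assoc]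
  haveI : IsIso (T ◁ e.inv).left := inferInstanceAs (IsIso ((Over.forget S).map (T ◁ e.inv)))
  have hpm' : IsClosedImmersion (e.hom ≫ pm).left := isClosedImmersion_root hT hB'
  refine ⟨isClosedImmersion_root hT hB, ?_, hB, ?_⟩
  · haveI := hpm'
    rw [show pm = e.inv ≫ e.hom ≫ pm by rw [Iso.inv_hom_id_assoc], Over.comp_left]
    haveI : IsIso e.inv.left := inferInstanceAs (IsIso ((Over.forget S).map e.inv))
    infer_instance
  · haveI := hB'
    rw [hm, Over.comp_left]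
    infer_instance

end Groth.L14.RankOne
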