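import Groth.Agent.L14.RankOne.Pts
import Groth.Agent.L25.Cocycle.Descend
import Groth.Agent.L25.Locus.Torus
import Mathlib.RingTheory.Polynomial.Nilpotent

/-!
The affine line over a field maps only by constants into a torus.
-/

set_option autoImplicit false
universe u

open CategoryTheory CategoryTheory.Limits MonoidalCategory CartesianMonoidalCategory MonObj AlgebraicGeometry
open Groth.L25

set_option backward.isDefEq.respectTransparency.types false

noncomputable section

namespace Groth.L14.RankOne

variable {S : Scheme.{u}} {T : Over S} [GrpObj T]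

theorem torus_line_const (hT : Red.IsTorus T) (hsep : IsSeparated T.hom) {K : Type u} [Field K]
    (j : Spec (CommRingCat.of K) ⟶ S) (τ : Sp j (Polynomial K) ⟶ T) :
    mor j ((Algebra.ofId K (Polynomial K)).comp (Polynomial.aeval (0 : K))) ≫ τ = τ := by
  have hH := Locus.isMultTypeFT_of_isTorus hT
  obtain ⟨Fam⟩ := Cocycle.exists_family (j := j) (H := T) (Locus.locally_of_multTypeFT hH)
  obtain ⟨n, q, -⟩ := Fam.surj (IsLocalRing.closedPoint K)
  let B : Type u := Fam.C n
  let j₁ : Spec (CommRingCat.of B) ⟶ S := Spec.map (CommRingCat.ofHom (Fam.θ n)) ≫ j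
  let L : Type u := (q : PrimeSpectrum B).asIdeal.ResidueField
  let ψ : K →+* L := (algebraMap B L).comp (Fam.θ n)
  let Φ : Polynomial K →+* Polynomial L := Polynomial.mapRingHom ψ
  have hΦ : Function.Injective Φ := Polynomial.map_injective ψ ψ.injective
  letI : Algebra B (Polynomial L) := ((Polynomial.C).comp (algebraMap B L)).toAlgebra
  let f : Cocycle.X j₁ (Polynomial L) ⟶ Sp j (Polynomial K) := Over.homMk (Spec.map (CommRingCat.ofHom Φ)) (by
    simp only [Over.mk_hom, j₁]
    rw [← Spec.map_comp_assoc, ← Spec.map_comp_assoc]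
    congr 2
    refine CommRingCat.hom_ext (RingHom.ext fun c => ?_)
    exact Polynomial.map_C ψ)
  obtain ⟨χ, hχ⟩ := ((Fam.chart n).bij (Polynomial L)).2 (f ≫ τ)
  let e : Polynomial L →ₐ[B] Polynomial L :=
    { __ := (Polynomial.C).comp (Polynomial.evalRingHom (0 : L))
      commutes' := fun r => by
        show Polynomial.C (Polynomial.eval 0 (Polynomial.C (algebraMap B L r))) = Polynomial.C (algebraMap B L r)
        rw [Polynomial.eval_C] }
  have he : (e : Polynomial L →* Polynomial L).comp χ = χ := by
    refine MonoidHom.ext fun m => ?_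
    have hu : IsUnit (χ m) := (Group.isUnit m).map χ
    obtain ⟨r, -, hr⟩ := Polynomial.isUnit_iff.1 hu
    show Polynomial.C (Polynomial.eval 0 (χ m)) = χ m
    rw [← hr, Polynomial.eval_C]
  have h1 : Cocycle.mor j₁ e ≫ f ≫ τ = f ≫ τ := by rw [← hχ, (Fam.chart n).nat, he]
  have h2 : Cocycle.mor j₁ e ≫ f = f ≫ mor j ((Algebra.ofId K (Polynomial K)).comp (Polynomial.aeval (0 : K))) := by
    apply Over.OverMorphism.ext
    show Spec.map _ ≫ Spec.map _ = Spec.map _ ≫ Spec.map _
    rw [← Spec.map_comp, ← Spec.map_comp]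
    congr 1
    refine CommRingCat.hom_ext (RingHom.ext fun p => ?_)
    show Polynomial.C (Polynomial.eval 0 (Polynomial.map ψ p)) =
      Polynomial.map ψ (Polynomial.C (Polynomial.aeval (0 : K) p))
    rw [Polynomial.map_C, Polynomial.coe_aeval_eq_eval]
    congr 1
    rw [← map_zero ψ, Polynomial.eval_map, Polynomial.eval₂_hom]
  rw [← Category.assoc, h2, Category.assoc] at h1
  apply Over.OverMorphism.ext
  exact Groth.L11.Magnet.eq_of_dominant Φ hΦ T.hom _ _ ((Over.w _).trans (Over.w τ).symm)
    (congrArg CommaMorphism.left h1)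

end Groth.L14.RankOne
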