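import Groth.Agent.L14.RankOne.Slice
import Groth.Agent.L14.RankOne.TorusLine
import Mathlib.FieldTheory.RatFunc.AsPolynomial
import Mathlib.FieldTheory.IsAlgClosed.Basic

/-!
Vanishing of the infinitesimal commutation constant over an algebraically closed field forces commutation.
-/

set_option autoImplicit false
universe u

open CategoryTheory CategoryTheory.Limits MonoidalCategory CartesianMonoidalCategory MonObj AlgebraicGeometry
open Groth.L25

set_option backward.isDefEq.respectTransparency.types false

noncomputable section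

namespace Groth.L14.RankOne

open DualNumber TrivSqZeroExt

variable {S : Scheme.{u}} {G T : Over S} [GrpObj G] [GrpObj T] {i : T ⟶ G} [IsMonHom i] {α : T ⟶ Red.Gm S}
  [IsMonHom α] {pp pm : Red.Ga S ⟶ G} [IsMonHom pp] [IsMonHom pm] (H : Pair i α pp pm)

include H

omit H in
theorem mem_range_of_root {K L : Type u} [Field K] [IsAlgClosed K] [Field L] [Algebra K L] (θ : L)
    (h : ¬ Function.Injective (Polynomial.aeval θ : Polynomial K →ₐ[K] L)) :
    θ ∈ Set.range (algebraMap K L) := by
  have halg : IsAlgebraic K θ := by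
    by_contra hn
    exact h (transcendental_iff_injective.1 hn)
  exact minpoly.mem_range_of_degree_eq_one K θ
    (IsAlgClosed.degree_eq_one_of_irreducible K (minpoly.irreducible halg.isIntegral))

/-- Transcendental points of the slice lie in the big cell. -/
theorem memC_transcendental {R : Type u} [CommRing R] {j : Spec (CommRingCat.of R) ⟶ S} {K : Type u} [Field K]
    [Algebra R K] {L : Type u} [Field L] [Algebra R L] [Algebra K L] [IsScalarTower R K L] (θ : L)
    (hθ : Function.Injective (Polynomial.aeval θ : Polynomial K →ₐ[K] L)) : MemC i pp pm j θ 1 := by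
  have := H.cell
  let φ : Sp j (Polynomial K) ⟶ G := com pp pm (gp j (Polynomial.X : Polynomial K)) (gp j 1)
  have h0 : Mem i pp pm (mor j ((Polynomial.aeval (0 : K)).restrictScalars R : Polynomial K →ₐ[R] K) ≫ φ) := by
    simp only [φ, com_comp, mor_gp, map_one, AlgHom.coe_restrictScalars', Polynomial.aeval_X]
    exact (decC_zero_left (j := j) (1 : K)).mem H
  have h1 := mem_of_transcendental h0 ((Polynomial.aeval θ : Polynomial K →ₐ[K] L).restrictScalars R) hθ
  simp only [φ, com_comp, mor_gp, map_one, AlgHom.coe_restrictScalars', Polynomial.aeval_X] at h1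
  exact h1

variable {K : Type u} [Field K] [IsAlgClosed K] {j : Spec (CommRingCat.of K) ⟶ S}

/-- If the constant vanishes, every rational point of the slice lies in the big cell. -/
theorem memC_of_aEl_eq_zero (ha : aEl H j K = 0) (σ : K) : MemC i pp pm j σ 1 := by
  by_contra hσ
  let L : Type u := RatFunc K
  let xg : L := RatFunc.X
  have hη : Function.Injective (Polynomial.aeval xg : Polynomial K →ₐ[K] L) :=
    transcendental_iff_injective.1 RatFunc.transcendental_X
  obtain ⟨F, t, Z, hd⟩ := (memC_transcendental (j := j) H xg hη).exists_dec H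
  have hFu : IsUnit F := hd.isUnit H
  let s : L := algebraMap K L σ
  have hnm : ¬ MemC i pp pm j (s - xg) F := by
    intro hm
    obtain ⟨Y', t', Z', h'⟩ := hm.exists_dec H
    obtain ⟨Z₂, h₂, -⟩ := hd.addLeft H h'
    rw [sub_add_cancel] at h₂
    refine hσ (MemC.of_map (Algebra.ofId K L) (fun q => ⟨(⊥ : PrimeSpectrum L),
      Subsingleton.elim (α := PrimeSpectrum K) _ _⟩) ?_)
    rw [map_one]
    exact h₂.mem H
  have hκ : (s - xg) * F ∈ Set.range (algebraMap K L) := by
    refine mem_range_of_root _ fun hinj => hnm ?_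
    obtain ⟨u, hu⟩ := hFu
    obtain ⟨Y', t', Z', h'⟩ := (memC_transcendental (j := j) H ((s - xg) * F) hinj).exists_dec H
    rw [← hu] at h' ⊢
    exact (h'.toSlice H u).mem H
  obtain ⟨κ, hκ⟩ := hκ
  -- deform the generic point
  let g : Polynomial K →ₐ[K] L[ε] := Polynomial.aeval (inl xg + ε : L[ε])
  have hg : ∀ p : Polynomial K, fst (g p) = Polynomial.aeval xg p := fun p => by
    show (TrivSqZeroExt.fstHom K L L) (Polynomial.aeval _ p) = _
    rw [← Polynomial.aeval_algHom_apply]
    simp
  have hgu : ∀ y : nonZeroDivisors (Polynomial K), IsUnit (g y) := fun y => by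
    rw [TrivSqZeroExt.isUnit_iff_isUnit_fst, hg, isUnit_iff_ne_zero]
    exact (map_ne_zero_iff _ hη).2 (nonZeroDivisors.coe_ne_zero y)
  let ψ : L →ₐ[K] L[ε] := IsLocalization.liftAlgHom hgu
  have hψη : ψ xg = inl xg + ε := by
    show IsLocalization.lift hgu xg = _
    rw [show xg = algebraMap (Polynomial K) L Polynomial.X from (RatFunc.algebraMap_X).symm, IsLocalization.lift_eq]
    exact Polynomial.aeval_X _
  obtain ⟨t₁, Z₁, h₁⟩ := hd.deriv H
  have ha' : aEl H j L = 0 := by rw [← map_aEl H (Algebra.ofId K L), ha, map_zero]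
  rw [ha'] at h₁
  simp only [zero_mul, TrivSqZeroExt.inl_zero, sub_zero] at h₁
  have h₂ := hd.map ψ
  rw [hψη, map_one] at h₂
  have eF : ψ F = inl F := (h₂.unique H h₁).1
  have key := congrArg ψ hκ
  have hs : ψ s = inl s := by rw [AlgHom.commutes]; rfl
  rw [AlgHom.commutes, map_mul, map_sub, hs, hψη, eF] at key
  have key' := congrArg snd key
  simp at key'
  have hz : snd (algebraMap K L[ε] κ) = 0 := rfl
  rw [hz] at key'
  exact hFu.ne_zero (by linear_combination key')

/-- If the constant vanishes, the universal point of the slice has trivial coordinates. -/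
theorem decC_X_of_aEl_eq_zero (hT : Red.IsTorus T) (ha : aEl H j K = 0) :
    DecC i pp pm j (Polynomial.X : Polynomial K) 1 1 1 Polynomial.X := by
  have hm : MemC i pp pm j (Polynomial.X : Polynomial K) 1 := by
    refine MemC.of_residueField fun q => ?_
    let L : Type u := q.asIdeal.ResidueField
    rw [map_one]
    have e : (Polynomial.aeval (algebraMap (Polynomial K) L Polynomial.X) : Polynomial K →ₐ[K] L) =
        IsScalarTower.toAlgHom K (Polynomial K) L := Polynomial.algHom_ext (by simp)
    by_cases hi : Function.Injective (Polynomial.aeval (algebraMap (Polynomial K) L Polynomial.X) : Polynomial K →ₐ[K] L)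
    · exact memC_transcendental H _ hi
    · obtain ⟨σ, hσ⟩ := mem_range_of_root _ hi
      have := (memC_of_aEl_eq_zero H ha σ).map (Algebra.ofId K L)
      rw [map_one] at this
      rw [← hσ]
      exact this
  obtain ⟨F, τ, Z, hd⟩ := hm.exists_dec H
  let e0 : Polynomial K →ₐ[K] K := Polynomial.aeval (0 : K)
  have h00 := hd.map e0
  simp only [e0, Polynomial.aeval_X, map_one] at h00
  obtain ⟨eF, eτ, eZ⟩ := h00.unique H (decC_zero_left 1)
  obtain ⟨r, -, hr⟩ := Polynomial.isUnit_iff.1 (hd.isUnit H)
  have hF : F = 1 := by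
    rw [← hr, Polynomial.aeval_C, Algebra.algebraMap_self, RingHom.id_apply] at eF
    rw [← hr, eF, Polynomial.C_1]
  have hτ : τ = 1 := by
    rw [← torus_line_const hT H.sep j τ, mor_comp, Category.assoc, eτ, MonObj.comp_one]
  rw [hF, hτ] at hd
  -- the last coordinate
  have hpt : ∀ {C : Type u} [CommRing C] [Algebra K C] (x : C), DecC i pp pm j x 1 1 1 (Polynomial.aeval x Z) := by
    intro C _ _ x
    have := hd.map (Polynomial.aeval x : Polynomial K →ₐ[K] C)
    simpa only [Polynomial.aeval_X, map_one, MonObj.comp_one] using this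
  have hx0 : DecC i pp pm j (Polynomial.X : Polynomial K) (1 + -1) 0 1 Polynomial.X := by
    rw [add_neg_cancel]; exact decC_zero_right _
  have hn : DecC i pp pm j Z (-1) (-1) 1 (-(Z.comp (-Z))) := by
    have := (hpt (-Z)).scale H (-1)
    simpa [Polynomial.comp, Polynomial.aeval_def] using this
  obtain ⟨Y₂, h₂, -⟩ := hd.addRight H hn
  have hinv : (-Z).comp (-Z) = Polynomial.X := by
    rw [Polynomial.neg_comp]
    exact (h₂.unique H hx0).2.2
  have hdeg : Z.natDegree = 1 := by
    have h := congrArg Polynomial.natDegree hinv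
    rw [Polynomial.natDegree_comp, Polynomial.natDegree_neg, Polynomial.natDegree_X] at h
    exact Nat.eq_one_of_mul_eq_one_right h
  have hZ0 : Z.coeff 0 = 0 := by
    rw [Polynomial.coeff_zero_eq_eval_zero, ← Polynomial.coe_aeval_eq_eval]
    exact eZ
  have hZ : Z = Polynomial.C (Z.coeff 1) * Polynomial.X := by
    conv_lhs => rw [Polynomial.eq_X_add_C_of_natDegree_le_one hdeg.le, hZ0, map_zero, add_zero]
  generalize Z.coeff 1 = c at hZ
  subst hZ
  have hc0 : c ≠ 0 := fun h => by simp [h] at hdeg
  classical
  obtain ⟨lam, hlam⟩ := Infinite.exists_notMem_finset ({0, -1} : Finset K)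
  simp only [Finset.mem_insert, Finset.mem_singleton, not_or] at hlam
  have hl : (1 : K) + lam ≠ 0 := fun h => hlam.2 (by linear_combination h)
  have p1 := hpt (1 : K)
  simp only [map_mul, Polynomial.aeval_C, Polynomial.aeval_X, Algebra.algebraMap_self, RingHom.id_apply,
    _root_.mul_one] at p1
  have p2 := (hpt (c * lam)).toSlice H (Units.mk0 lam hlam.1)
  obtain ⟨Y₃, h₃, -⟩ := p1.addRight H p2
  have p3 : DecC i pp pm j ((1 : K) * (1 + lam)) 1 1 1 (c * (1 + lam)) := by
    have := hpt ((1 : K) * (1 + lam))
    simpa using this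
  have p4 := p3.toSlice H (Units.mk0 _ hl)
  have e := (h₃.unique H p4).2.2
  simp only [map_mul, Polynomial.aeval_C, Polynomial.aeval_X, Algebra.algebraMap_self, RingHom.id_apply,
    Units.val_inv_eq_inv_val, Units.val_mk0] at e
  field_simp at e
  have hc : c = 1 := by rwa [mul_div_cancel_left₀ c hlam.1] at e
  rw [hc, map_one, _root_.one_mul] at hd
  exact hd

omit H in
theorem eq_of_injective {R : Type u} [CommRing R] {j : Spec (CommRingCat.of R) ⟶ S} {C D : Type u} [CommRing C]
    [Algebra R C] [CommRing D] [Algebra R D] {Y : Over S} [IsSeparated Y.hom] (h : C →ₐ[R] D)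
    (hh : Function.Injective h) {t t' : Sp j C ⟶ Y} (e : mor j h ≫ t = mor j h ≫ t') : t = t' := by
  apply Over.OverMorphism.ext
  exact Groth.L11.Magnet.eq_of_dominant h.toRingHom hh Y.hom _ _ ((Over.w t).trans (Over.w t').symm)
    (congrArg CommaMorphism.left e)

/-- If the constant vanishes, the two root groups commute. -/
theorem commute_of_aEl_eq_zero (hT : Red.IsTorus T) (ha : aEl H j K = 0) {C : Type u} [CommRing C] [Algebra K C]
    (x y : C) : com pp pm (gp j x) (gp j y) = (gp j y ≫ pm) * (gp j x ≫ pp) := by
  have := H.sep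
  have hX := decC_X_of_aEl_eq_zero H hT ha
  have hunit : ∀ {D : Type u} [CommRing D] [Algebra K D] (x : D) (y : Dˣ), DecC i pp pm j x y y 1 x := by
    intro D _ _ x y
    have := (hX.map (Polynomial.aeval (x * y) : Polynomial K →ₐ[K] D))
    simp only [Polynomial.aeval_X, map_one, MonObj.comp_one] at this
    have := this.toSlice H y
    rwa [_root_.mul_one, _root_.mul_comm x, ← _root_.mul_assoc, Units.inv_mul, _root_.one_mul] at this
  let B : Type u := Polynomial C
  let L : Type u := Localization.Away (Polynomial.X : B)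
  let h : B →ₐ[K] L := IsScalarTower.toAlgHom K B L
  have hh : Function.Injective h :=
    IsLocalization.injective L (M := Submonoid.powers (Polynomial.X : B))
      ((Submonoid.powers_le).2 Polynomial.monic_X.mem_nonZeroDivisors)
  have hm : MemC i pp pm j (Polynomial.C x : B) Polynomial.X := by
    refine MemC.of_residueField fun q => ?_
    by_cases hy : algebraMap B q.asIdeal.ResidueField Polynomial.X = 0
    · rw [hy]
      exact (decC_zero_right _).mem H
    · exact (hunit _ (Units.mk0 _ hy)).mem H
  obtain ⟨Y, t, Z, hd⟩ := hm.exists_dec H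
  obtain ⟨e1, e2, e3⟩ := (hd.map h).unique H
    (hunit (h (Polynomial.C x)) (IsLocalization.Away.algebraMap_isUnit (S := L) (Polynomial.X : B)).unit)
  have et : t = 1 := eq_of_injective h hh (by rw [e2, MonObj.comp_one])
  have eY : Y = Polynomial.X := hh (e1.trans (IsUnit.unit_spec _))
  rw [eY, hh e3, et] at hd
  let ev : B →ₐ[K] C := (Polynomial.aeval y : Polynomial C →ₐ[C] C).restrictScalars K
  have := hd.map ev
  simp only [ev, AlgHom.coe_restrictScalars', Polynomial.aeval_C, Algebra.algebraMap_self, RingHom.id_apply,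
    Polynomial.aeval_X, MonObj.comp_one] at this
  have ex : (Polynomial.aeval y) (Polynomial.C x) = x := Polynomial.aeval_C y x
  have ey : (Polynomial.aeval y) (Polynomial.X : Polynomial C) = y := Polynomial.aeval_X y
  have h' := this.trans (show _ = (gp j (Polynomial.aeval y (Polynomial.X : Polynomial C)) ≫ pm) *
      (gp j (Polynomial.aeval y (Polynomial.C x)) ≫ pp) by rw [MonObj.one_comp, _root_.mul_one])
  rw [ex, ey] at h'
  exact h'

end Groth.L14.RankOne
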