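import Groth.Agent.L14.RankOne.Transport
import Mathlib.RingTheory.PowerSeries.Inverse

/-!
The commutation formula on points with values in rings.
-/

set_option autoImplicit false
universe u

open CategoryTheory CategoryTheory.Limits MonoidalCategory CartesianMonoidalCategory MonObj AlgebraicGeometry
open Groth.L25

set_option backward.isDefEq.respectTransparency.types false

noncomputable section

namespace Groth.L14.RankOne

variable {S : Scheme.{u}} {G T : Over S} [GrpObj G] [GrpObj T] {i : T ⟶ G} [IsMonHom i] {α : T ⟶ Red.Gm S}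
  [IsMonHom α] {pp pm : Red.Ga S ⟶ G} [IsMonHom pp] [IsMonHom pm] (H : Pair i α pp pm)
  {R : Type u} [CommRing R] {j : Spec (CommRingCat.of R) ⟶ S}
  (hne : ∀ s : S, aAt H (Red.geomPt s) ≠ 0)

include H hne

/-- The first coordinate on the slice. -/
theorem DecC.slice_eq {C : Type u} [CommRing C] [Algebra R C] {x F Z : C} {t : Sp j C ⟶ T}
    (h : DecC i pp pm j x 1 F t Z) : F * (1 + aEl H j C * x) = 1 := by
  have e := h.equation H
  rw [((isUnit_aEl H hne j C).mul (h.isUnit H)).mul_right_eq_zero] at e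
  exact sub_eq_zero.1 e

theorem memC_slice_field {L : Type u} [Field L] [Algebra R L] (x : L) (hx : 1 + aEl H j L * x ≠ 0) :
    MemC i pp pm j x 1 := by
  let K : Type u := AlgebraicClosure L
  let k : L →ₐ[R] K := IsScalarTower.toAlgHom R L K
  refine MemC.of_map k (fun q => ⟨(⊥ : PrimeSpectrum K), Subsingleton.elim (α := PrimeSpectrum L) _ _⟩) ?_
  have hσ : 1 + aEl H j K * k x ≠ 0 := by
    rw [← map_aEl H k, ← map_mul, ← map_one k, ← map_add]
    exact (map_ne_zero_iff _ k.toRingHom.injective).2 hx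
  rw [map_one]
  generalize k x = σ at hσ ⊢
  by_contra hn
  let Q : Type u := RatFunc K
  let xg : Q := RatFunc.X
  have hxg : Function.Injective (Polynomial.aeval xg : Polynomial K →ₐ[K] Q) :=
    transcendental_iff_injective.1 RatFunc.transcendental_X
  obtain ⟨F, t, Z, hd⟩ := (memC_transcendental (j := j) H xg hxg).exists_dec H
  obtain ⟨uF, hu⟩ := hd.isUnit H
  let s : Q := algebraMap K Q σ
  have hκ : (s - xg) * F ∈ Set.range (algebraMap K Q) := by
    refine mem_range_of_root _ fun hinj => hn ?_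
    obtain ⟨Y', t', Z', h'⟩ := (memC_transcendental (j := j) H ((s - xg) * F) hinj).exists_dec H
    rw [← hu] at h'
    have h'' := h'.toSlice H uF
    rw [hu] at h''
    obtain ⟨Z₂, h₂, -⟩ := hd.addLeft H h''
    rw [sub_add_cancel] at h₂
    let kQ : K →ₐ[R] Q := IsScalarTower.toAlgHom R K Q
    refine MemC.of_map kQ (fun q => ⟨(⊥ : PrimeSpectrum Q), Subsingleton.elim (α := PrimeSpectrum K) _ _⟩) ?_
    rw [map_one]
    exact h₂.mem H
  obtain ⟨κ, hκ⟩ := hκ
  have ha : aEl H j Q = algebraMap K Q (aEl H j K) :=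
    (map_aEl H (IsScalarTower.toAlgHom R K Q)).symm
  have hF := hd.slice_eq H hne
  rw [ha] at hF
  have key : Polynomial.aeval xg (Polynomial.C (σ - κ) + Polynomial.C (-1 - κ * aEl H j K) * Polynomial.X) = 0 := by
    simp only [map_add, map_mul, Polynomial.aeval_C, Polynomial.aeval_X, map_sub, map_neg, map_one]
    linear_combination -(s - xg) * hF - (1 + algebraMap K Q (aEl H j K) * xg) * hκ
  have key' := hxg (key.trans (map_zero _).symm)
  have e0 : σ - κ = 0 := by simpa using congrArg (fun p => Polynomial.coeff p 0) key'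
  have e1 : -1 - κ * aEl H j K = 0 := by simpa using congrArg (fun p => Polynomial.coeff p 1) key'
  exact hσ (by linear_combination aEl H j K * e0 - e1)

/-- The big cell on the slice and off it. -/
theorem memC_iff {C : Type u} [CommRing C] [Algebra R C] (x y : C) :
    MemC i pp pm j x y ↔ IsUnit (1 + aEl H j C * x * y) := by
  constructor
  · intro hm
    by_contra h
    obtain ⟨m, hmax, hu⟩ := exists_max_ideal_of_mem_nonunits h
    letI := Ideal.Quotient.field m
    let φ : C →ₐ[R] C ⧸ m := Ideal.Quotient.mkₐ R m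
    have h0 : φ (1 + aEl H j C * x * y) = 0 := Ideal.Quotient.eq_zero_iff_mem.2 hu
    simp only [map_add, map_mul, map_one, map_aEl] at h0
    obtain ⟨Y, t, Z, hd⟩ := (hm.map φ).exists_dec H
    by_cases hy : φ y = 0
    · rw [hy, mul_zero, add_zero] at h0
      exact one_ne_zero h0
    · have hd' := hd.scale H (Units.mk0 _ hy)
      rw [Units.val_inv_eq_inv_val, Units.val_mk0, inv_mul_cancel₀ hy] at hd'
      have e := hd'.slice_eq H hne
      rw [show aEl H j (C ⧸ m) * (φ y * φ x) = aEl H j (C ⧸ m) * φ x * φ y by ring, h0, mul_zero] at e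
      exact zero_ne_one e
  · intro hu
    refine MemC.of_residueField fun q => ?_
    have hu' := hu.map (IsScalarTower.toAlgHom R C q.asIdeal.ResidueField)
    simp only [map_add, map_mul, map_one, map_aEl] at hu'
    simp only [IsScalarTower.toAlgHom_apply] at hu'
    by_cases hy : algebraMap C q.asIdeal.ResidueField y = 0
    · rw [hy]
      exact (decC_zero_right _).mem H
    · let u := Units.mk0 _ hy
      obtain ⟨F, t, Z, hd⟩ := (memC_slice_field H hne (j := j) (algebraMap C q.asIdeal.ResidueField x * u) (by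
        rw [Units.val_mk0, ← _root_.mul_assoc]
        exact hu'.ne_zero)).exists_dec H
      exact (hd.toSlice H u).mem H

/-- The torus and second coordinates on the slice. -/
theorem DecC.slice_spec {C : Type u} [CommRing C] [Algebra R C] {x F Z : C} {t : Sp j C ⟶ T}
    (h : DecC i pp pm j x 1 F t Z) :
    (chi α t : C) = (1 + aEl H j C * x) * (1 + aEl H j C * x) ∧ Z * (1 + aEl H j C * x) = x := by
  let a := aEl H j C
  let Q : Type u := Localization.Away (PowerSeries.X : (PowerSeries C))
  let lam : (PowerSeries C) := PowerSeries.X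
  have hlam : lam ∈ nonZeroDivisors (PowerSeries C) := by
    refine mem_nonZeroDivisors_iff_right.2 fun p hp => PowerSeries.ext fun n => ?_
    have := congrArg (fun q => PowerSeries.coeff (n + 1) q) hp
    simpa [lam, PowerSeries.coeff_succ_mul_X] using this
  have hinj : Function.Injective (algebraMap (PowerSeries C) Q) :=
    IsLocalization.injective Q (M := Submonoid.powers lam) ((Submonoid.powers_le).2 hlam)
  let f : C →ₐ[R] (PowerSeries C) := IsScalarTower.toAlgHom R C (PowerSeries C)
  let g : (PowerSeries C) →ₐ[R] Q := IsScalarTower.toAlgHom R (PowerSeries C) Q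
  have hz : IsUnit (1 + a * x) := IsUnit.of_mul_eq_one_right _ (h.slice_eq H hne)
  have hu1 : IsUnit (1 + lam) := PowerSeries.isUnit_iff_constantCoeff.2 (by simp [lam])
  have hu2 : IsUnit (f (1 + a * x) + f (a * x) * lam) := PowerSeries.isUnit_iff_constantCoeff.2 (by
    have : PowerSeries.constantCoeff (f (1 + a * x) + f (a * x) * lam) = 1 + a * x := by
      simp [f, lam, PowerSeries.algebraMap_eq]
    rw [this]
    exact hz)
  have haP : aEl H j (PowerSeries C) = f a := (map_aEl H f).symm
  have haQ : aEl H j Q = g (f a) := by rw [← map_aEl H g, haP]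
  have hQ := h.map (g.comp f)
  rw [map_one] at hQ
  have hgu : IsUnit (1 + g (f a) * g (f x) * (1 + g lam)) := by
    have := hu2.map g
    simp only [map_add, map_mul, map_one] at this
    rw [show 1 + g (f a) * g (f x) * (1 + g lam) = 1 + g (f a) * g (f x) + g (f a) * g (f x) * g lam by ring]
    exact this
  have hm : MemC i pp pm j (g (f x)) (1 + g lam) := by
    rw [memC_iff H hne, haQ]
    exact hgu
  have hm' := hQ.mem_addRight H hm
  obtain ⟨Y', t', Z', h'⟩ := hm'.exists_dec H
  obtain ⟨Y₂, h₂, e₂⟩ := hQ.addRight H h'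
  obtain ⟨ul, hul⟩ : IsUnit (g lam) := IsLocalization.Away.algebraMap_isUnit (S := Q) lam
  have h'' := h'.scale H ul
  rw [hul] at h''
  rw [show (↑ul⁻¹ : Q) * g lam = 1 by rw [← hul, Units.inv_mul]] at h''
  have eY' := h''.slice_eq H hne
  obtain ⟨u1, hu1'⟩ := hu1.map g
  obtain ⟨Y₁, t₁, Z₁, h₁⟩ : ∃ Y₁ t₁ Z₁, DecC i pp pm j (g (f x) * u1) 1 Y₁ t₁ Z₁ :=
    MemC.exists_dec H ((memC_iff H hne _ _).2 (by
      rw [hu1', haQ, _root_.mul_one, map_add, map_one, ← _root_.mul_assoc]
      exact hgu))
  have eY₁ := h₁.slice_eq H hne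
  have h₁' := h₁.toSlice H u1
  rw [hu1', map_add, map_one] at h₁'
  have eY₂ := (h₂.unique H h₁').1
  have eF : g (f F) * (1 + g (f a) * g (f x)) = 1 := by
    have := congrArg (g.comp f) (h.slice_eq H hne)
    simpa using this
  rw [haQ, hu1', map_add, map_one] at eY₁
  rw [haQ] at eY'
  rw [chi_mor] at e₂
  simp only [AlgHom.comp_apply] at e₂ eY'
  have key : g (f (chi α t) * (1 + f (a * Z) * lam) - f (1 + a * x) * (f (1 + a * x) + f (a * x) * lam)) = 0 := by
    simp only [map_add, map_sub, map_mul, map_one]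
    have hv : (↑(Units.map (g.comp f).toRingHom.toMonoidHom (chi α t)) : Q) = g (f (chi α t)) := rfl
    rw [hv, eY₂] at e₂
    have hc : (↑ul⁻¹ : Q) * g lam = 1 := by rw [← hul, Units.inv_mul]
    apply ul.isUnit.mul_left_cancel
    rw [mul_zero, hul]
    linear_combination ((1 + g (f a) * g (f x)) * ((1 + g (f a) * g (f x)) + g (f a) * g (f x) * g lam)
        * (1 + g (f a) * g (f Z) * g lam)) * e₂
      - (g (f (chi α t)) * (1 + g (f a) * g (f Z) * g lam) * (1 + g lam) * (1 + g (f a) * g (f x))) * eY₁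
      + (g (f (chi α t)) * ((1 + g (f a) * g (f x)) + g (f a) * g (f x) * g lam)
        * (1 + g (f a) * g (f Z) * g lam)) * eF
      + (g lam * (1 + g (f a) * g (f x)) * ((1 + g (f a) * g (f x)) + g (f a) * g (f x) * g lam)) * eY'
      - (Y' * (1 + g (f a) * g (f x)) * ((1 + g (f a) * g (f x)) + g (f a) * g (f x) * g lam)
        * (1 + g (f a) * g (f Z) * g lam)) * hc
  have key' := hinj (key.trans (map_zero g).symm)
  have c0 := congrArg (fun p => PowerSeries.coeff 0 p) key'
  have c1 := congrArg (fun p => PowerSeries.coeff 1 p) key'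
  simp [f, lam, PowerSeries.algebraMap_eq, PowerSeries.coeff_one_mul] at c0 c1
  have e1 : (chi α t : C) = (1 + a * x) * (1 + a * x) := by linear_combination c0
  refine ⟨e1, ((isUnit_aEl H hne j C).mul hz).mul_left_cancel ?_⟩
  rw [e1] at c1
  linear_combination c1

/-- The commutation formula. -/
theorem decC_formula (τ : ∀ (C : Type u) [CommRing C] [Algebra R C], Cˣ → (Sp j C ⟶ T))
    (hτ : ∀ (C : Type u) [CommRing C] [Algebra R C] (x : C) (z : Cˣ), (z : C) = 1 + aEl H j C * x →
      ∃ F Z, DecC i pp pm j x 1 F (τ C z) Z)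
    {C : Type u} [CommRing C] [Algebra R C] (x y : C) (z : Cˣ) (hz : (z : C) = 1 + aEl H j C * x * y) :
    DecC i pp pm j x y (y * ↑z⁻¹) (τ C z) (x * ↑z⁻¹) := by
  -- the case of a unit second argument
  have hunit : ∀ {D : Type u} [CommRing D] [Algebra R D] (x : D) (y z : Dˣ),
      (z : D) = 1 + aEl H j D * x * y → DecC i pp pm j x y (y * ↑z⁻¹) (τ D z) (x * ↑z⁻¹) := by
    intro D _ _ x y z hz
    rw [_root_.mul_assoc] at hz
    obtain ⟨F, Z, hd⟩ := hτ D (x * y) z hz
    have eF : F = ↑z⁻¹ := Units.eq_inv_of_mul_eq_one_left (by rw [hz, _root_.mul_comm]; exact hd.slice_eq H hne)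
    have eZ : Z = x * y * ↑z⁻¹ :=
      (Units.eq_mul_inv_iff_mul_eq z).2 (by rw [hz]; exact (hd.slice_spec H hne).2)
    have := hd.toSlice H y
    rw [eF, eZ, show (↑y⁻¹ : D) * (x * y * ↑z⁻¹) = x * ↑z⁻¹ * (↑y⁻¹ * y) by ring, Units.inv_mul,
      _root_.mul_one] at this
    exact this
  let g : (Polynomial C) := 1 + Polynomial.C (aEl H j C * x) * Polynomial.X
  let B : Type u := Localization.Away g
  let Q : Type u := Localization.Away (algebraMap (Polynomial C) B Polynomial.X)
  let h : B →ₐ[R] Q := IsScalarTower.toAlgHom R B Q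
  let ib : (Polynomial C) →ₐ[R] B := IsScalarTower.toAlgHom R (Polynomial C) B
  have hinj : Function.Injective h := by
    refine IsLocalization.injective Q (M := Submonoid.powers (algebraMap (Polynomial C) B Polynomial.X)) ?_
    refine (Submonoid.powers_le).2 (mem_nonZeroDivisors_iff_right.2 fun b hb => ?_)
    obtain ⟨⟨p, m⟩, hp⟩ := IsLocalization.surj (Submonoid.powers g) b
    have h0 : algebraMap (Polynomial C) B (p * Polynomial.X) = 0 := by
      rw [map_mul, ← hp, _root_.mul_right_comm, hb, zero_mul]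
    obtain ⟨n, hn⟩ := (IsLocalization.map_eq_zero_iff (Submonoid.powers g) B _).1 h0
    have h1 : (n : (Polynomial C)) * p = 0 :=
      (mem_nonZeroDivisors_iff_right.1 Polynomial.monic_X.mem_nonZeroDivisors) _ (by rw [_root_.mul_assoc]; exact hn)
    refine (IsUnit.mul_left_eq_zero (IsLocalization.map_units B m)).1 (hp.trans ?_)
    exact (IsLocalization.map_eq_zero_iff (Submonoid.powers g) B p).2 ⟨n, h1⟩
  obtain ⟨zB, hzB⟩ : IsUnit (algebraMap (Polynomial C) B g) := IsLocalization.Away.algebraMap_isUnit g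
  have haB : aEl H j B = algebraMap (Polynomial C) B (Polynomial.C (aEl H j C)) := by
    rw [← map_aEl H ib, ← map_aEl H (IsScalarTower.toAlgHom R C (Polynomial C))]
    rfl
  have hzB' : (zB : B) = 1 + aEl H j B * algebraMap (Polynomial C) B (Polynomial.C x) * algebraMap (Polynomial C) B Polynomial.X := by
    rw [hzB, haB]
    simp [g]
  obtain ⟨Y, t, Z, hd⟩ := ((memC_iff H hne _ _).2 (hzB' ▸ zB.isUnit)).exists_dec H
  let yQ : Qˣ := (IsLocalization.Away.algebraMap_isUnit (S := Q) (algebraMap (Polynomial C) B Polynomial.X)).unit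
  let zQ : Qˣ := Units.map h.toRingHom.toMonoidHom zB
  have hzQ : (zQ : Q) = 1 + aEl H j Q * h (algebraMap (Polynomial C) B (Polynomial.C x)) * (yQ : Q) := by
    rw [show (zQ : Q) = h zB from rfl, hzB', map_add, map_mul, map_mul, map_one, map_aEl]
    rfl
  obtain ⟨eY, et, eZ⟩ := (hd.map h).unique H (hunit _ yQ zQ hzQ)
  have eY' : Y = algebraMap (Polynomial C) B Polynomial.X * ↑zB⁻¹ := hinj (by
    rw [eY, map_mul]
    rfl)
  have eZ' : Z = algebraMap (Polynomial C) B (Polynomial.C x) * ↑zB⁻¹ := hinj (by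
    rw [eZ, map_mul]
    rfl)
  -- the torus coordinate
  have := H.sep
  have hzS : (zB : B) = 1 + aEl H j B * (algebraMap (Polynomial C) B (Polynomial.C x) * algebraMap (Polynomial C) B Polynomial.X) := by
    rw [hzB', _root_.mul_assoc]
  obtain ⟨F', Z', hτB⟩ := hτ B _ zB hzS
  obtain ⟨F'', Z'', hτQ⟩ := hτ Q (h (algebraMap (Polynomial C) B (Polynomial.C x) * algebraMap (Polynomial C) B Polynomial.X)) zQ (by
    rw [show (zQ : Q) = h zB from rfl, hzS, map_add, map_mul, map_one, map_aEl])
  have hτh : mor j h ≫ τ B zB = τ Q zQ := by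
    have h1 := hτB.map h
    rw [map_one] at h1
    exact (h1.unique H hτQ).2.1
  have et' : t = τ B zB := eq_of_injective h hinj (by rw [et, hτh])
  rw [eY', eZ', et'] at hd
  let ev0 : (Polynomial C) →+* C := Polynomial.evalRingHom y
  have hev : IsUnit (ev0 g) := by
    have : ev0 g = z := by rw [hz]; simp [ev0, g]
    rw [this]
    exact z.isUnit
  let ev : B →ₐ[R] C :=
    { __ := IsLocalization.Away.lift (S := B) g hev
      commutes' := fun r => by
        show IsLocalization.Away.lift g hev (algebraMap R B r) = _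
        rw [IsScalarTower.algebraMap_apply R (Polynomial C) B, IsLocalization.Away.lift_eq, Polynomial.algebraMap_apply]
        simp [ev0] }
  have evp : ∀ p : (Polynomial C), ev (algebraMap (Polynomial C) B p) = Polynomial.eval y p := fun p => IsLocalization.Away.lift_eq g hev p
  have hdev := hd.map ev
  have evz : Units.map ev.toRingHom.toMonoidHom zB = z := by
    ext
    show ev zB = z
    rw [hzB, evp, hz]
    simp [g]
  simp only [map_mul, evp, Polynomial.eval_X, Polynomial.eval_C] at hdev
  have evzi : ev ↑zB⁻¹ = ↑z⁻¹ := by rw [← evz]; rfl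
  rw [evzi] at hdev
  have hτev : mor j ev ≫ τ B zB = τ C z := by
    have h1 := hτB.map ev
    simp only [map_mul, map_one, evp, Polynomial.eval_X, Polynomial.eval_C] at h1
    obtain ⟨F₃, Z₃, h3⟩ := hτ C (x * y) z (by rw [hz, _root_.mul_assoc])
    exact (h1.unique H h3).2.1
  rw [hτev] at hdev
  exact hdev

end Groth.L14.RankOne
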