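import Groth.Agent.L14.RankOne.Centralizer
import Groth.Agent.L25.Extension.ConnBC

/-!
A reductive group is generated by the big cell.
-/

set_option autoImplicit false
universe u

open CategoryTheory CategoryTheory.Limits MonoidalCategory CartesianMonoidalCategory MonObj AlgebraicGeometry
open Groth.L25

set_option backward.isDefEq.respectTransparency.types false
set_option synthInstance.maxHeartbeats 100000
set_option maxHeartbeats 1000000

noncomputable section

namespace Groth.L14.RankOne

variable {S : Scheme.{u}} {G T : Over S} [GrpObj G] [GrpObj T] {i : T ⟶ G} [IsMonHom i]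
  {pp pm : Red.Ga S ⟶ G} [IsMonHom pp] [IsMonHom pm]

/-- Every point is, fppf locally, the product of two points of the big cell. -/
theorem exists_two_cell (hG : Red.IsReductive G) (hcell : IsOpenImmersion (cell i pp pm).left)
    {X : Over S} (g : X ⟶ G) :
    ∃ (X' : Over S) (f : X' ⟶ X) (a b : X' ⟶ G), Flat f.left ∧ Surjective f.left ∧ Epi f ∧
      Mem i pp pm a ∧ Mem i pp pm b ∧ f ≫ g = a * b := by
  have := hcell
  haveI : IsAffineHom G.hom := hG.1
  haveI : Smooth G.hom := hG.2.1
  let O : Set G.left := Set.range (cell i pp pm).left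
  have hop : IsOpen O := (cell i pp pm).left.isOpenEmbedding.isOpen_range
  let P : Over S := Over.mk (pullback.fst X.hom G.hom ≫ X.hom)
  let σ : P ⟶ X := Over.homMk (pullback.fst X.hom G.hom) rfl
  let π : P ⟶ G := Over.homMk (pullback.snd X.hom G.hom) pullback.condition.symm
  let ψ : P ⟶ G := π⁻¹ * (σ ≫ g)
  let U : P.left.Opens := ⟨π.left ⁻¹' O ∩ ψ.left ⁻¹' O,
    (hop.preimage π.left.continuous).inter (hop.preimage ψ.left.continuous)⟩
  let X' : Over S := Over.mk (U.ι ≫ P.hom)
  let ι' : X' ⟶ P := Over.homMk U.ι rfl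
  let f : X' ⟶ X := ι' ≫ σ
  have hflat : Flat f.left := by
    show Flat (U.ι ≫ pullback.fst X.hom G.hom)
    infer_instance
  have hsurj : Surjective f.left := by
    refine ⟨fun v => ?_⟩
    let K : Type u := X.left.residueField v
    let j : Spec (CommRingCat.of K) ⟶ S := X.left.fromSpecResidueField v ≫ X.hom
    let x : Sp j K ⟶ X := (self j).hom ≫ Over.homMk (X.left.fromSpecResidueField v) rfl
    let jK := (Sp j K).hom
    haveI : Subsingleton (Sp j K).left := inferInstanceAs (Subsingleton (PrimeSpectrum K))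
    haveI : Smooth (Red.bc jK G).hom := inferInstanceAs (Smooth (pullback.snd G.hom jK))
    haveI : ConnectedSpace (Red.bc jK G).left := by
      let o : (Sp j K).left := IsLocalRing.closedPoint K
      have h := Extension.isConnected_fibre_bc jK G (isConnected_fibre_of_reductive hG) o
      have e : (Red.bc jK G).hom.base ⁻¹' {o} = Set.univ := Set.eq_univ_of_forall fun z => Subsingleton.elim _ _
      rw [e] at h
      exact connectedSpace_iff_univ.2 h
    haveI : IsLocallyNoetherian (Sp j K).left := inferInstanceAs (IsLocallyNoetherian (Spec (CommRingCat.of K)))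
    haveI : IsLocallyNoetherian (Red.bc jK G).left := LocallyOfFiniteType.isLocallyNoetherian (Red.bc jK G).hom
    haveI hirr : IrreducibleSpace (Red.bc jK G).left :=
      Groth.L02.SchDom.irreducibleSpace_of_connected fun z => Groth.L21.Smooth.isDomain_stalk (Red.bc jK G).hom z
    let Q : Over S := Over.mk ((Red.bc jK G).hom ≫ jK)
    let πQ : Q ⟶ G := Over.homMk (pullback.fst G.hom jK) pullback.condition
    let σQ : Q ⟶ Sp j K := Over.homMk (Red.bc jK G).hom rfl
    let m : Q ⟶ P := Over.homMk (pullback.lift (σQ ≫ x).left πQ.left ((Over.w (σQ ≫ x)).trans (Over.w πQ).symm)) (by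
      show _ ≫ pullback.fst X.hom G.hom ≫ X.hom = _
      rw [pullback.lift_fst_assoc]
      exact Over.w (σQ ≫ x))
    have hmσ : m ≫ σ = σQ ≫ x := Over.OverMorphism.ext (pullback.lift_fst _ _ _)
    have hmπ : m ≫ π = πQ := Over.OverMorphism.ext (pullback.lift_snd _ _ _)
    let sec : (Sp j K ⟶ G) → (Sp j K ⟶ Q) := fun a =>
      Over.homMk (pullback.lift a.left (𝟙 _) ((Over.w a).trans (Category.id_comp _).symm)) (by
        show _ ≫ pullback.snd G.hom jK ≫ jK = _
        rw [pullback.lift_snd_assoc, Category.id_comp])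
    have hsπ : ∀ a, sec a ≫ πQ = a := fun a => Over.OverMorphism.ext (pullback.lift_fst _ _ _)
    have hsσ : ∀ a, sec a ≫ σQ = 𝟙 _ := fun a => Over.OverMorphism.ext (pullback.lift_snd _ _ _)
    let o : (Sp j K).left := IsLocalRing.closedPoint K
    have hA : (sec 1).left o ∈ (m ≫ π).left ⁻¹' O := by
      have h1 : sec 1 ≫ m ≫ π = 1 := by rw [hmπ, hsπ]
      exact (mem_one (i := i) (pp := pp) (pm := pm)) ⟨o, congrArg (fun v : Sp j K ⟶ G => v.left o) h1.symm⟩
    have hB : (sec (x ≫ g)).left o ∈ (m ≫ ψ).left ⁻¹' O := by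
      have h1 : sec (x ≫ g) ≫ m ≫ ψ = 1 := by
        rw [MonObj.comp_mul, MonObj.comp_mul, GrpObj.comp_inv, GrpObj.comp_inv, hmπ, hsπ, ← Category.assoc m σ g,
          hmσ, Category.assoc σQ x g, ← Category.assoc (sec (x ≫ g)) σQ, hsσ, Category.id_comp, inv_mul_cancel]
      exact (mem_one (i := i) (pp := pp) (pm := pm)) ⟨o, congrArg (fun v : Sp j K ⟶ G => v.left o) h1.symm⟩
    haveI : PreirreducibleSpace Q.left := hirr.toPreirreducibleSpace
    obtain ⟨p, hpA, hpB⟩ := nonempty_preirreducible_inter (hop.preimage (m ≫ π).left.continuous)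
      (hop.preimage (m ≫ ψ).left.continuous) ⟨_, hA⟩ ⟨_, hB⟩
    have hU : m.left p ∈ U := ⟨hpA, hpB⟩
    refine ⟨⟨m.left p, hU⟩, ?_⟩
    show σ.left (m.left p) = v
    have e : (m ≫ σ).left p = (σQ ≫ x).left p := congrArg (fun φ : Q ⟶ X => φ.left p) hmσ
    refine e.trans ?_
    show X.left.fromSpecResidueField v _ = v
    have hx : ∀ z, X.left.fromSpecResidueField v z = v := fun z => by
      have : X.left.fromSpecResidueField v z ∈ Set.range (X.left.fromSpecResidueField v) := ⟨z, rfl⟩
      rwa [Scheme.range_fromSpecResidueField, Set.mem_singleton_iff] at this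
    exact hx _
  haveI := hflat
  haveI := hsurj
  haveI : LocallyOfFinitePresentation f.left := by
    show LocallyOfFinitePresentation (U.ι ≫ pullback.fst X.hom G.hom)
    infer_instance
  haveI : Epi f.left := Flat.epi_of_flat_of_surjective _
  refine ⟨X', f, ι' ≫ π, ι' ≫ ψ, hflat, hsurj, Over.epi_of_epi_left f, ?_, ?_, ?_⟩
  · rintro _ ⟨z, rfl⟩
    exact z.2.1
  · rintro _ ⟨z, rfl⟩
    exact z.2.2
  · rw [← MonObj.comp_mul, show π * ψ = σ ≫ g from mul_inv_cancel_left _ _, Category.assoc]

/-- A point commuting with the torus and the two root groups is central. -/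
theorem commute_of_commute_cell (hG : Red.IsReductive G) (hcell : IsOpenImmersion (cell i pp pm).left)
    {X : Over S} (g : X ⟶ G)
    (hT : ∀ (X' : Over S) (y : X' ⟶ X) (t : X' ⟶ T), Commute (y ≫ g) (t ≫ i))
    (hp : ∀ (X' : Over S) (y : X' ⟶ X) (r : X' ⟶ Red.Ga S), Commute (y ≫ g) (r ≫ pp))
    (hm : ∀ (X' : Over S) (y : X' ⟶ X) (r : X' ⟶ Red.Ga S), Commute (y ≫ g) (r ≫ pm))
    {X' : Over S} (y : X' ⟶ X) (k : X' ⟶ G) : Commute (y ≫ g) k := by
  have := hcell
  obtain ⟨X'', f, a, b, -, -, hf, ha, hb, hk⟩ := exists_two_cell hG hcell k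
  have h1 : ∀ c : X'' ⟶ G, Mem i pp pm c → Commute (f ≫ y ≫ g) c := fun c hc => by
    obtain ⟨Y, t, Z, rfl⟩ := hc.exists_decomp
    rw [← Category.assoc]
    exact ((hm _ _ Y).mul_right (hT _ _ t)).mul_right (hp _ _ Z)
  have h2 := (h1 a ha).mul_right (h1 b hb)
  rw [← hk] at h2
  show _ = _
  rw [← cancel_epi f, MonObj.comp_mul, MonObj.comp_mul]
  exact h2.eq

/-- Homomorphisms agreeing on the torus and the two root groups are equal. -/
theorem hom_ext_cell (hG : Red.IsReductive G) (hcell : IsOpenImmersion (cell i pp pm).left)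
    {H : Over S} [GrpObj H] (F F' : G ⟶ H) [IsMonHom F] [IsMonHom F']
    (hT : i ≫ F = i ≫ F') (hp : pp ≫ F = pp ≫ F') (hm : pm ≫ F = pm ≫ F') : F = F' := by
  have := hcell
  obtain ⟨X', f, a, b, -, -, hf, ha, hb, hk⟩ := exists_two_cell hG hcell (𝟙 G)
  have h1 : ∀ c : X' ⟶ G, Mem i pp pm c → c ≫ F = c ≫ F' := fun c hc => by
    obtain ⟨Y, t, Z, rfl⟩ := hc.exists_decomp
    simp only [MonObj.mul_comp, Category.assoc, hT, hp, hm]
  rw [Category.comp_id] at hk
  rw [← cancel_epi f, hk, MonObj.mul_comp, MonObj.mul_comp, h1 a ha, h1 b hb]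

end Groth.L14.RankOne
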