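import Groth.Agent.L14.RankOne.CellUnit
import Groth.Agent.L14.RankOne.MapCell

/-!
The homomorphism given by values on the torus and the two root groups of a rank one system.
-/

set_option autoImplicit false
universe u

open CategoryTheory CategoryTheory.Limits MonoidalCategory CartesianMonoidalCategory MonObj AlgebraicGeometry
open Groth.L25 Groth.L25.RankOne

set_option backward.isDefEq.respectTransparency.types false
set_option synthInstance.maxHeartbeats 100000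
set_option maxHeartbeats 1000000

noncomputable section

namespace Groth.L14.RankOne

section abs

variable {A : Type*} [CommRing A] {Γ' : Type*} [Group Γ'] {Θ : Type*} (R : Rel A Γ' Θ)

theorem rel_a_mul_j (r : A) (t : Θ) : R.a r * R.j t = R.j t * R.a (↑(R.χ t)⁻¹ * r) := by
  have h := R.conj_a t (↑(R.χ t)⁻¹ * r)
  rw [Units.mul_inv_cancel_left] at h
  rw [← h]; group

theorem rel_j_mul_b (y : A) (t : Θ) : R.j t * R.b y = R.b (↑(R.χ t)⁻¹ * y) * R.j t := by
  rw [← R.conj_b]; group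

theorem rel_j_mul_a (r : A) (t : Θ) : R.j t * R.a r = R.a (↑(R.χ t) * r) * R.j t := by
  rw [← R.conj_a]; group

/-- An element of the positive root group times an element of the big cell. -/
theorem rel_a_mul_cell (s Y Z : A) (u : Aˣ) (hu : (u : A) = 1 + s * Y) (t : Θ) :
    R.a s * (R.b Y * R.j t * R.a Z) =
      R.b (Y * ↑u⁻¹) * (R.h u * R.j t) * R.a (↑(R.χ t)⁻¹ * (s * ↑u⁻¹) + Z) := by
  calc R.a s * (R.b Y * R.j t * R.a Z) = (R.a s * R.b Y) * R.j t * R.a Z := by group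
    _ = R.b (Y * ↑u⁻¹) * R.h u * (R.a (s * ↑u⁻¹) * R.j t) * R.a Z := by rw [R.comm s Y u hu]; group
    _ = _ := by rw [rel_a_mul_j, R.a_add]; group

/-- The product `p₋(y) p₊(r) p₋(Y)`, translated. -/
theorem rel_b_a_b (q y r Y : A) (u v : Aˣ) (hu : (u : A) = 1 - q * y)
    (hv : (v : A) = (1 + r * Y) - q * (y + Y + r * y * Y)) :
    R.b y * R.a r * R.b Y =
      R.a q * (R.b (y * ↑u⁻¹ + Y * ↑(u * v)⁻¹) * R.h v * R.a ((r - q * ↑u⁻¹) * (↑u * ↑v⁻¹))) := by
  have h1 := R.comm (-q) y u (by rw [hu]; ring)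
  have h2 := R.comm (r - q * ↑u⁻¹) Y (v * u⁻¹) (by
    rw [Units.val_mul, hv]
    linear_combination (1 + r * Y) * u.inv_mul - (1 + r * Y) * (↑u⁻¹ : A) * hu)
  have h3 : R.b y = R.a q * (R.b (y * ↑u⁻¹) * R.h u * R.a (-q * ↑u⁻¹)) := by
    rw [← h1, R.a_neg, mul_inv_cancel_left]
  calc R.b y * R.a r * R.b Y
      = R.a q * (R.b (y * ↑u⁻¹) * R.h u * ((R.a (-q * ↑u⁻¹) * R.a r) * R.b Y)) := by rw [h3]; group
    _ = R.a q * (R.b (y * ↑u⁻¹) * (R.h u * R.b (Y * ↑(v * u⁻¹)⁻¹)) * R.h (v * u⁻¹) *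
          R.a ((r - q * ↑u⁻¹) * ↑(v * u⁻¹)⁻¹)) := by
        rw [← R.a_add, show -q * ↑u⁻¹ + r = r - q * ↑u⁻¹ by ring, h2]; group
    _ = _ := by
      rw [R.h_mul_b, ← _root_.mul_assoc (R.b _), ← R.b_add, _root_.mul_assoc (R.b _) (R.h u), ← R.h_mul,
        mul_inv_cancel_comm_assoc u v]
      congr 3
      · simp only [mul_inv_rev, inv_inv, Units.val_mul]
        congr 2
        linear_combination Y * (↑u⁻¹ : A) * ↑v⁻¹ * u.inv_mul

end abs

variable {S : Scheme.{u}} {G T Gr : Over S} [GrpObj G] [GrpObj T] [GrpObj Gr] {i : T ⟶ G} [IsMonHom i]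
  {α : T ⟶ Red.Gm S} [IsMonHom α] {pp pm : Red.Ga S ⟶ G} [IsMonHom pp] [IsMonHom pm]
  {av : Red.Gm S ⟶ T} [IsMonHom av] {fT : T ⟶ Gr} [IsMonHom fT] {fa fb : Red.Ga S ⟶ Gr} [IsMonHom fa] [IsMonHom fb]

section translates

variable {P : Over S} [GrpObj P] (k : T ⟶ P) (p m : Red.Ga S ⟶ P)

omit [GrpObj G] [GrpObj Gr] in
theorem lift_translates {X : Over S} (r Y Z : X ⟶ Red.Ga S) (t : X ⟶ T) :
    lift r (lift (lift Y t) Z) ≫ translates k p m = (r ≫ p) * ((Y ≫ m) * (t ≫ k) * (Z ≫ p)) := by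
  simp only [translates, MonObj.comp_mul, lift_fst_assoc, lift_snd_assoc, lift_cell]

omit [GrpObj G] [GrpObj Gr] in
theorem eq_lift_coords {X : Over S} (a : X ⟶ Red.Ga S ⊗ ((Red.Ga S ⊗ T) ⊗ Red.Ga S)) :
    a = lift (a ≫ fst _ _) (lift (lift (a ≫ snd _ _ ≫ fst _ _ ≫ fst _ _) (a ≫ snd _ _ ≫ fst _ _ ≫ snd _ _))
      (a ≫ snd _ _ ≫ snd _ _)) := by
  ext1
  · simp
  · ext1
    · ext1 <;> simp
    · simp

end translates

variable (H : Sys i α pp pm av) (H' : Sys fT α fa fb av)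

include H H' in
/-- Equal translates of points of the big cell have equal images. -/
theorem translates_compat (hcell : IsOpenImmersion (cell i pp pm).left)
    (hcomm : ∀ {X : Over S} (a b : X ⟶ T), a * b = b * a)
    {X : Over S} (a b : X ⟶ Red.Ga S ⊗ ((Red.Ga S ⊗ T) ⊗ Red.Ga S))
    (e : a ≫ translates i pp pm = b ≫ translates i pp pm) :
    a ≫ translates fT fa fb = b ≫ translates fT fa fb := by
  have := hcell
  rw [eq_lift_coords a, eq_lift_coords b, lift_translates, lift_translates] at e ⊢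
  generalize a ≫ fst _ _ = r, a ≫ snd _ _ ≫ fst _ _ ≫ fst _ _ = Y, a ≫ snd _ _ ≫ fst _ _ ≫ snd _ _ = t,
    a ≫ snd _ _ ≫ snd _ _ = Z, b ≫ fst _ _ = r', b ≫ snd _ _ ≫ fst _ _ ≫ fst _ _ = Y',
    b ≫ snd _ _ ≫ fst _ _ ≫ snd _ _ = t', b ≫ snd _ _ ≫ snd _ _ = Z' at e ⊢
  let R := rel H X
  let R' := rel H' X
  let s := Red.gaFn r - Red.gaFn r'
  rw [pp_eq H r, pp_eq H r', pm_eq H Y, pp_eq H Z, pm_eq H Y', pp_eq H Z'] at e
  rw [pp_eq H' r, pp_eq H' r', pm_eq H' Y, pp_eq H' Z, pm_eq H' Y', pp_eq H' Z']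
  rw [show Red.gaFn r = Red.gaFn r' + s from (add_sub_cancel _ _).symm, R.a_add, _root_.mul_assoc,
    mul_left_cancel_iff] at e
  rw [show Red.gaFn r = Red.gaFn r' + s from (add_sub_cancel _ _).symm, R'.a_add, _root_.mul_assoc,
    mul_left_cancel_iff]
  change R.a s * (R.b _ * R.j t * R.a _) = R.b _ * R.j t' * R.a _ at e
  show R'.a s * (R'.b _ * R'.j t * R'.a _) = R'.b _ * R'.j t' * R'.a _
  have hm : Mem i pp pm ((GaPts.ptOfElt s ≫ pp) * (Y ≫ pm)) := by
    have h1 := (mem_mul Y' t' (GaPts.ptOfElt (Red.gaFn Z' - Red.gaFn Z)) (i := i) (pp := pp) (pm := pm)).mul_torus_root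
      hcell H.hpp t⁻¹ 1
    rw [MonObj.one_comp, _root_.mul_one, GrpObj.inv_comp] at h1
    have h2 : (Y' ≫ pm) * (t' ≫ i) * (GaPts.ptOfElt (Red.gaFn Z' - Red.gaFn Z) ≫ pp) * (t ≫ i)⁻¹ =
        (GaPts.ptOfElt s ≫ pp) * (Y ≫ pm) := by
      rw [pm_eq H Y', pm_eq H Y]
      show R.b _ * R.j t' * R.a _ * (R.j t)⁻¹ = R.a s * R.b _
      rw [sub_eq_add_neg, R.a_add, R.a_neg, ← _root_.mul_assoc, ← e]
      group
    rwa [h2] at h1
  have hu := isUnit_of_mem H hcell hcomm _ _ hm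
  rw [GaPts.gaFn_ptOfElt] at hu
  obtain ⟨u, hu⟩ := hu
  rw [rel_a_mul_cell R s _ _ u hu] at e
  rw [rel_a_mul_cell R' s _ _ u hu]
  let Z₀ : Γ(X.left, ⊤) := Units.val (R.χ t)⁻¹ * (s * Units.val u⁻¹) + Red.gaFn Z
  have e' : (GaPts.ptOfElt (Red.gaFn Y * Units.val u⁻¹ : Γ(X.left, ⊤)) ≫ pm) * (((GmPts.ptOfUnit u ≫ av) * t) ≫ i) *
      (GaPts.ptOfElt (Z₀ : Γ(X.left, ⊤)) ≫ pp) =
      (GaPts.ptOfElt (Red.gaFn Y') ≫ pm) * (t' ≫ i) * (GaPts.ptOfElt (Red.gaFn Z') ≫ pp) := by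
    rw [MonObj.mul_comp, Category.assoc]
    exact e
  obtain ⟨h1, h2, h3⟩ := decomp_unique e'
  show (GaPts.ptOfElt (Red.gaFn Y * Units.val u⁻¹ : Γ(X.left, ⊤)) ≫ fb) * ((GmPts.ptOfUnit u ≫ av ≫ fT) * (t ≫ fT)) *
      (GaPts.ptOfElt Z₀ ≫ fa) =
      (GaPts.ptOfElt (Red.gaFn Y') ≫ fb) * (t' ≫ fT) * (GaPts.ptOfElt (Red.gaFn Z') ≫ fa)
  rw [← Category.assoc, ← MonObj.mul_comp, h1, h2, h3]

include H H' in
/-- The morphism defined on the translates of the big cell. -/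
theorem exists_on_translates (hG : Red.IsReductive G) (hcell : IsOpenImmersion (cell i pp pm).left)
    (hcomm : ∀ {X : Over S} (a b : X ⟶ T), a * b = b * a) :
    ∃ f : G ⟶ Gr, translates i pp pm ≫ f = translates fT fa fb := by
  let tr := translates i pp pm
  obtain ⟨h1, h2⟩ := translates_props hG hcell
  haveI := h1
  haveI := h2
  haveI := translates_surjective H hG hcell
  haveI : EffectiveEpi tr.left := inferInstance
  let φ := translates fT fa fb
  let f : G.left ⟶ Gr.left := EffectiveEpi.desc tr.left φ.left fun {W} a b hab => by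
    let X : Over S := Over.mk (a ≫ (Red.Ga S ⊗ ((Red.Ga S ⊗ T) ⊗ Red.Ga S)).hom)
    let a' : X ⟶ Red.Ga S ⊗ ((Red.Ga S ⊗ T) ⊗ Red.Ga S) := Over.homMk a rfl
    let b' : X ⟶ Red.Ga S ⊗ ((Red.Ga S ⊗ T) ⊗ Red.Ga S) := Over.homMk b (by
      show b ≫ _ = a ≫ _
      rw [← Over.w tr, reassoc_of% hab])
    exact congrArg CommaMorphism.left
      (translates_compat H H' hcell hcomm a' b' (Over.OverMorphism.ext hab))
  have hf : tr.left ≫ f = φ.left := EffectiveEpi.fac _ _ _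
  exact ⟨Over.homMk f (by rw [← cancel_epi tr.left, reassoc_of% hf, Over.w, Over.w]),
    Over.OverMorphism.ext hf⟩

/-- Locally some translate moves the product of three root elements into the big cell. -/
theorem exists_shift {R : Type u} [CommRing R] {j : Spec (CommRingCat.of R) ⟶ S}
    (y r Y : Sp j R ⟶ Red.Ga S) :
    ∃ (X' : Over S) (c : X' ⟶ Sp j R) (q : Γ(X'.left, ⊤)) (u v : (Γ(X'.left, ⊤))ˣ), Epi c ∧
      (u : Γ(X'.left, ⊤)) = 1 - q * Red.gaFn (c ≫ y) ∧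
      (v : Γ(X'.left, ⊤)) = (1 + Red.gaFn (c ≫ r) * Red.gaFn (c ≫ Y)) -
        q * (Red.gaFn (c ≫ y) + Red.gaFn (c ≫ Y) + Red.gaFn (c ≫ r) * Red.gaFn (c ≫ y) * Red.gaFn (c ≫ Y)) := by
  let y₀ := gv y
  let r₀ := gv r
  let Y₀ := gv Y
  let f₁ : Polynomial R := 1 - Polynomial.X * Polynomial.C y₀
  let f₂ : Polynomial R := Polynomial.C (1 + r₀ * Y₀) - Polynomial.X * Polynomial.C (y₀ + Y₀ + r₀ * y₀ * Y₀)
  let R' := Localization.Away (f₁ * f₂)
  let h : R →ₐ[R] R' := Algebra.ofId R R'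
  let c : Sp j R' ⟶ Sp j R := mor j h
  haveI : Module.Flat (Polynomial R) R' := IsLocalization.flat R' (Submonoid.powers (f₁ * f₂))
  haveI : Module.Flat R R' := Module.Flat.trans R (Polynomial R) R'
  haveI : Flat c.left :=
    (HasRingHomProperty.Spec_iff (P := @Flat)).2 (RingHom.flat_algebraMap_iff.2 inferInstance)
  haveI : Surjective c.left := by
    refine ⟨fun p => ?_⟩
    let p' : Ideal R := PrimeSpectrum.asIdeal p
    haveI : p'.IsPrime := PrimeSpectrum.isPrime p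
    let Q : PrimeSpectrum (Polynomial R) := ⟨p'.map Polynomial.C, Ideal.isPrime_map_C_of_isPrime⟩
    have hmem : Q ∈ (PrimeSpectrum.basicOpen (f₁ * f₂) : Set (PrimeSpectrum (Polynomial R))) := by
      show f₁ * f₂ ∉ p'.map Polynomial.C
      intro hf
      have hone : (1 : R) ∉ p' := fun h => Ideal.IsPrime.ne_top inferInstance ((Ideal.eq_top_iff_one _).2 h)
      rcases (Ideal.isPrime_map_C_of_isPrime (P := p')).mem_or_mem hf with h1 | h1
      · have h2 := Ideal.mem_map_C_iff.1 h1 0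
        simp [f₁] at h2
        exact hone h2
      · have h2 := Ideal.mem_map_C_iff.1 h1 0
        have h3 := Ideal.mem_map_C_iff.1 h1 1
        simp only [f₂, Polynomial.coeff_sub, Polynomial.coeff_C_zero, Polynomial.coeff_X_mul_zero, sub_zero] at h2
        simp only [f₂, Polynomial.coeff_sub, Polynomial.coeff_C_succ, Polynomial.coeff_X_mul,
          Polynomial.coeff_C_zero, zero_sub, Ideal.neg_mem_iff] at h3
        have hY : Y₀ ∈ p' := by
          rw [show Y₀ = y₀ + Y₀ + r₀ * y₀ * Y₀ - y₀ * (1 + r₀ * Y₀) by ring]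
          exact p'.sub_mem h3 (p'.mul_mem_left _ h2)
        exact hone (by
          rw [show (1 : R) = 1 + r₀ * Y₀ - r₀ * Y₀ by ring]
          exact p'.sub_mem h2 (p'.mul_mem_left _ hY))
    rw [← PrimeSpectrum.localization_away_comap_range R' (f₁ * f₂)] at hmem
    obtain ⟨P, hP⟩ := hmem
    refine ⟨P, PrimeSpectrum.ext ?_⟩
    show P.asIdeal.comap (algebraMap R R') = p'
    rw [IsScalarTower.algebraMap_eq R (Polynomial R) R', ← Ideal.comap_comap]
    rw [show P.asIdeal.comap (algebraMap (Polynomial R) R') = p'.map Polynomial.C from congrArg PrimeSpectrum.asIdeal hP]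
    ext x
    simp only [Ideal.mem_comap, Ideal.mem_map_C_iff, Polynomial.algebraMap_eq]
    refine ⟨fun hx => by simpa using hx 0, fun hx n => ?_⟩
    rw [Polynomial.coeff_C]
    split
    · exact hx
    · exact zero_mem _
  haveI : QuasiCompact c.left := inferInstanceAs (QuasiCompact (Spec.map _))
  haveI : Epi c.left := inferInstance
  let g := algebraMap (Polynomial R) R'
  have hg : IsUnit (g f₁ * g f₂) := by
    rw [← map_mul]; exact IsLocalization.Away.algebraMap_isUnit _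
  obtain ⟨⟨u, hu⟩, ⟨v, hv⟩⟩ := IsUnit.mul_iff.1 hg
  let e : R' →+* Γ((Sp j R').left, ⊤) := (Scheme.ΓSpecIso (CommRingCat.of R')).inv.hom
  have hx : ∀ x : Sp j R ⟶ Red.Ga S, Red.gaFn (c ≫ x) = e (g (Polynomial.C (gv x))) := fun x => by
    conv_lhs => rw [← gp_gv x, mor_gp, gaFn_gp]
    exact congrArg e (IsScalarTower.algebraMap_apply R (Polynomial R) R' (gv x))
  refine ⟨_, c, e (g Polynomial.X), Units.map e.toMonoidHom u, Units.map e.toMonoidHom v,
    Over.epi_of_epi_left c, ?_, ?_⟩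
  · rw [hx]
    show e (u : R') = _
    rw [hu, ← map_mul e, ← map_mul g, ← map_one e, ← map_sub e, ← map_one g, ← map_sub g]
  · rw [hx, hx, hx]
    show e (v : R') = _
    rw [hv]
    simp only [f₂, map_add, map_sub, map_mul, map_one]
    rfl

include H H' in
/-- Existence of the homomorphism with given values on the torus and the two root groups. -/
theorem exists_hom (hG : Red.IsReductive G) (hcell : IsOpenImmersion (cell i pp pm).left)
    (hcomm : ∀ {X : Over S} (a b : X ⟶ T), a * b = b * a) :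
    ∃ f : G ⟶ Gr, IsMonHom f ∧ i ≫ f = fT ∧ pp ≫ f = fa ∧ pm ≫ f = fb := by
  have := hcell
  obtain ⟨f, hf⟩ := exists_on_translates H H' hG hcell hcomm
  have hval : ∀ {X : Over S} (r Y Z : X ⟶ Red.Ga S) (t : X ⟶ T),
      ((r ≫ pp) * ((Y ≫ pm) * (t ≫ i) * (Z ≫ pp))) ≫ f = (r ≫ fa) * ((Y ≫ fb) * (t ≫ fT) * (Z ≫ fa)) :=
    fun r Y Z t => by rw [← lift_translates, Category.assoc, hf, lift_translates]
  have hT : ∀ {X : Over S} (t : X ⟶ T), (t ≫ i) ≫ f = t ≫ fT := fun t => by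
    simpa only [MonObj.one_comp, _root_.one_mul, _root_.mul_one] using hval 1 1 1 t
  have ha : ∀ {X : Over S} (r : X ⟶ Red.Ga S), (r ≫ pp) ≫ f = r ≫ fa := fun r => by
    simpa only [MonObj.one_comp, _root_.one_mul, _root_.mul_one] using hval r 1 1 1
  have hb : ∀ {X : Over S} (y : X ⟶ Red.Ga S), (y ≫ pm) ≫ f = y ≫ fb := fun y => by
    simpa only [MonObj.one_comp, _root_.one_mul, _root_.mul_one] using hval 1 y 1 1
  have hloc : ∀ {X : Over S} (z : X ⟶ G), ∃ (X' : Over S) (c : X' ⟶ X) (r Y Z : X' ⟶ Red.Ga S) (t : X' ⟶ T),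
      Epi c ∧ c ≫ z = (r ≫ pp) * ((Y ≫ pm) * (t ≫ i) * (Z ≫ pp)) := by
    intro X z
    let tr := translates i pp pm
    obtain ⟨h1, h2⟩ := translates_props hG hcell
    haveI : Flat tr.left := h1
    haveI : LocallyOfFinitePresentation tr.left := h2
    haveI : Surjective tr.left := translates_surjective H hG hcell
    let X' : Over S := Over.mk (pullback.fst z.left tr.left ≫ X.hom)
    let c : X' ⟶ X := Over.homMk (pullback.fst z.left tr.left) rfl
    let a : X' ⟶ _ := Over.homMk (pullback.snd z.left tr.left) (by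
      show _ = pullback.fst z.left tr.left ≫ X.hom
      rw [← Over.w z, pullback.condition_assoc, Over.w tr])
    haveI : Epi c.left := inferInstanceAs (Epi (pullback.fst z.left tr.left))
    have he : c ≫ z = a ≫ tr := Over.OverMorphism.ext pullback.condition
    rw [eq_lift_coords a, lift_translates] at he
    exact ⟨_, c, _, _, _, _, Over.epi_of_epi_left c, he⟩
  let Good : ∀ {X : Over S}, (X ⟶ G) → Prop := fun {X} k =>
    ∀ (X' : Over S) (g : X' ⟶ X) (z : X' ⟶ G), ((g ≫ k) * z) ≫ f = (g ≫ k ≫ f) * (z ≫ f)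
  have hmul : ∀ {X : Over S} (k k' : X ⟶ G), Good k → Good k' → Good (k * k') := by
    intro X k k' hk hk' X' g z
    rw [MonObj.comp_mul, _root_.mul_assoc, hk X' g, hk' X' g, ← Category.assoc g (k * k') f, MonObj.comp_mul,
      hk X' g (g ≫ k'), Category.assoc g k' f, _root_.mul_assoc]
  have hlocal : ∀ {X : Over S} (k : X ⟶ G), (∀ (X' : Over S) (g : X' ⟶ X) (r Y Z : X' ⟶ Red.Ga S) (t : X' ⟶ T),
      ((g ≫ k) * ((r ≫ pp) * ((Y ≫ pm) * (t ≫ i) * (Z ≫ pp)))) ≫ f =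
        (g ≫ k ≫ f) * ((r ≫ fa) * ((Y ≫ fb) * (t ≫ fT) * (Z ≫ fa)))) → Good k := by
    intro X k hk X' g z
    obtain ⟨X'', c, r, Y, Z, t, hc, he⟩ := hloc z
    rw [← cancel_epi c, MonObj.comp_mul, ← Category.assoc c _ f, MonObj.comp_mul, ← Category.assoc c g,
      ← Category.assoc c g, ← Category.assoc c z f, he, hval]
    exact hk _ _ r Y Z t
  have gA : ∀ {X : Over S} (s : X ⟶ Red.Ga S), Good (s ≫ pp) := by
    intro X s
    refine hlocal _ fun X' g r Y Z t => ?_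
    rw [ha, ← Category.assoc, ← _root_.mul_assoc, ← MonObj.mul_comp, hval, MonObj.mul_comp, _root_.mul_assoc,
      Category.assoc]
  have gT : ∀ {X : Over S} (t' : X ⟶ T), Good (t' ≫ i) := by
    intro X t'
    refine hlocal _ fun X' g r Y Z t => ?_
    rw [hT, ← Category.assoc g t' i, ← Category.assoc g t' fT]
    generalize g ≫ t' = s
    let R := rel H X'
    let R' := rel H' X'
    rw [pp_eq H r, pm_eq H Y, pp_eq H Z, pp_eq H' r, pm_eq H' Y, pp_eq H' Z]
    show (R.j s * (R.a _ * (R.b _ * R.j t * R.a _))) ≫ f = R'.j s * (R'.a _ * (R'.b _ * R'.j t * R'.a _))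
    rw [← _root_.mul_assoc, rel_j_mul_a, ← _root_.mul_assoc (R'.j s), rel_j_mul_a, _root_.mul_assoc (R.a _),
      _root_.mul_assoc (R'.a _), ← _root_.mul_assoc (R.j s), ← _root_.mul_assoc (R'.j s), ← _root_.mul_assoc (R.j s),
      ← _root_.mul_assoc (R'.j s), rel_j_mul_b, rel_j_mul_b, _root_.mul_assoc (R.b _) (R.j s),
      _root_.mul_assoc (R'.b _) (R'.j s)]
    show ((_ ≫ pp) * ((_ ≫ pm) * ((s ≫ i) * (t ≫ i)) * (_ ≫ pp))) ≫ f = (_ ≫ fa) * ((_ ≫ fb) * ((s ≫ fT) * (t ≫ fT)) * (_ ≫ fa))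
    rw [← MonObj.mul_comp, ← MonObj.mul_comp, hval]
    rfl
  have gB : ∀ {X : Over S} (y : X ⟶ Red.Ga S), Good (y ≫ pm) := by
    intro X y
    refine hlocal _ fun X' g r Y Z t => ?_
    rw [hb, ← Category.assoc g y pm, ← Category.assoc g y fb]
    generalize g ≫ y = y'
    refine hom_ext_affine fun A _ j p => ?_
    rw [← cancel_epi (self j).hom, ← Category.assoc _ p, ← Category.assoc _ p]
    generalize (self j).hom ≫ p = p'
    simp only [← Category.assoc p' _ f, MonObj.comp_mul, ← Category.assoc p' _ pp, ← Category.assoc p' _ pm,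
      ← Category.assoc p' _ i, ← Category.assoc p' _ fa, ← Category.assoc p' _ fb, ← Category.assoc p' _ fT]
    generalize p' ≫ y' = y, p' ≫ r = r, p' ≫ Y = Y, p' ≫ Z = Z, p' ≫ t = t
    obtain ⟨X'', c, q, u, v, hc, hu, hv⟩ := exists_shift y r Y
    rw [← cancel_epi c]
    simp only [← Category.assoc c _ f, MonObj.comp_mul, ← Category.assoc c _ pp, ← Category.assoc c _ pm,
      ← Category.assoc c _ i, ← Category.assoc c _ fa, ← Category.assoc c _ fb, ← Category.assoc c _ fT]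
    generalize c ≫ y = y, c ≫ r = r, c ≫ Y = Y, c ≫ Z = Z, c ≫ t = t at hu hv ⊢
    let R := rel H X''
    let R' := rel H' X''
    rw [pp_eq H r, pm_eq H Y, pm_eq H y, pp_eq H Z, pp_eq H' r, pm_eq H' Y, pm_eq H' y, pp_eq H' Z]
    show (R.b _ * (R.a _ * (R.b _ * R.j t * R.a _))) ≫ f = R'.b _ * (R'.a _ * (R'.b _ * R'.j t * R'.a _))
    rw [show ∀ (a b c d e : X'' ⟶ G), a * (b * (c * d * e)) = (a * b * c) * d * e from fun a b c d e => by group,
      show ∀ (a b c d e : X'' ⟶ Gr), a * (b * (c * d * e)) = (a * b * c) * d * e from fun a b c d e => by group,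
      rel_b_a_b R q _ _ _ u v hu hv, rel_b_a_b R' q _ _ _ u v hu hv,
      show ∀ (a b c d x z : X'' ⟶ G), a * (b * c * d) * x * z = a * (b * c * (d * x) * z) from fun a b c d x z => by group,
      show ∀ (a b c d x z : X'' ⟶ Gr), a * (b * c * d) * x * z = a * (b * c * (d * x) * z) from fun a b c d x z => by group,
      rel_a_mul_j, rel_a_mul_j,
      show ∀ (a b c d x z : X'' ⟶ G), a * (b * c * (d * x) * z) = a * (b * (c * d) * (x * z)) from fun a b c d x z => by group,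
      show ∀ (a b c d x z : X'' ⟶ Gr), a * (b * c * (d * x) * z) = a * (b * (c * d) * (x * z)) from fun a b c d x z => by group,
      ← R.a_add, ← R'.a_add]
    show ((_ ≫ pp) * ((_ ≫ pm) * ((_ ≫ av ≫ i) * (t ≫ i)) * (_ ≫ pp))) ≫ f =
      (_ ≫ fa) * ((_ ≫ fb) * ((_ ≫ av ≫ fT) * (t ≫ fT)) * (_ ≫ fa))
    rw [← Category.assoc _ av i, ← Category.assoc _ av fT, ← MonObj.mul_comp, ← MonObj.mul_comp, hval]
    rfl
  have gall : ∀ {X : Over S} (k : X ⟶ G), Good k := by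
    intro X k X' g z
    obtain ⟨X'', c, r, Y, Z, t, hc, he⟩ := hloc (g ≫ k)
    have hg := hmul _ _ (gA r) (hmul _ _ (hmul _ _ (gB Y) (gT t)) (gA Z)) X'' (𝟙 _) (c ≫ z)
    rw [Category.id_comp, Category.id_comp, ← he] at hg
    rw [← cancel_epi c, MonObj.comp_mul, ← Category.assoc g k f, ← Category.assoc c _ f, MonObj.comp_mul,
      ← Category.assoc c _ f, ← Category.assoc c _ f]
    exact hg
  refine ⟨f, Groth.L25.Bridge.isMonHom_of_mul f fun Y a b => ?_, ?_, ?_, ?_⟩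
  · simpa only [Category.id_comp] using gall a Y (𝟙 _) b
  · simpa using hT (𝟙 T)
  · simpa using ha (𝟙 (Red.Ga S))
  · simpa using hb (𝟙 (Red.Ga S))

end Groth.L14.RankOne
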