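import Groth.Agent.L14.RankOne.MapCell

/-!
Homomorphisms of rank one systems of degree one.
-/

set_option autoImplicit false
universe u

open CategoryTheory CategoryTheory.Limits MonoidalCategory CartesianMonoidalCategory MonObj AlgebraicGeometry
open Groth.L25 Groth.L25.RankOne

set_option backward.isDefEq.respectTransparency.types false
set_option synthInstance.maxHeartbeats 100000
set_option maxHeartbeats 1000000

noncomputable section

namespace Groth.L14.RankOne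

variable {S : Scheme.{u}} {G T G' T' : Over S} [GrpObj G] [GrpObj T] [GrpObj G'] [GrpObj T']
  {i : T ⟶ G} [IsMonHom i] {α : T ⟶ Red.Gm S} [IsMonHom α]
  {pp pm : Red.Ga S ⟶ G} [IsMonHom pp] [IsMonHom pm] {av : Red.Gm S ⟶ T} [IsMonHom av]
  {i' : T' ⟶ G'} [IsMonHom i'] {α' : T' ⟶ Red.Gm S} [IsMonHom α']
  {pp' pm' : Red.Ga S ⟶ G'} [IsMonHom pp'] [IsMonHom pm'] {av' : Red.Gm S ⟶ T'} [IsMonHom av']
  {f : G ⟶ G'} [IsMonHom f] {fT : T ⟶ T'} [IsMonHom fT]

/-- The action on the two root groups. -/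
theorem root_maps (H : Sys i α pp pm av) (H' : Sys i' α' pp' pm' av') (hT' : Red.IsTorus T')
    (hcell' : IsOpenImmersion (cell i' pp' pm').left) (hav : av ≫ fT = av') (hT : i ≫ f = fT ≫ i')
    (c : 𝟙_ (Over S) ⟶ Red.Gm S)
    (hf : ∀ (X : Over S) (x y : X ⟶ Red.Ga S), Red.gaFn y = Red.gmFn (toUnit X ≫ c) * Red.gaFn x →
      (x ≫ pp) ≫ f = y ≫ pp') :
    pp ≫ f = scaleLine c ≫ pp' ∧ pm ≫ f = scaleLine c⁻¹ ≫ pm' := by
  have hi : OnCoroot i av i' av' f 1 := fun X z => by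
    rw [pow_one, Category.assoc, Category.assoc, hT, ← Category.assoc av fT i', hav, ← Category.assoc]
  have hm : OnRoot pp pp' f 1 (gaOf c) := fun X x y hy => hf X x y (by rw [hy, gaFn_gaOf, pow_one])
  obtain ⟨n, hn⟩ := exists_onRoot_neg H H' hT' hcell' hi
  have e := OnRoot.mul_eq_one H H' hcell' Nat.one_pos (fun X a b => by rw [pow_one, pow_one, pow_one]) hm hn hi
  refine ⟨?_, ?_⟩
  · have h := hf (Red.Ga S) (𝟙 _) (scaleLine c) (by
      rw [← Category.id_comp (scaleLine c), gaFn_scaleLine])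
    rwa [Category.id_comp] at h
  · have h := hn (Red.Ga S) (𝟙 _) (scaleLine c⁻¹) (by
      rw [← Category.id_comp (scaleLine c⁻¹), gaFn_scaleLine, pow_one]
      congr 1
      have e' := congrArg (toUnit (Red.Ga S)).left.appTop e
      rw [map_mul, map_one, ← GaPts.gaFn_comp, ← GaPts.gaFn_comp, gaFn_gaOf] at e'
      have h1 : Red.gmFn (toUnit (Red.Ga S) ≫ c) * Red.gmFn (toUnit (Red.Ga S) ≫ c⁻¹) = 1 := by
        rw [← GmPts.gmFn_mul, ← MonObj.comp_mul, mul_inv_cancel, MonObj.comp_one, GmPts.gmFn_one]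
      linear_combination Red.gaFn (toUnit (Red.Ga S) ≫ n) * h1 - Red.gmFn (toUnit (Red.Ga S) ≫ c⁻¹) * e')
    rwa [Category.id_comp] at h

/-- A central isogeny of degree one on the root groups. -/
theorem faithfullyFlat_of_torus (H : Sys i α pp pm av) (H' : Sys i' α' pp' pm' av') [Mono i]
    (hG : Red.IsReductive G) (hG' : Red.IsReductive G') (hT' : Red.IsTorus T')
    (hcell : IsOpenImmersion (cell i pp pm).left) (hcell' : IsOpenImmersion (cell i' pp' pm').left)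
    (hfl : Flat fT.left) (hsu : Surjective fT.left) (hα : fT ≫ α' = α) (hav : av ≫ fT = av') (hT : i ≫ f = fT ≫ i')
    (c : 𝟙_ (Over S) ⟶ Red.Gm S)
    (hf : ∀ (X : Over S) (x y : X ⟶ Red.Ga S), Red.gaFn y = Red.gmFn (toUnit X ≫ c) * Red.gaFn x →
      (x ≫ pp) ≫ f = y ≫ pp') :
    (Flat f.left ∧ Surjective f.left ∧ QuasiCompact f.left) ∧
      ∀ (X : Over S) (g : X ⟶ G), g ≫ f = 1 → ∃ t : X ⟶ T, t ≫ i = g ∧ t ≫ fT = 1 := by
  obtain ⟨hp, hm⟩ := root_maps H H' hT' hcell' hav hT c hf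
  haveI := isIso_scaleLine c
  haveI := isIso_scaleLine (c⁻¹ : 𝟙_ (Over S) ⟶ Red.Gm S)
  haveI := isMonHom_scaleLine c
  haveI := isMonHom_scaleLine (c⁻¹ : 𝟙_ (Over S) ⟶ Red.Gm S)
  exact ⟨flat_surjective_of_cellMap H H' hG hG' hcell hcell' hfl hsu hT hp hm,
    fun X g hg => kernel_in_torus H hG hcell hcell' hα hT hp hm g hg⟩

end Groth.L14.RankOne
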