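import Groth.Agent.L14.RankOne.HomExist

/-!
The `q`-th power map between rank one systems.
-/

set_option autoImplicit false
universe u

open CategoryTheory CategoryTheory.Limits MonoidalCategory CartesianMonoidalCategory MonObj AlgebraicGeometry
open Groth.L25 Groth.L25.RankOne

set_option backward.isDefEq.respectTransparency.types false
set_option synthInstance.maxHeartbeats 100000
set_option maxHeartbeats 1000000

noncomputable section

namespace Groth.L14.RankOne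

variable {S : Scheme.{u}}

/-- The `q`-th power followed by multiplication by a point of the multiplicative group. -/
def powScale (c : 𝟙_ (Over S) ⟶ Red.Gm S) (q : ℕ) : Red.Ga S ⟶ Red.Ga S :=
  GaPts.ptOfElt (Red.gmFn (toUnit (Red.Ga S) ≫ c) * Red.gaFn (𝟙 (Red.Ga S)) ^ q)

theorem gaFn_powScale (c : 𝟙_ (Over S) ⟶ Red.Gm S) (q : ℕ) {X : Over S} (x : X ⟶ Red.Ga S) :
    Red.gaFn (x ≫ powScale c q) = Red.gmFn (toUnit X ≫ c) * Red.gaFn x ^ q := by
  rw [powScale, GaPts.gaFn_comp, GaPts.gaFn_ptOfElt, map_mul, map_pow, ← GaPts.gaFn_comp, Category.comp_id,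
    ← GmPts.gmFn_comp, ← Category.assoc, comp_toUnit]

theorem ptOfElt_powScale (c : 𝟙_ (Over S) ⟶ Red.Gm S) (q : ℕ) {X : Over S} (r : Γ(X.left, ⊤)) :
    GaPts.ptOfElt r ≫ powScale c q = GaPts.ptOfElt (Red.gmFn (toUnit X ≫ c) * r ^ q) :=
  GaPts.gaFn_injective (by
    show Red.gaFn _ = Red.gaFn _
    rw [gaFn_powScale, GaPts.gaFn_ptOfElt, GaPts.gaFn_ptOfElt])

theorem isMonHom_powScale (c : 𝟙_ (Over S) ⟶ Red.Gm S) {q : ℕ}
    (hq : ∀ (X : Over S) (a b : Γ(X.left, ⊤)), (a + b) ^ q = a ^ q + b ^ q) : IsMonHom (powScale c q) :=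
  Groth.L25.Bridge.isMonHom_of_mul (powScale c q) fun Y a b => GaPts.gaFn_injective (by
    show Red.gaFn _ = Red.gaFn _
    rw [gaFn_powScale, GaPts.gaFn_mul, GaPts.gaFn_mul, gaFn_powScale, gaFn_powScale, hq, mul_add])

theorem gmFn_const_mul_inv (c : 𝟙_ (Over S) ⟶ Red.Gm S) (X : Over S) :
    Red.gmFn (toUnit X ≫ c) * Red.gmFn (toUnit X ≫ c⁻¹) = 1 := by
  rw [← GmPts.gmFn_mul, ← MonObj.comp_mul, mul_inv_cancel, MonObj.comp_one, GmPts.gmFn_one]

variable {G T G' T' : Over S} [GrpObj G] [GrpObj T] [GrpObj G'] [GrpObj T']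
  {i : T ⟶ G} [IsMonHom i] {α : T ⟶ Red.Gm S} [IsMonHom α]
  {pp pm : Red.Ga S ⟶ G} [IsMonHom pp] [IsMonHom pm] {av : Red.Gm S ⟶ T} [IsMonHom av]
  {i' : T' ⟶ G'} [IsMonHom i'] {α' : T' ⟶ Red.Gm S} [IsMonHom α']
  {pp' pm' : Red.Ga S ⟶ G'} [IsMonHom pp'] [IsMonHom pm'] {av' : Red.Gm S ⟶ T'} [IsMonHom av']
  (H : Sys i α pp pm av) (H' : Sys i' α' pp' pm' av') {q : ℕ} {fT : T ⟶ T'} [IsMonHom fT]

include H H' in
/-- The rank one system obtained from a `q`-th power map of tori. -/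
theorem sys_pow (hq : ∀ (X : Over S) (a b : Γ(X.left, ⊤)), (a + b) ^ q = a ^ q + b ^ q)
    (c : 𝟙_ (Over S) ⟶ Red.Gm S) (hα : fT ≫ α' = α ^ q) (hav : av ≫ fT = av' ^ q) :
    Sys (fT ≫ i') α (powScale c q ≫ pp') (powScale c⁻¹ q ≫ pm') av := by
  have hχ : ∀ {X : Over S} (t : X ⟶ T), Red.gmFn ((t ≫ fT) ≫ α') = Red.gmFn (t ≫ α) ^ q := fun {X} t => by
    rw [Category.assoc, hα, MonObj.comp_pow]
    exact congrArg Units.val (map_pow (GmPts.equiv X) (t ≫ α) q)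
  refine ⟨fun X t x => ⟨GaPts.ptOfElt (Red.gmFn (t ≫ α) * Red.gaFn x), ?_, by rw [GaPts.gaFn_ptOfElt]⟩,
    fun X t y => ⟨GaPts.ptOfElt (↑(GmPts.unitOfPt (t ≫ α))⁻¹ * Red.gaFn y), ?_, ?_⟩, H.h2, fun X x y hu => ?_⟩
  · obtain ⟨x₁, h1, h2⟩ := H'.hpp X (t ≫ fT) (x ≫ powScale c q)
    rw [← Category.assoc t fT i', ← Category.assoc x _ pp', ← h1, ← Category.assoc]
    congr 1
    refine GaPts.gaFn_injective ?_
    show Red.gaFn _ = Red.gaFn _
    rw [h2, gaFn_powScale, gaFn_powScale, GaPts.gaFn_ptOfElt, hχ, mul_pow]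
    ring
  · obtain ⟨y₁, h1, h2⟩ := H'.hpm X (t ≫ fT) (y ≫ powScale c⁻¹ q)
    rw [← Category.assoc t fT i', ← Category.assoc y _ pm', ← h1, ← Category.assoc]
    congr 1
    refine GaPts.gaFn_injective ?_
    show Red.gaFn _ = Red.gaFn _
    rw [hχ, gaFn_powScale] at h2
    rw [gaFn_powScale, GaPts.gaFn_ptOfElt, mul_pow, mul_left_comm, ← h2, ← GmPts.val_unitOfPt,
      mul_left_comm, ← mul_pow, Units.inv_mul, one_pow, _root_.mul_one]
  · rw [GaPts.gaFn_ptOfElt, ← GmPts.val_unitOfPt, mul_right_comm, Units.inv_mul, _root_.one_mul]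
  · obtain ⟨u, hu'⟩ := hu
    let R' := rel H' X
    let cc := Red.gmFn (toUnit X ≫ c)
    let dd := Red.gmFn (toUnit X ≫ c⁻¹)
    have hcd : cc * dd = 1 := gmFn_const_mul_inv c X
    refine ⟨GaPts.ptOfElt (Red.gaFn x * ↑u⁻¹), GaPts.ptOfElt (Red.gaFn y * ↑u⁻¹), GmPts.ptOfUnit u, ?_, ?_, ?_, ?_⟩
    · rw [← GmPts.val_unitOfPt, GmPts.unitOfPt_ptOfUnit, hu']
    · rw [GaPts.gaFn_ptOfElt, ← GmPts.val_unitOfPt, GmPts.unitOfPt_ptOfUnit, _root_.mul_assoc, Units.inv_mul,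
        _root_.mul_one]
    · rw [GaPts.gaFn_ptOfElt, ← GmPts.val_unitOfPt, GmPts.unitOfPt_ptOfUnit, _root_.mul_assoc, Units.inv_mul,
        _root_.mul_one]
    · rw [← Category.assoc x, ← Category.assoc y, pp_eq H' (x ≫ _), pm_eq H' (y ≫ _), gaFn_powScale, gaFn_powScale,
        reassoc_of% hav, reassoc_of% ptOfElt_powScale, reassoc_of% ptOfElt_powScale,
        ← Category.assoc, MonObj.comp_pow, ← MonObj.pow_comp, ← ptOfUnit_pow, Category.assoc]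
      show R'.a (cc * _) * R'.b (dd * _) = R'.b (dd * _) * R'.h (u ^ q) * R'.a (cc * _)
      rw [R'.comm _ _ (u ^ q) (by
        rw [Units.val_pow_eq_pow_val, hu', hq, one_pow, mul_pow]
        linear_combination -(Red.gaFn x ^ q * Red.gaFn y ^ q) * hcd)]
      simp only [mul_pow, inv_pow_val, ← _root_.mul_assoc]

end Groth.L14.RankOne
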