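import Groth.Agent.L14.RankOne.PowHom2
import Groth.Agent.L02.SchDom.GeomFibre
import Groth.Agent.L21.Smooth.Scheme
import Groth.Agent.L25.Locus.FixedConn

/-!
The image of a torus centralising a power of the coroot lies in the maximal torus.
-/

set_option autoImplicit false
universe u

open CategoryTheory CategoryTheory.Limits MonoidalCategory CartesianMonoidalCategory MonObj AlgebraicGeometry
open Groth.L25 Groth.L25.RankOne

set_option backward.isDefEq.respectTransparency.types false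
set_option synthInstance.maxHeartbeats 100000
set_option maxHeartbeats 1000000

noncomputable section

namespace Groth.L14.RankOne

variable {S : Scheme.{u}} {T G' T' : Over S} [GrpObj T] [GrpObj G'] [GrpObj T']
  {i' : T' ⟶ G'} [IsMonHom i'] {α' : T' ⟶ Red.Gm S} [IsMonHom α']
  {pp' pm' : Red.Ga S ⟶ G'} [IsMonHom pp'] [IsMonHom pm'] {av' : Red.Gm S ⟶ T'} [IsMonHom av']
  {q : ℕ} (H' : Sys i' α' pp' pm' av')

include H' in
/-- The outer coordinates of an element of the big cell commuting with a power of the coroot vanish. -/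
theorem outer_eq_one (hcell : IsOpenImmersion (cell i' pp' pm').left) (hq0 : 0 < q)
    (hq : ∀ (X : Over S) (a b : Γ(X.left, ⊤)), (a + b) ^ q = a ^ q + b ^ q)
    (hcomm : ∀ {X : Over S} (a b : X ⟶ T'), a * b = b * a)
    {X : Over S} {Y Z : X ⟶ Red.Ga S} {t : X ⟶ T'}
    (h : ∀ (X' : Over S) (f : X' ⟶ X) (z : (Γ(X'.left, ⊤))ˣ),
      Commute ((rel H' X').h (z ^ q)) (f ≫ ((Y ≫ pm') * (t ≫ i') * (Z ≫ pp')))) :
    Y = 1 ∧ Z = 1 := by
  have := hcell
  suffices key : ∀ (R : Type u) [CommRing R] (j : Spec (CommRingCat.of R) ⟶ S) (s : Over.mk j ⟶ X),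
      s ≫ Y = 1 ∧ s ≫ Z = 1 by
    refine ⟨hom_ext_affine fun R _ j s => ?_, hom_ext_affine fun R _ j s => ?_⟩
    · rw [(key R j s).1, MonObj.comp_one]
    · rw [(key R j s).2, MonObj.comp_one]
  intro R _ j s
  let P : Polynomial R := Polynomial.X ^ (2 * q + 1)
  let C := AdjoinRoot P
  let ε : C := AdjoinRoot.root P
  have hε : ε ^ (2 * q + 1) = 0 := by
    show AdjoinRoot.root P ^ (2 * q + 1) = 0
    rw [← AdjoinRoot.mk_X, ← map_pow, AdjoinRoot.mk_self]
  let X' : Over S := Sp j C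
  let γ : C →+* Γ(X'.left, ⊤) := (Scheme.ΓSpecIso (CommRingCat.of C)).inv.hom
  have hγ : Function.Injective γ := fun a b hab => by
    have h1 := congrArg (fun v => (Scheme.ΓSpecIso (CommRingCat.of C)).hom v) hab
    simpa only [γ, Iso.inv_hom_id_apply] using h1
  let R₀ : Γ((Over.mk j).left, ⊤) →+* R := (Scheme.ΓSpecIso (CommRingCat.of R)).hom.hom
  let e : X' ⟶ Over.mk j := Over.homMk (Spec.map (CommRingCat.ofHom (algebraMap R C))) rfl
  have hval : ∀ v : X ⟶ Red.Ga S, Red.gaFn ((e ≫ s) ≫ v) = γ (AdjoinRoot.of P (R₀ (Red.gaFn (s ≫ v)))) := fun v => by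
    rw [Category.assoc, GaPts.gaFn_comp]
    show (Spec.map (CommRingCat.ofHom (algebraMap R C))).appTop (Red.gaFn (s ≫ v)) = _
    conv_lhs => rw [← Iso.hom_inv_id_apply (Scheme.ΓSpecIso (CommRingCat.of R)) (Red.gaFn (s ≫ v))]
    exact (congrArg (fun φ : CommRingCat.of R ⟶ _ => φ.hom (R₀ (Red.gaFn (s ≫ v))))
      (Scheme.ΓSpecIso_inv_naturality (CommRingCat.ofHom (algebraMap R C)))).symm
  let δ : Γ(X'.left, ⊤) := γ ε
  have hδ : δ ^ (2 * q + 1) = 0 := by simp only [δ, ← map_pow, hε, map_zero]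
  obtain ⟨z, hz⟩ := (IsNilpotent.isUnit_one_add ⟨_, hδ⟩ : IsUnit (1 + δ))
  let U : (Γ(X'.left, ⊤))ˣ := z ^ q
  have hU : (U : Γ(X'.left, ⊤)) = 1 + δ ^ q := by rw [Units.val_pow_eq_pow_val, hz, hq, one_pow]
  let F := e ≫ s
  have hc : (rel H' X').h U * (F ≫ ((Y ≫ pm') * (t ≫ i') * (Z ≫ pp'))) * ((rel H' X').h U)⁻¹ =
      F ≫ ((Y ≫ pm') * (t ≫ i') * (Z ≫ pp')) := by
    rw [(h X' F z).eq, mul_inv_cancel_right]
  simp only [MonObj.comp_mul, ← Category.assoc] at hc
  rw [pm_eq H', pp_eq H'] at hc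
  have ht : (rel H' X').h U * ((F ≫ t) ≫ i') * ((rel H' X').h U)⁻¹ = (F ≫ t) ≫ i' := by
    show (GmPts.ptOfUnit U ≫ av' ≫ i') * _ * (GmPts.ptOfUnit U ≫ av' ≫ i')⁻¹ = _
    rw [← Category.assoc _ av' i', ← MonObj.mul_comp, hcomm, MonObj.mul_comp, mul_inv_cancel_right]
  have hc' : (rel H' X').b (↑U⁻¹ * ↑U⁻¹ * Red.gaFn (F ≫ Y)) * ((F ≫ t) ≫ i') *
      (rel H' X').a (↑U * ↑U * Red.gaFn (F ≫ Z)) =
      (rel H' X').b (Red.gaFn (F ≫ Y)) * ((F ≫ t) ≫ i') * (rel H' X').a (Red.gaFn (F ≫ Z)) := by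
    rw [← (rel H' X').h_conj_a, ← (rel H' X').h_conj_b]
    refine Eq.trans ?_ hc
    conv_lhs => rw [← ht]
    group
  obtain ⟨hY, -, hZ⟩ := decomp_unique (y := GaPts.ptOfElt _) (x := GaPts.ptOfElt _)
    (y' := GaPts.ptOfElt _) (x' := GaPts.ptOfElt _) (t := F ≫ t) (t' := F ≫ t) hc'
  have hY' := congrArg Red.gaFn hY
  have hZ' := congrArg Red.gaFn hZ
  simp only [GaPts.gaFn_ptOfElt, F, hval] at hY' hZ'
  have main : ∀ a : R, (↑U * ↑U) * γ (AdjoinRoot.of P a) = γ (AdjoinRoot.of P a) → a = 0 := fun a ha => by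
    have e1 : γ (AdjoinRoot.of P (2 * a) * ε ^ q + AdjoinRoot.of P a * ε ^ (2 * q)) = γ 0 := by
      simp only [map_add, map_mul, map_pow, map_zero, map_ofNat]
      rw [hU] at ha
      rw [show 2 * q = q + q by omega, pow_add]
      linear_combination ha
    exact (coeff_eq_zero hq0 (hγ e1)).2
  refine ⟨GaPts.gaFn_injective ?_, GaPts.gaFn_injective ?_⟩ <;> show Red.gaFn _ = Red.gaFn _ <;>
    rw [GaPts.gaFn_one] <;>
    refine (Scheme.ΓSpecIso (CommRingCat.of R)).commRingCatIsoToRingEquiv.injective ((main _ ?_).trans (map_zero _).symm)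
  · show _ * γ (AdjoinRoot.of P (R₀ (Red.gaFn (s ≫ Y)))) = γ (AdjoinRoot.of P (R₀ (Red.gaFn (s ≫ Y))))
    have h1 : (↑U * ↑U : Γ(X'.left, ⊤)) * (↑U⁻¹ * ↑U⁻¹) = 1 := by
      linear_combination ((U : Γ(X'.left, ⊤)) * ↑U⁻¹ + 1) * U.mul_inv
    linear_combination -(↑U * ↑U : Γ(X'.left, ⊤)) * hY' + γ (AdjoinRoot.of P (R₀ (Red.gaFn (s ≫ Y)))) * h1
  · exact hZ'

/-- A homomorphism from a torus meeting the big cell only in the torus lands in the torus. -/
theorem factors_torus (hT : Red.IsTorus T) (hcell : IsOpenImmersion (cell i' pp' pm').left) [Mono i']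
    (g : T ⟶ G') [IsMonHom g]
    (hg : ∀ (X : Over S) (t : X ⟶ T) (Y Z : X ⟶ Red.Ga S) (t' : X ⟶ T'),
      t ≫ g = (Y ≫ pm') * (t' ≫ i') * (Z ≫ pp') → Y = 1 ∧ Z = 1) :
    ∃ fT : T ⟶ T', IsMonHom fT ∧ g = fT ≫ i' := by
  have := hcell
  have hstrong : ∀ (X : Over S) (t : X ⟶ T), Mem i' pp' pm' (t ≫ g) → ∃ t' : X ⟶ T', t ≫ g = t' ≫ i' := by
    intro X t hm
    obtain ⟨Y, t', Z, hd⟩ := hm.exists_decomp
    obtain ⟨rfl, rfl⟩ := hg X t Y Z t' hd
    exact ⟨t', by rw [hd, MonObj.one_comp, MonObj.one_comp, _root_.one_mul, _root_.mul_one]⟩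
  have hmem : Mem i' pp' pm' g := mem_of_fields fun K _ j x => by
    let jK := (Sp j K).hom
    have hTK : Red.IsTorus (Red.bc jK T) := Locus.isTorus_bc hT jK
    obtain ⟨hsm, hcn⟩ := Locus.smooth_connected_torus hTK
    haveI : Smooth (Red.bc jK T).hom := hsm
    haveI : ConnectedSpace (Red.bc jK T).left := hcn
    haveI : IsLocallyNoetherian (Sp j K).left := inferInstanceAs (IsLocallyNoetherian (Spec (CommRingCat.of K)))
    haveI : IsLocallyNoetherian (Red.bc jK T).left := LocallyOfFiniteType.isLocallyNoetherian (Red.bc jK T).hom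
    haveI hirr : IrreducibleSpace (Red.bc jK T).left :=
      Groth.L02.SchDom.irreducibleSpace_of_connected fun z => Groth.L21.Smooth.isDomain_stalk (Red.bc jK T).hom z
    let P : Over S := Over.mk ((Red.bc jK T).hom ≫ jK)
    let π : P ⟶ T := Over.homMk (pullback.fst T.hom jK) pullback.condition
    let σ : P ⟶ Sp j K := Over.homMk (Red.bc jK T).hom rfl
    let sec : (Sp j K ⟶ T) → (Sp j K ⟶ P) := fun a =>
      Over.homMk (pullback.lift a.left (𝟙 _) ((Over.w a).trans (Category.id_comp _).symm)) (by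
        show _ ≫ pullback.snd T.hom jK ≫ jK = _
        rw [pullback.lift_snd_assoc, Category.id_comp])
    have hsπ : ∀ a, sec a ≫ π = a := fun a => Over.OverMorphism.ext (pullback.lift_fst _ _ _)
    have hsσ : ∀ a, sec a ≫ σ = 𝟙 _ := fun a => Over.OverMorphism.ext (pullback.lift_snd _ _ _)
    let ψ : P ⟶ T := π⁻¹ * (σ ≫ x)
    let A : Set P.left := (π ≫ g).left ⁻¹' Set.range (cell i' pp' pm').left
    let B : Set P.left := (ψ ≫ g).left ⁻¹' Set.range (cell i' pp' pm').left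
    have hop : IsOpen (Set.range (cell i' pp' pm').left) := (cell i' pp' pm').left.isOpenEmbedding.isOpen_range
    let o : (Sp j K).left := IsLocalRing.closedPoint K
    have hA : (sec 1).left o ∈ A := by
      have h1 : sec 1 ≫ π ≫ g = 1 := by rw [← Category.assoc, hsπ, MonObj.one_comp]
      exact (mem_one (i := i') (pp := pp') (pm := pm')) ⟨o, congrArg (fun v : Sp j K ⟶ G' => v.left o) h1.symm⟩
    have hB : (sec x).left o ∈ B := by
      have h1 : sec x ≫ ψ ≫ g = 1 := by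
        rw [← Category.assoc, MonObj.comp_mul, GrpObj.comp_inv, hsπ, ← Category.assoc, hsσ, Category.id_comp,
          inv_mul_cancel, MonObj.one_comp]
      exact (mem_one (i := i') (pp := pp') (pm := pm')) ⟨o, congrArg (fun v : Sp j K ⟶ G' => v.left o) h1.symm⟩
    haveI : PreirreducibleSpace P.left := hirr.toPreirreducibleSpace
    obtain ⟨p, hpA, hpB⟩ := nonempty_preirreducible_inter (hop.preimage (π ≫ g).left.continuous)
      (hop.preimage (ψ ≫ g).left.continuous) ⟨_, hA⟩ ⟨_, hB⟩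
    let Y : Over S := Over.mk (P.left.fromSpecResidueField p ≫ P.hom)
    let r : Y ⟶ P := Over.homMk (P.left.fromSpecResidueField p) rfl
    have hr : ∀ (φ : P ⟶ G'), φ.left p ∈ Set.range (cell i' pp' pm').left → Mem i' pp' pm' (r ≫ φ) := by
      rintro φ hφ _ ⟨z, rfl⟩
      have hz : r.left z = p := by
        have : r.left z ∈ Set.range (P.left.fromSpecResidueField p) := ⟨z, rfl⟩
        rwa [Scheme.range_fromSpecResidueField, Set.mem_singleton_iff] at this
      show φ.left (r.left z) ∈ _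
      rw [hz]
      exact hφ
    obtain ⟨t₁, h₁⟩ := hstrong Y (r ≫ π) (by rw [Category.assoc]; exact hr _ hpA)
    obtain ⟨t₂, h₂⟩ := hstrong Y (r ≫ ψ) (by rw [Category.assoc]; exact hr _ hpB)
    haveI : Surjective (r ≫ σ).left := ⟨fun z => ⟨IsLocalRing.closedPoint (P.left.residueField p),
      Subsingleton.elim (α := PrimeSpectrum K) _ _⟩⟩
    refine Mem.of_comp (r ≫ σ) ?_
    have e : (r ≫ σ) ≫ x ≫ g = ((1 : Y ⟶ Red.Ga S) ≫ pm') * ((t₁ * t₂) ≫ i') * ((1 : Y ⟶ Red.Ga S) ≫ pp') := by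
      rw [MonObj.one_comp, MonObj.one_comp, _root_.one_mul, _root_.mul_one, MonObj.mul_comp, ← h₁, ← h₂,
        ← MonObj.mul_comp, ← MonObj.comp_mul, show π * ψ = σ ≫ x from mul_inv_cancel_left _ _]
      simp only [Category.assoc]
    rw [e]
    exact mem_mul _ _ _
  obtain ⟨fT, hfT⟩ := hstrong T (𝟙 T) (by rwa [Category.id_comp])
  rw [Category.id_comp] at hfT
  refine ⟨fT, Groth.L25.Bridge.isMonHom_of_mul fT fun W a b => ?_, hfT⟩
  rw [← cancel_mono i', Category.assoc, ← hfT, MonObj.mul_comp, MonObj.mul_comp, Category.assoc, Category.assoc, ← hfT]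

end Groth.L14.RankOne
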