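import Groth.Agent.L25.GaPts
import Groth.Agent.L11.Magnet.Dom
import Groth.Prelude.Def_GmPts
import Mathlib.RingTheory.Localization.Away.Basic

/-!
Points of the additive and multiplicative groups with values in algebras, and density of the units.
-/

set_option autoImplicit false
universe u

open CategoryTheory CategoryTheory.Limits MonoidalCategory CartesianMonoidalCategory MonObj AlgebraicGeometry
open Groth.L25

set_option backward.isDefEq.respectTransparency.types false

noncomputable section

namespace Groth.L14.RankOne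

variable {S : Scheme.{u}}

/-- Equality of morphisms is checked on points with values in rings. -/
theorem hom_ext_affine {X Y : Over S} {f g : X ⟶ Y}
    (h : ∀ (R : Type u) [CommRing R] (j : Spec (CommRingCat.of R) ⟶ S) (t : Over.mk j ⟶ X), t ≫ f = t ≫ g) :
    f = g := by
  refine Over.OverMorphism.ext (Scheme.Cover.hom_ext X.left.affineCover _ _ fun i => ?_)
  exact congrArg CommaMorphism.left
    (h _ (X.left.affineCover.f i ≫ X.hom) (Over.homMk (X.left.affineCover.f i) rfl))

variable {R : Type u} [CommRing R] (j : Spec (CommRingCat.of R) ⟶ S)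

/-- The spectrum of an algebra over `S`. -/
abbrev Sp (C : Type u) [CommRing C] [Algebra R C] : Over S :=
  Over.mk (Spec.map (CommRingCat.ofHom (algebraMap R C)) ≫ j)

variable {C D : Type u} [CommRing C] [Algebra R C] [CommRing D] [Algebra R D]

/-- The morphism of an algebra map. -/
def mor (h : C →ₐ[R] D) : Sp j D ⟶ Sp j C :=
  Over.homMk (Spec.map (CommRingCat.ofHom h.toRingHom)) (by
    simp only [Over.mk_hom]
    rw [← Spec.map_comp_assoc, ← CommRingCat.ofHom_comp, AlgHom.toRingHom_eq_coe, AlgHom.comp_algebraMap])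

theorem mor_comp {E : Type u} [CommRing E] [Algebra R E] (h : C →ₐ[R] D) (h' : D →ₐ[R] E) :
    mor j (h'.comp h) = mor j h' ≫ mor j h := by
  apply Over.OverMorphism.ext
  show Spec.map _ = Spec.map _ ≫ Spec.map _
  rw [← Spec.map_comp]
  rfl

/-- The canonical isomorphism of the base with the spectrum of the trivial algebra. -/
def self : Sp j R ≅ Over.mk j := Over.isoMk (Iso.refl _) (by simp)

theorem mor_appTop (h : C →ₐ[R] D) (c : C) :
    (mor j h).left.appTop ((Scheme.ΓSpecIso (CommRingCat.of C)).inv c) =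
      (Scheme.ΓSpecIso (CommRingCat.of D)).inv (h c) :=
  (congrArg (fun φ => φ.hom c) (Scheme.ΓSpecIso_inv_naturality (CommRingCat.ofHom h.toRingHom))).symm

/-- The point of the additive group of an element. -/
def gp (c : C) : Sp j C ⟶ Red.Ga S := GaPts.ptOfElt ((Scheme.ΓSpecIso (CommRingCat.of C)).inv c)

variable {j}

/-- The element of a point of the additive group. -/
def gv (x : Sp j C ⟶ Red.Ga S) : C := (Scheme.ΓSpecIso (CommRingCat.of C)).hom (Red.gaFn x)

theorem gaFn_gp (c : C) : Red.gaFn (gp j c) = (Scheme.ΓSpecIso (CommRingCat.of C)).inv c := GaPts.gaFn_ptOfElt _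

theorem gv_gp (c : C) : gv (gp j c) = c := by
  rw [gv, gaFn_gp, Iso.inv_hom_id_apply]

theorem gp_gv (x : Sp j C ⟶ Red.Ga S) : gp j (gv x) = x := by
  rw [gp, gv, Iso.hom_inv_id_apply, GaPts.ptOfElt_gaFn]

theorem mor_gp (h : C →ₐ[R] D) (c : C) : mor j h ≫ gp j c = gp j (h c) := by
  rw [gp, GaPts.ptOfElt_comp, mor_appTop]
  rfl

theorem gp_add (a b : C) : gp j (a + b) = gp j a * gp j b := by
  refine GaPts.gaFn_injective ?_
  simp only [GaPts.gaFn_mul, gaFn_gp, map_add]

theorem gp_zero : gp j (0 : C) = 1 := by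
  refine GaPts.gaFn_injective ?_
  simp only [GaPts.gaFn_one, gaFn_gp, map_zero]

theorem gp_neg (a : C) : gp j (-a) = (gp j a)⁻¹ := by
  refine GaPts.gaFn_injective ?_
  simp only [GaPts.gaFn_inv, gaFn_gp, map_neg]

variable (j) in
/-- The point of the multiplicative group of a unit. -/
def up (c : Cˣ) : Sp j C ⟶ Red.Gm S :=
  GmPts.ptOfUnit (Units.map (Scheme.ΓSpecIso (CommRingCat.of C)).inv.hom.toMonoidHom c)

/-- The unit of a point of the multiplicative group. -/
def uv (t : Sp j C ⟶ Red.Gm S) : Cˣ :=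
  Units.map (Scheme.ΓSpecIso (CommRingCat.of C)).hom.hom.toMonoidHom (GmPts.unitOfPt t)

theorem uv_up (c : Cˣ) : uv (up j c) = c := by
  ext
  rw [uv, up, GmPts.unitOfPt_ptOfUnit]
  exact Iso.inv_hom_id_apply (Scheme.ΓSpecIso (CommRingCat.of C)) (c : C)

theorem up_uv (t : Sp j C ⟶ Red.Gm S) : up j (uv t) = t := by
  refine Eq.trans (congrArg GmPts.ptOfUnit ?_) (GmPts.ptOfUnit_unitOfPt t)
  ext
  exact Iso.hom_inv_id_apply (Scheme.ΓSpecIso (CommRingCat.of C)) _

theorem up_mul (a b : Cˣ) : up j (a * b) = up j a * up j b := by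
  rw [up, map_mul, GmPts.ptOfUnit_mul]
  rfl

theorem up_one : up j (1 : Cˣ) = 1 := by rw [up, map_one, GmPts.ptOfUnit_one]

theorem mor_up (h : C →ₐ[R] D) (c : Cˣ) : mor j h ≫ up j c = up j (Units.map h.toRingHom.toMonoidHom c) := by
  refine GmPts.gmFn_injective ?_
  show Red.gmFn _ = Red.gmFn _
  rw [← GmPts.val_unitOfPt, ← GmPts.val_unitOfPt, GmPts.unitOfPt_comp, up, up, GmPts.unitOfPt_ptOfUnit,
    GmPts.unitOfPt_ptOfUnit]
  exact mor_appTop j h c

theorem gmFn_up (c : Cˣ) : Red.gmFn (up j c) = (Scheme.ΓSpecIso (CommRingCat.of C)).inv (c : C) := by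
  rw [up, ← GmPts.val_unitOfPt, GmPts.unitOfPt_ptOfUnit]
  rfl

theorem val_uv (t : Sp j C ⟶ Red.Gm S) :
    (uv t : C) = (Scheme.ΓSpecIso (CommRingCat.of C)).hom (Red.gmFn t) := rfl

/-- Two morphisms from the affine line to a separated scheme agreeing at unit points agree. -/
theorem line_ext {Y : Over S} [IsSeparated Y.hom] {f g : Red.Ga S ⟶ Y}
    (h : ∀ (R : Type u) [CommRing R] (j : Spec (CommRingCat.of R) ⟶ S) (C : Type u) [CommRing C] [Algebra R C]
      (c : Cˣ), gp j (c : C) ≫ f = gp j (c : C) ≫ g) : f = g := by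
  refine hom_ext_affine fun R _ j t => ?_
  let P := Polynomial R
  let L := Localization.Away (Polynomial.X : P)
  let c : R := gv ((self j).hom ≫ t)
  have ht : mor j (Polynomial.aeval c : P →ₐ[R] R) ≫ gp j (Polynomial.X : P) = (self j).hom ≫ t := by
    rw [mor_gp, Polynomial.aeval_X, gp_gv]
  have key : gp j (Polynomial.X : P) ≫ f = gp j (Polynomial.X : P) ≫ g := by
    let inc : P →ₐ[R] L := IsScalarTower.toAlgHom R P L
    have hinc : Function.Injective inc.toRingHom :=
      IsLocalization.injective L (M := Submonoid.powers (Polynomial.X : P))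
        ((Submonoid.powers_le).2 Polynomial.monic_X.mem_nonZeroDivisors)
    have hu : IsUnit (inc Polynomial.X) := IsLocalization.Away.algebraMap_isUnit (Polynomial.X : P)
    have hL : mor j inc ≫ gp j (Polynomial.X : P) ≫ f = mor j inc ≫ gp j (Polynomial.X : P) ≫ g := by
      rw [← Category.assoc, ← Category.assoc, mor_gp]
      exact h R j L hu.unit
    apply Over.OverMorphism.ext
    exact Groth.L11.Magnet.eq_of_dominant inc.toRingHom hinc Y.hom _ _
      ((Over.w (gp j (Polynomial.X : P) ≫ f)).trans (Over.w (gp j (Polynomial.X : P) ≫ g)).symm)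
      (congrArg CommaMorphism.left hL)
  have h' := congrArg (fun z => mor j (Polynomial.aeval c : P →ₐ[R] R) ≫ z) key
  simp only [reassoc_of% ht, cancel_epi] at h'
  exact h'

end Groth.L14.RankOne
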