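import Groth.Agent.L14.RankOne.Dec
import Mathlib.Algebra.DualNumber

/-!
The slice of the commutation datum: the differential equation satisfied by its first coordinate.
-/

set_option autoImplicit false
universe u

open CategoryTheory CategoryTheory.Limits MonoidalCategory CartesianMonoidalCategory MonObj AlgebraicGeometry
open Groth.L25

set_option backward.isDefEq.respectTransparency.types false

noncomputable section

namespace Groth.L14.RankOne

open DualNumber TrivSqZeroExt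

variable {S : Scheme.{u}} {G T : Over S} [GrpObj G] [GrpObj T] {i : T ⟶ G} [IsMonHom i] {α : T ⟶ Red.Gm S}
  [IsMonHom α] {pp pm : Red.Ga S ⟶ G} [IsMonHom pp] [IsMonHom pm]

variable {R : Type u} [CommRing R] {j : Spec (CommRingCat.of R) ⟶ S}
  {C D : Type u} [CommRing C] [Algebra R C] [CommRing D] [Algebra R D]

variable (i pp pm j) in
/-- A decomposition in coordinates. -/
def DecC (x y Y : C) (t : Sp j C ⟶ T) (Z : C) : Prop :=
  Dec i pp pm (gp j x) (gp j y) (gp j Y) t (gp j Z)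

variable (i pp pm j) in
/-- The product of two root elements lies in the big cell. -/
def MemC (x y : C) : Prop := Mem i pp pm (com pp pm (gp j x) (gp j y))

variable (α) in
/-- The value of the root at a point of the torus. -/
def chi (t : Sp j C ⟶ T) : Cˣ := uv (t ≫ α)

theorem chi_mul (t t' : Sp j C ⟶ T) : chi α (t * t') = chi α t * chi α t' := by
  rw [chi, MonObj.mul_comp, uv, GmPts.unitOfPt_mul, map_mul]
  rfl

theorem chi_one : chi α (1 : Sp j C ⟶ T) = 1 := by
  rw [chi, MonObj.one_comp, uv, GmPts.unitOfPt_one, map_one]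

theorem chi_mor (h : C →ₐ[R] D) (t : Sp j C ⟶ T) :
    chi α (mor j h ≫ t) = Units.map h.toRingHom.toMonoidHom (chi α t) := by
  refine (congrArg uv ((Category.assoc _ _ _).trans ?_)).trans (uv_up _)
  rw [← mor_up, chi, up_uv]

theorem gmFn_chi (t : Sp j C ⟶ T) :
    Red.gmFn (t ≫ α) = (Scheme.ΓSpecIso (CommRingCat.of C)).inv (chi α t : C) := by
  rw [← gmFn_up (j := j), chi, up_uv]

theorem gp_injective : Function.Injective (gp j : C → (Sp j C ⟶ Red.Ga S)) :=
  Function.LeftInverse.injective gv_gp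

theorem DecC.map (h : C →ₐ[R] D) {x y Y Z : C} {t : Sp j C ⟶ T} (hd : DecC i pp pm j x y Y t Z) :
    DecC i pp pm j (h x) (h y) (h Y) (mor j h ≫ t) (h Z) := by
  have := Dec.comp (mor j h) hd
  simp only [mor_gp] at this
  exact this

theorem MemC.map (h : C →ₐ[R] D) {x y : C} (hm : MemC i pp pm j x y) : MemC i pp pm j (h x) (h y) := by
  have := Mem.comp hm (mor j h)
  simp only [com_comp, mor_gp] at this
  exact this

theorem MemC.of_map (h : C →ₐ[R] D) (hs : Function.Surjective (PrimeSpectrum.comap h.toRingHom)) {x y : C}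
    (hm : MemC i pp pm j (h x) (h y)) : MemC i pp pm j x y := by
  have : Surjective (mor j h).left := ⟨hs⟩
  refine Mem.of_comp (mor j h) ?_
  rw [com_comp, mor_gp, mor_gp]
  exact hm

theorem MemC.of_residueField {x y : C}
    (hm : ∀ q : PrimeSpectrum C, MemC i pp pm j (algebraMap C q.asIdeal.ResidueField x)
      (algebraMap C q.asIdeal.ResidueField y)) : MemC i pp pm j x y := by
  rintro _ ⟨z, rfl⟩
  have h := hm z
  rw [← IsScalarTower.toAlgHom_apply R C (z : PrimeSpectrum C).asIdeal.ResidueField x,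
    ← IsScalarTower.toAlgHom_apply R C (z : PrimeSpectrum C).asIdeal.ResidueField y] at h
  unfold MemC at h
  rw [← mor_gp, ← mor_gp, ← com_comp] at h
  obtain ⟨w, hw⟩ : ∃ w, (mor j (IsScalarTower.toAlgHom R C (z : PrimeSpectrum C).asIdeal.ResidueField)).left w = z := by
    refine ⟨(⊥ : PrimeSpectrum (z : PrimeSpectrum C).asIdeal.ResidueField), ?_⟩
    refine PrimeSpectrum.ext ?_
    show Ideal.comap (algebraMap C (z : PrimeSpectrum C).asIdeal.ResidueField) ⊥ = (z : PrimeSpectrum C).asIdeal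
    exact Ideal.ker_algebraMap_residueField _
  exact h ⟨w, by rw [Over.comp_left, Scheme.Hom.comp_apply, hw]⟩

variable (H : Pair i α pp pm)

include H

theorem DecC.mem {x y Y Z : C} {t : Sp j C ⟶ T} (hd : DecC i pp pm j x y Y t Z) : MemC i pp pm j x y :=
  Dec.mem H hd

theorem MemC.exists_dec {x y : C} (hm : MemC i pp pm j x y) : ∃ Y t Z, DecC i pp pm j x y Y t Z := by
  obtain ⟨Y, t, Z, h⟩ := RankOne.exists_dec H hm
  exact ⟨gv Y, t, gv Z, by rw [DecC, gp_gv, gp_gv]; exact h⟩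

theorem DecC.unique {x y Y Z Y' Z' : C} {t t' : Sp j C ⟶ T} (h : DecC i pp pm j x y Y t Z)
    (h' : DecC i pp pm j x y Y' t' Z') : Y = Y' ∧ t = t' ∧ Z = Z' := by
  obtain ⟨e1, e2, e3⟩ := Dec.unique H h h'
  exact ⟨gp_injective e1, e2, gp_injective e3⟩

omit H in
theorem decC_zero_left (y : C) : DecC i pp pm j 0 y y 1 0 := by
  rw [DecC, gp_zero]
  exact dec_left_one _

omit H in
theorem decC_zero_right (x : C) : DecC i pp pm j x 0 0 1 x := by
  rw [DecC, gp_zero]
  exact dec_right_one _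

theorem DecC.addLeft {x x' y Y Z Y' Z' : C} {t t' : Sp j C ⟶ T} (h : DecC i pp pm j x y Y t Z)
    (h' : DecC i pp pm j x' Y Y' t' Z') :
    ∃ Z₂, DecC i pp pm j (x' + x) y Y' (t' * t) Z₂ ∧ Z₂ * chi α t = Z' + Z * chi α t := by
  obtain ⟨Z₂, h₂, e⟩ := Dec.addLeft H h h'
  refine ⟨gv Z₂, by rw [DecC, gp_gv, gp_add]; exact h₂, ?_⟩
  rw [gmFn_chi, gaFn_gp, gaFn_gp] at e
  have := congrArg (Scheme.ΓSpecIso (CommRingCat.of C)).hom e
  simp only [map_mul, map_add, Iso.inv_hom_id_apply] at this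
  exact this

theorem DecC.mem_addLeft {x x' y Y Z : C} {t : Sp j C ⟶ T} (h : DecC i pp pm j x y Y t Z)
    (h₂ : MemC i pp pm j (x' + x) y) : MemC i pp pm j x' Y := by
  unfold MemC at h₂
  rw [gp_add] at h₂
  exact Dec.mem_addLeft H h h₂

theorem DecC.addRight {x y y' Y Z Y' Z' : C} {t t' : Sp j C ⟶ T} (h : DecC i pp pm j x y Y t Z)
    (h' : DecC i pp pm j Z y' Y' t' Z') :
    ∃ Y₂, DecC i pp pm j x (y + y') Y₂ (t * t') Z' ∧ Y₂ * chi α t = Y * chi α t + Y' := by
  obtain ⟨Y₂, h₂, e⟩ := Dec.addRight H h h'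
  refine ⟨gv Y₂, by rw [DecC, gp_gv, gp_add]; exact h₂, ?_⟩
  rw [gmFn_chi, gaFn_gp, gaFn_gp] at e
  have := congrArg (Scheme.ΓSpecIso (CommRingCat.of C)).hom e
  simp only [map_mul, map_add, Iso.inv_hom_id_apply] at this
  exact this

theorem DecC.mem_addRight {x y y' Y Z : C} {t : Sp j C ⟶ T} (h : DecC i pp pm j x y Y t Z)
    (h₂ : MemC i pp pm j x (y + y')) : MemC i pp pm j Z y' := by
  unfold MemC at h₂
  rw [gp_add] at h₂
  exact Dec.mem_addRight H h h₂

theorem DecC.scale (c : Cˣ) {x y Y Z : C} {t : Sp j C ⟶ T} (h : DecC i pp pm j x y Y t Z) :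
    DecC i pp pm j (c * x) (↑c⁻¹ * y) (↑c⁻¹ * Y) t (c * Z) := by
  obtain ⟨Y₁, Z₁, h₁, eY, eZ⟩ := Dec.scale H (up j c) (x₁ := gp j ((c : C) * x)) (y₁ := gp j (↑c⁻¹ * y)) h
    (by rw [gmFn_up, gaFn_gp, gaFn_gp, map_mul])
    (by rw [gmFn_up, gaFn_gp, gaFn_gp, ← map_mul, _root_.mul_comm (↑c⁻¹ : C), _root_.mul_assoc, Units.inv_mul, _root_.mul_one])
  have eY' : Y₁ = gp j (↑c⁻¹ * Y) := by
    refine GaPts.gaFn_injective ?_
    show Red.gaFn Y₁ = Red.gaFn _
    refine (gmFn_isUnit (α := 𝟙 (Red.Gm S)) (up j c)).mul_right_cancel ?_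
    rw [Category.comp_id, eY, gmFn_up, gaFn_gp, gaFn_gp, ← map_mul, _root_.mul_comm (↑c⁻¹ : C), _root_.mul_assoc, Units.inv_mul,
      _root_.mul_one]
  have eZ' : Z₁ = gp j ((c : C) * Z) := by
    refine GaPts.gaFn_injective ?_
    show Red.gaFn Z₁ = Red.gaFn _
    rw [eZ, gmFn_up, gaFn_gp, gaFn_gp, map_mul]
  rw [DecC, ← eY', ← eZ']
  exact h₁

theorem DecC.toSlice (u : Cˣ) {x Y Z : C} {t : Sp j C ⟶ T} (h : DecC i pp pm j (x * u) 1 Y t Z) :
    DecC i pp pm j x u (u * Y) t (↑u⁻¹ * Z) := by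
  have := h.scale H u⁻¹
  rw [inv_inv, _root_.mul_one, _root_.mul_comm x (u : C), ← _root_.mul_assoc, Units.inv_mul, _root_.one_mul] at this
  exact this

/-- The first coordinate on the slice is invertible. -/
theorem DecC.isUnit {x F Z : C} {t : Sp j C ⟶ T} (h : DecC i pp pm j x 1 F t Z) : IsUnit F := by
  by_contra hF
  obtain ⟨m, hm, hFm⟩ := exists_max_ideal_of_mem_nonunits hF
  let φ : C →ₐ[R] C ⧸ m := Ideal.Quotient.mkₐ R m
  have hd := h.map φ
  rw [map_one] at hd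
  have hF0 : φ F = 0 := Ideal.Quotient.eq_zero_iff_mem.2 hFm
  obtain ⟨Z₂, h₂, -⟩ := hd.addLeft H (x' := -φ x) (Y' := 0) (t' := 1) (Z' := -φ x) (by
    rw [hF0]; exact decC_zero_right _)
  rw [neg_add_cancel] at h₂
  have e := (h₂.unique H (decC_zero_left 1)).1
  have : Nontrivial (C ⧸ m) := Ideal.Quotient.nontrivial_iff.2 hm.ne_top
  exact zero_ne_one e

omit H in
theorem comap_fst_surjective :
    Function.Surjective (PrimeSpectrum.comap (TrivSqZeroExt.fstHom R C C).toRingHom) := by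
  intro p
  refine ⟨PrimeSpectrum.comap (algebraMap C C[ε]) p, PrimeSpectrum.ext (Ideal.ext fun z => ?_)⟩
  show algebraMap C C[ε] (TrivSqZeroExt.fst z) ∈ p.asIdeal ↔ z ∈ p.asIdeal
  have hε : (DualNumber.eps : C[ε]) ∈ p.asIdeal :=
    (p.isPrime.mem_or_mem (x := (DualNumber.eps : C[ε])) (y := DualNumber.eps) (by
      rw [DualNumber.eps_mul_eps]; exact p.asIdeal.zero_mem)).elim id id
  have e : z - algebraMap C C[ε] (TrivSqZeroExt.fst z) = algebraMap C C[ε] (TrivSqZeroExt.snd z) * DualNumber.eps := by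
    refine TrivSqZeroExt.ext ?_ ?_ <;> simp [TrivSqZeroExt.algebraMap_eq_inl]
  have hd : z - algebraMap C C[ε] (TrivSqZeroExt.fst z) ∈ p.asIdeal := e ▸ p.asIdeal.mul_mem_left _ hε
  exact ⟨fun h => by simpa using p.asIdeal.add_mem hd h, fun h => by simpa using p.asIdeal.sub_mem h hd⟩

omit H in
theorem MemC.of_fst {x y : C[ε]} (hm : MemC i pp pm j (fst x) (fst y)) : MemC i pp pm j x y :=
  MemC.of_map (TrivSqZeroExt.fstHom R C C) comap_fst_surjective hm

theorem memC_eps : MemC i pp pm j ((ε : C[ε])) 1 := by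
  refine MemC.of_fst ?_
  simp only [DualNumber.fst_eps, TrivSqZeroExt.fst_one]
  exact (decC_zero_left 1).mem H

/-- The infinitesimal commutation constant. -/
def aEl (j : Spec (CommRingCat.of R) ⟶ S) (C : Type u) [CommRing C] [Algebra R C] : C :=
  -snd ((memC_eps (j := j) (C := C) H).exists_dec H).choose

omit H in
/-- The map of dual numbers rescaling the infinitesimal. -/
def dmap (h : C →ₐ[R] D) (w : D) : C[ε] →ₐ[R] D[ε] :=
  DualNumber.lift ⟨((IsScalarTower.toAlgHom R D D[ε]).comp h, algebraMap D D[ε] w * ε),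
    by rw [_root_.mul_mul_mul_comm, DualNumber.eps_mul_eps, mul_zero], fun _ => Commute.all _ _⟩

omit H in
@[simp] theorem dmap_eps (h : C →ₐ[R] D) (w : D) : dmap h w (ε : C[ε]) = algebraMap D D[ε] w * ε :=
  DualNumber.lift_apply_eps _

omit H in
@[simp] theorem dmap_inl (h : C →ₐ[R] D) (w : D) (c : C) : dmap h w (inl c) = (inl (h c) : D[ε]) :=
  (DualNumber.lift_apply_inl _ _).trans (by simp [TrivSqZeroExt.algebraMap_eq_inl])

omit H in
theorem dmap_apply (h : C →ₐ[R] D) (w : D) (z : C[ε]) :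
    dmap h w z = inl (h (fst z)) + (h (snd z) * w) • (ε : D[ε]) := by
  conv_lhs => rw [show z = inl (fst z) + inl (snd z) * (ε : C[ε]) by
    refine TrivSqZeroExt.ext ?_ ?_ <;> simp]
  rw [map_add, map_mul, dmap_inl, dmap_inl, dmap_eps]
  refine TrivSqZeroExt.ext ?_ ?_ <;> simp [TrivSqZeroExt.algebraMap_eq_inl]

theorem aEl_spec {Y Z : C[ε]} {t : Sp j C[ε] ⟶ T} (h : DecC i pp pm j (ε : C[ε]) 1 Y t Z) :
    Y = 1 - algebraMap C C[ε] (aEl H j C) * ε := by
  obtain ⟨t', Z', h'⟩ := ((memC_eps (j := j) (C := C) H).exists_dec H).choose_spec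
  rw [(h.unique H h').1]
  have h0 := h'.map (TrivSqZeroExt.fstHom R C C)
  simp only [TrivSqZeroExt.fstHom_apply, DualNumber.fst_eps, TrivSqZeroExt.fst_one] at h0
  have e1 := (h0.unique H (decC_zero_left 1)).1
  refine TrivSqZeroExt.ext ?_ ?_
  · simp [e1]
  · simp [aEl, TrivSqZeroExt.algebraMap_eq_inl]

theorem decC_eps (j : Spec (CommRingCat.of R) ⟶ S) (C : Type u) [CommRing C] [Algebra R C] :
    ∃ t Z, DecC i pp pm j (ε : C[ε]) 1 (1 - algebraMap C C[ε] (aEl H j C) * ε) t Z := by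
  have hm := memC_eps (j := j) (C := C) H
  obtain ⟨Y, t, Z, h⟩ := hm.exists_dec H
  exact ⟨t, Z, aEl_spec H h ▸ h⟩

theorem map_aEl (h : C →ₐ[R] D) : h (aEl H j C) = aEl H j D := by
  obtain ⟨t, Z, hd⟩ := decC_eps H j C
  have h2 := hd.map (dmap h 1)
  simp only [dmap_eps, map_one, _root_.one_mul] at h2
  have e := congrArg snd (aEl_spec H h2)
  simpa [dmap_apply, TrivSqZeroExt.algebraMap_eq_inl] using e

theorem decC_eps_smul (w : C) :
    ∃ t Z, DecC i pp pm j (algebraMap C C[ε] w * ε) 1 (1 - algebraMap C C[ε] (aEl H j C * w) * ε) t Z := by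
  obtain ⟨t, Z, hd⟩ := decC_eps H j C
  have h2 := hd.map (dmap (AlgHom.id R C) w)
  simp only [dmap_eps, map_one, map_sub] at h2
  refine ⟨mor j (dmap (AlgHom.id R C) w) ≫ t, dmap (AlgHom.id R C) w Z, ?_⟩
  convert h2 using 1
  refine TrivSqZeroExt.ext ?_ ?_ <;> simp [dmap_apply, TrivSqZeroExt.algebraMap_eq_inl]

/-- The derivative of the first coordinate. -/
theorem DecC.deriv {x F Z : C} {t : Sp j C ⟶ T} (h : DecC i pp pm j x 1 F t Z) :
    ∃ t' Z', DecC i pp pm j (inl x + (ε : C[ε])) 1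
      (inl F - inl (aEl H j C * F * F) * ε) t' Z' := by
  have hd := h.map (IsScalarTower.toAlgHom R C C[ε])
  simp only [IsScalarTower.toAlgHom_apply, TrivSqZeroExt.algebraMap_eq_inl, map_one] at hd
  obtain ⟨uF, huF⟩ := (h.isUnit H).map (algebraMap C C[ε])
  obtain ⟨t₀, Z₀, he⟩ := decC_eps_smul (j := j) H F
  have e1 : (ε : C[ε]) * (uF : C[ε]) = algebraMap C C[ε] F * ε := by rw [huF, _root_.mul_comm]
  rw [← e1] at he
  have he' := he.toSlice H uF
  rw [huF] at he'
  simp only [TrivSqZeroExt.algebraMap_eq_inl] at he'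
  obtain ⟨Z₂, h₂, -⟩ := hd.addLeft H he'
  rw [add_comm] at h₂
  refine ⟨t₀ * (mor j (IsScalarTower.toAlgHom R C C[ε]) ≫ t), Z₂, ?_⟩
  convert h₂ using 1
  refine TrivSqZeroExt.ext ?_ ?_ <;> simp <;> ring

/-- The algebraic equation for the first coordinate. -/
theorem DecC.equation {x F Z : C} {t : Sp j C ⟶ T} (h : DecC i pp pm j x 1 F t Z) :
    aEl H j C * F * (F * (1 + aEl H j C * x) - 1) = 0 := by
  set a := aEl H j C with ha
  obtain ⟨t₁, Z₁, h₁⟩ := h.deriv H
  rw [← ha] at h₁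
  obtain ⟨t₀, Z₀, h₀⟩ := decC_eps H j C
  rw [← ha] at h₀
  let u : (C[ε])ˣ := ⟨1 - inl a * ε, 1 + inl a * ε,
    by linear_combination (-(inl a * inl a) : C[ε]) * DualNumber.eps_mul_eps (R := C),
    by linear_combination (-(inl a * inl a) : C[ε]) * DualNumber.eps_mul_eps (R := C)⟩
  have h₃ := h₁.map (dmap (AlgHom.id R C) (-(a * x)))
  have ex : dmap (AlgHom.id R C) (-(a * x)) (inl x + ε) = inl x * (u : C[ε]) := by
    refine TrivSqZeroExt.ext ?_ ?_ <;> simp [u, dmap_apply] <;> ring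
  have eY : dmap (AlgHom.id R C) (-(a * x)) (inl F - inl (a * F * F) * ε) =
      inl F + inl (a * F * F * (a * x)) * ε := by
    refine TrivSqZeroExt.ext ?_ ?_ <;> simp [dmap_apply]
  rw [ex, eY, map_one] at h₃
  have h₄ := h₃.toSlice H u
  rw [TrivSqZeroExt.algebraMap_eq_inl] at h₀
  obtain ⟨Z₂, h₅, -⟩ := h₀.addLeft H h₄
  have key := congrArg snd (h₅.unique H h₁).1
  simp [u] at key
  linear_combination key

end Groth.L14.RankOne
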