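import Groth.Agent.L14.RankOne.FieldCase

/-!
The infinitesimal constant does not depend on the presentation of the test ring.
-/

set_option autoImplicit false
universe u

open CategoryTheory CategoryTheory.Limits MonoidalCategory CartesianMonoidalCategory MonObj AlgebraicGeometry
open Groth.L25

set_option backward.isDefEq.respectTransparency.types false

noncomputable section

namespace Groth.L14.RankOne

open DualNumber TrivSqZeroExt

variable {S : Scheme.{u}} {G T : Over S} [GrpObj G] [GrpObj T] {i : T ⟶ G} [IsMonHom i] {α : T ⟶ Red.Gm S}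
  [IsMonHom α] {pp pm : Red.Ga S ⟶ G} [IsMonHom pp] [IsMonHom pm] (H : Pair i α pp pm)

include H

/-- The constant is independent of the presentation. -/
theorem aEl_eq_of_structure {R R' : Type u} [CommRing R] [CommRing R'] {j : Spec (CommRingCat.of R) ⟶ S}
    {j' : Spec (CommRingCat.of R') ⟶ S} {C : Type u} [CommRing C] [Algebra R C] [Algebra R' C]
    (h : Spec.map (CommRingCat.ofHom (algebraMap R C)) ≫ j = Spec.map (CommRingCat.ofHom (algebraMap R' C)) ≫ j') :
    aEl H j C = aEl H j' C := by
  let f : Sp j' C[ε] ⟶ Sp j C[ε] := Over.homMk (𝟙 _) (by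
    simp only [Over.mk_hom, Category.id_comp]
    have e₁ : Spec.map (CommRingCat.ofHom (algebraMap R C[ε])) =
        Spec.map (CommRingCat.ofHom (algebraMap C C[ε])) ≫ Spec.map (CommRingCat.ofHom (algebraMap R C)) := by
      rw [← Spec.map_comp, ← CommRingCat.ofHom_comp, ← IsScalarTower.algebraMap_eq]
    have e₂ : Spec.map (CommRingCat.ofHom (algebraMap R' C[ε])) =
        Spec.map (CommRingCat.ofHom (algebraMap C C[ε])) ≫ Spec.map (CommRingCat.ofHom (algebraMap R' C)) := by
      rw [← Spec.map_comp, ← CommRingCat.ofHom_comp, ← IsScalarTower.algebraMap_eq]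
    rw [e₁, e₂, Category.assoc, Category.assoc, h])
  have hgp : ∀ c : C[ε], f ≫ gp j c = gp j' c := fun c => by
    rw [gp, GaPts.ptOfElt_comp]
    rfl
  obtain ⟨t, Z, hd⟩ := decC_eps H j C
  have h2 : DecC i pp pm j' (ε : C[ε]) 1 (1 - algebraMap C C[ε] (aEl H j C) * ε) (f ≫ t) Z := by
    have := Dec.comp f hd
    simp only [hgp] at this
    exact this
  have e := congrArg snd (aEl_spec H h2)
  simpa [TrivSqZeroExt.algebraMap_eq_inl] using e

/-- The constant at a point with values in a ring. -/
def aAt {C : Type u} [CommRing C] (s : Spec (CommRingCat.of C) ⟶ S) : C := aEl H s C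

theorem aEl_eq_aAt {R : Type u} [CommRing R] (j : Spec (CommRingCat.of R) ⟶ S) (C : Type u) [CommRing C]
    [Algebra R C] : aEl H j C = aAt H (Spec.map (CommRingCat.ofHom (algebraMap R C)) ≫ j) :=
  aEl_eq_of_structure H (by
    rw [Algebra.algebraMap_self, CommRingCat.ofHom_id, Spec.map_id, Category.id_comp])

theorem aAt_map {C D : Type u} [CommRing C] [CommRing D] (φ : C →+* D) (s : Spec (CommRingCat.of C) ⟶ S) :
    φ (aAt H s) = aAt H (Spec.map (CommRingCat.ofHom φ) ≫ s) := by
  letI := φ.toAlgebra
  have e := map_aEl (j := s) H (Algebra.ofId C D)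
  rw [Algebra.ofId_apply, aEl_eq_aAt H s D] at e
  exact e

/-- The constant is nowhere zero as soon as it is non-zero at geometric points. -/
theorem aAt_ne_zero (hne : ∀ s : S, aAt H (Red.geomPt s) ≠ 0) {L : Type u} [Field L]
    (g : Spec (CommRingCat.of L) ⟶ S) : aAt H g ≠ 0 := by
  intro h0
  let K : Type u := AlgebraicClosure L
  let s : S := g (IsLocalRing.closedPoint L)
  let φ : S.residueField s →+* L := (Scheme.descResidueField (Scheme.stalkClosedPointTo g)).hom
  have hg : Spec.map (CommRingCat.ofHom φ) ≫ S.fromSpecResidueField s = g :=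
    Scheme.descResidueField_stalkClosedPointTo_fromSpecResidueField L S g
  letI : Algebra (S.residueField s) K := ((algebraMap L K).comp φ).toAlgebra
  let θ : AlgebraicClosure (S.residueField s) →ₐ[S.residueField s] K := IsAlgClosed.lift
  have e : Spec.map (CommRingCat.ofHom θ.toRingHom) ≫ Red.geomPt s =
      Spec.map (CommRingCat.ofHom (algebraMap L K)) ≫ g := by
    rw [← hg, Red.geomPt, ← Spec.map_comp_assoc, ← Spec.map_comp_assoc, ← CommRingCat.ofHom_comp,
      ← CommRingCat.ofHom_comp, AlgHom.toRingHom_eq_coe, AlgHom.comp_algebraMap]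
  have e2 := aAt_map H θ.toRingHom (Red.geomPt s)
  rw [e, ← aAt_map H (algebraMap L K) g, h0, map_zero] at e2
  exact hne s ((map_eq_zero _).1 e2)

/-- The constant is a unit as soon as it is non-zero at geometric points. -/
theorem isUnit_aEl (hne : ∀ s : S, aAt H (Red.geomPt s) ≠ 0) {R : Type u} [CommRing R]
    (j : Spec (CommRingCat.of R) ⟶ S) (C : Type u) [CommRing C] [Algebra R C] : IsUnit (aEl H j C) := by
  by_contra h
  obtain ⟨m, hm, ham⟩ := exists_max_ideal_of_mem_nonunits h
  letI := Ideal.Quotient.field m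
  have e : (Ideal.Quotient.mkₐ R m) (aEl H j C) = aEl H j (C ⧸ m) := map_aEl H _
  rw [show (Ideal.Quotient.mkₐ R m) (aEl H j C) = 0 from Ideal.Quotient.eq_zero_iff_mem.2 ham, aEl_eq_aAt] at e
  exact aAt_ne_zero H hne _ e.symm

end Groth.L14.RankOne
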