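import Groth.Agent.L14.RankOne.Cell

/-!
Homomorphisms from the additive group of a given weight under a torus, in a group with a big cell.
-/

set_option autoImplicit false
universe u

open CategoryTheory CategoryTheory.Limits MonoidalCategory CartesianMonoidalCategory MonObj AlgebraicGeometry
open Groth.L25

set_option backward.isDefEq.respectTransparency.types false

noncomputable section

namespace Groth.L14.RankOne

variable {S : Scheme.{u}}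

theorem gmFn_pow {X : Over S} (t : X ⟶ Red.Gm S) (q : ℕ) : Red.gmFn (t ^ q) = Red.gmFn t ^ q := by
  induction q with
  | zero => rw [pow_zero, pow_zero, GmPts.gmFn_one]
  | succ n ih => rw [pow_succ, pow_succ, GmPts.gmFn_mul, ih]

theorem eq_of_epi_gaFn {X X' : Over S} (f : X' ⟶ X) [Epi f] {a b : Γ(X.left, ⊤)}
    (h : f.left.appTop a = f.left.appTop b) : a = b := by
  have h1 : f ≫ GaPts.ptOfElt a = f ≫ GaPts.ptOfElt b := by rw [GaPts.ptOfElt_comp, GaPts.ptOfElt_comp, h]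
  rw [← GaPts.gaFn_ptOfElt (T := X) a, ← GaPts.gaFn_ptOfElt (T := X) b, (cancel_epi f).1 h1]

variable {G T : Over S} [GrpObj G] [GrpObj T] {i : T ⟶ G} [IsMonHom i] (α : T ⟶ Red.Gm S) [IsMonHom α]
  {pp pm : Red.Ga S ⟶ G} [IsMonHom pp] [IsMonHom pm] [IsOpenImmersion (cell i pp pm).left]

/-- The hypotheses on a homomorphism of weight `q`. -/
structure Weighted (p : Red.Ga S ⟶ G) (q : ℕ) (Q : Over S) (jT : Q ⟶ T) : Prop where
  comm : ∀ {X : Over S} (a b : X ⟶ T), a * b = b * a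
  hpp : ∀ (X : Over S) (t : X ⟶ T) (x : X ⟶ Red.Ga S), ∃ x' : X ⟶ Red.Ga S,
      x' ≫ pp = (t ≫ i) * (x ≫ pp) * (t ≫ i)⁻¹ ∧ Red.gaFn x' = Red.gmFn (t ≫ α) * Red.gaFn x
  hpm : ∀ (X : Over S) (t : X ⟶ T) (y : X ⟶ Red.Ga S), ∃ y' : X ⟶ Red.Ga S,
      y' ≫ pm = (t ≫ i) * (y ≫ pm) * (t ≫ i)⁻¹ ∧ Red.gaFn y' * Red.gmFn (t ≫ α) = Red.gaFn y
  flat : Flat (jT ≫ α).left
  surj : Surjective (jT ≫ α).left
  hp : ∀ (X : Over S) (t : X ⟶ Q) (x x' : X ⟶ Red.Ga S), Red.gaFn x' = Red.gmFn (t ≫ jT ≫ α) * Red.gaFn x →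
      x' ≫ p = ((t ≫ jT ≫ i) ^ q) * (x ≫ p) * ((t ≫ jT ≫ i) ^ q)⁻¹

variable {α} {p : Red.Ga S ⟶ G} {q : ℕ} {Q : Over S} {jT : Q ⟶ T}

/-- Scaling the argument scales the coordinates in the big cell. -/
theorem Weighted.scale (H : Weighted (i := i) α (pp := pp) (pm := pm) p q Q jT) {X : Over S} (c : X ⟶ Red.Gm S)
    {x x' : X ⟶ Red.Ga S} (hx : Red.gaFn x' = Red.gmFn c * Red.gaFn x) (y : X ⟶ Red.Ga S) (t : X ⟶ T)
    (z : X ⟶ Red.Ga S) (hd : x ≫ p = (y ≫ pm) * (t ≫ i) * (z ≫ pp)) :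
    ∃ (y' z' : X ⟶ Red.Ga S), x' ≫ p = (y' ≫ pm) * (t ≫ i) * (z' ≫ pp) ∧
      Red.gaFn y' * Red.gmFn c ^ q = Red.gaFn y ∧ Red.gaFn z' = Red.gmFn c ^ q * Red.gaFn z := by
  have := H.flat
  have := H.surj
  obtain ⟨X', f, r, hf, hfe, hr⟩ := exists_char_lift (jT ≫ α) c
  let b : X' ⟶ T := (r ≫ jT) ^ q
  have hb : b ≫ i = (r ≫ jT ≫ i) ^ q := by rw [MonObj.pow_comp, Category.assoc]
  have hbα : Red.gmFn (b ≫ α) = f.left.appTop (Red.gmFn c) ^ q := by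
    rw [MonObj.pow_comp, gmFn_pow, Category.assoc, hr, GmPts.gmFn_comp]
  obtain ⟨y₁, hy₁, hy₁'⟩ := H.hpm X' b (f ≫ y)
  obtain ⟨z₁, hz₁, hz₁'⟩ := H.hpp X' b (f ≫ z)
  have hx' : Red.gaFn (f ≫ x') = Red.gmFn (r ≫ jT ≫ α) * Red.gaFn (f ≫ x) := by
    rw [GaPts.gaFn_comp, GaPts.gaFn_comp, hx, map_mul, hr, GmPts.gmFn_comp]
  have ht : (b ≫ i) * (f ≫ t ≫ i) * (b ≫ i)⁻¹ = f ≫ t ≫ i := by
    rw [← Category.assoc f t i, ← MonObj.mul_comp, H.comm, MonObj.mul_comp, mul_inv_cancel_right]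
  have e1 : f ≫ x' ≫ p = (y₁ ≫ pm) * ((f ≫ t) ≫ i) * (z₁ ≫ pp) := by
    rw [← Category.assoc, H.hp X' r _ _ hx', Category.assoc f x p, hd, MonObj.comp_mul, MonObj.comp_mul, ← hb,
      hy₁, hz₁, Category.assoc f t i]
    calc (b ≫ i) * ((f ≫ y ≫ pm) * (f ≫ t ≫ i) * (f ≫ z ≫ pp)) * (b ≫ i)⁻¹
        = ((b ≫ i) * (f ≫ y ≫ pm) * (b ≫ i)⁻¹) * ((b ≫ i) * (f ≫ t ≫ i) * (b ≫ i)⁻¹) *
            ((b ≫ i) * (f ≫ z ≫ pp) * (b ≫ i)⁻¹) := by group
      _ = _ := by rw [ht]; simp only [Category.assoc]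
  have hmem : Mem i pp pm (x' ≫ p) := Mem.of_comp f (e1 ▸ mem_mul _ _ _)
  obtain ⟨y', t', z', h'⟩ := hmem.exists_decomp
  have e2 : ((f ≫ y') ≫ pm) * ((f ≫ t') ≫ i) * ((f ≫ z') ≫ pp) = (y₁ ≫ pm) * ((f ≫ t) ≫ i) * (z₁ ≫ pp) := by
    rw [← e1, h', MonObj.comp_mul, MonObj.comp_mul]
    simp only [Category.assoc]
  obtain ⟨ey, et, ez⟩ := decomp_unique e2
  rw [(cancel_epi f).1 et] at h'
  refine ⟨y', z', h', eq_of_epi_gaFn f ?_, eq_of_epi_gaFn f ?_⟩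
  · rw [map_mul, map_pow, ← GaPts.gaFn_comp, ey, ← hbα, hy₁', GaPts.gaFn_comp]
  · rw [map_mul, map_pow, ← GaPts.gaFn_comp, ez, ← hbα, hz₁', GaPts.gaFn_comp]

theorem Weighted.mem [IsMonHom p] (H : Weighted (i := i) α (pp := pp) (pm := pm) p q Q jT) :
    Mem i pp pm p := by
  refine mem_line p (fun X => MonObj.one_comp p) fun K _ R _ j _ c a h => ?_
  obtain ⟨y, t, z, hd⟩ := h.exists_decomp
  obtain ⟨y', z', h', -, -⟩ := H.scale (x := gp j a) (x' := gp j ((c : K) * a)) (up j c) (by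
    rw [gaFn_gp, gaFn_gp, map_mul, gmFn_up]) y t z hd
  exact h' ▸ mem_mul _ _ _

/-- A homomorphism of weight `q` is the `q`-th power of the root homomorphism, rescaled. -/
theorem Weighted.existsUnique [IsMonHom p] [IsSeparated T.hom] (H : Weighted (i := i) α (pp := pp) (pm := pm) p q Q jT) :
    ∃! ν : 𝟙_ (Over S) ⟶ Red.Ga S, ∀ (X : Over S) (x y : X ⟶ Red.Ga S),
      Red.gaFn y = Red.gaFn (toUnit X ≫ ν) * Red.gaFn x ^ q → x ≫ p = y ≫ pp := by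
  obtain ⟨Y, t, Z, hd⟩ := H.mem.exists_decomp
  let e : 𝟙_ (Over S) ⟶ Red.Ga S := GaPts.ptOfElt 1
  have hdec : ∀ {X : Over S} (x : X ⟶ Red.Ga S), x ≫ p = ((x ≫ Y) ≫ pm) * ((x ≫ t) ≫ i) * ((x ≫ Z) ≫ pp) :=
    fun x => by
      conv_lhs => rw [hd]
      simp only [MonObj.comp_mul, Category.assoc]
  have he : ∀ X : Over S, Red.gaFn (toUnit X ≫ e) = 1 := fun X => by
    rw [GaPts.gaFn_comp, GaPts.gaFn_ptOfElt, map_one]
  -- values at the origin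
  have h0 : ∀ X : Over S, ((1 : X ⟶ Red.Ga S) ≫ Y = 1 ∧ (1 : X ⟶ Red.Ga S) ≫ t = 1) ∧
      (1 : X ⟶ Red.Ga S) ≫ Z = 1 := fun X => by
    have h := hdec (1 : X ⟶ Red.Ga S)
    rw [MonObj.one_comp] at h
    obtain ⟨e1, e2, e3⟩ := decomp_unique (y' := 1) (t' := 1) (x' := 1) (h.symm.trans (by simp [MonObj.one_comp]))
    exact ⟨⟨e1, e2⟩, e3⟩
  -- values at units
  have hu : ∀ {X : Over S} (c : X ⟶ Red.Gm S) (x : X ⟶ Red.Ga S), Red.gaFn x = Red.gmFn c →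
      Red.gaFn (x ≫ Y) * Red.gmFn c ^ q = Red.gaFn (toUnit X ≫ e ≫ Y) ∧ x ≫ t = toUnit X ≫ e ≫ t ∧
        Red.gaFn (x ≫ Z) = Red.gmFn c ^ q * Red.gaFn (toUnit X ≫ e ≫ Z) := by
    intro X c x hx
    obtain ⟨y', z', h', hy, hz⟩ := H.scale c (x := toUnit X ≫ e) (x' := x) (by rw [he, _root_.mul_one, hx])
      _ _ _ (hdec (toUnit X ≫ e))
    obtain ⟨e1, e2, e3⟩ := decomp_unique ((hdec x).symm.trans h')
    simp only [← Category.assoc] at *
    rw [e1, e2, e3]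
    exact ⟨hy, rfl, hz⟩
  have hgc : ∀ (R : Type u) [CommRing R] (j : Spec (CommRingCat.of R) ⟶ S) (C : Type u) [CommRing C] [Algebra R C]
      (c : Cˣ), Red.gaFn (gp j (c : C)) = Red.gmFn (up j c) := fun R _ j C _ _ c => by
    rw [gaFn_gp, gmFn_up]
  let ν : 𝟙_ (Over S) ⟶ Red.Ga S := e ≫ Z
  have hid : ∀ {X : Over S} (x : X ⟶ Red.Ga S) (f : Γ((Red.Ga S).left, ⊤)),
      Red.gaFn (x ≫ GaPts.ptOfElt f) = x.left.appTop f := fun x f => by rw [GaPts.gaFn_comp, GaPts.gaFn_ptOfElt]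
  haveI : IsAffine (Red.GaZ.{u}).left :=
    inferInstanceAs (IsAffine (Spec (CommRingCat.of (SymmetricAlgebra (ULift.{u} ℤ) (ULift.{u} ℤ)))))
  haveI : IsAffineHom (Red.GaZ.{u}).hom := isAffineHom_of_isAffine _
  haveI : IsAffineHom (pullback.snd (Red.GaZ.{u}).hom (specULiftZIsTerminal.from S)) :=
    MorphismProperty.pullback_snd _ _ ‹_›
  haveI : IsAffineHom (Red.Ga S).hom := inferInstanceAs (IsAffineHom (pullback.snd _ _))
  haveI : IsSeparated (Red.Ga S).hom := inferInstance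
  -- the y-coordinate is constant after multiplication by the power
  have hy1 : GaPts.ptOfElt (Red.gaFn Y * Red.gaFn (𝟙 (Red.Ga S)) ^ q) = toUnit _ ≫ e ≫ Y := by
    refine line_ext fun R _ j C _ _ c => GaPts.gaFn_injective ?_
    show Red.gaFn _ = Red.gaFn _
    rw [hid, map_mul, map_pow, ← GaPts.gaFn_comp, ← GaPts.gaFn_comp, Category.comp_id, hgc, (hu _ _ (hgc R j C c)).1,
      ← Category.assoc (gp j (c : C)), comp_toUnit]
  have hY1 : e ≫ Y = 1 := by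
    have h := congrArg (fun z => (1 : 𝟙_ (Over S) ⟶ Red.Ga S) ≫ z) hy1
    refine GaPts.gaFn_injective ?_
    show Red.gaFn _ = Red.gaFn _
    have h' := congrArg Red.gaFn h
    simp only [← Category.assoc, comp_toUnit] at h'
    rw [hid, map_mul, map_pow, ← GaPts.gaFn_comp, ← GaPts.gaFn_comp, (h0 _).1.1, GaPts.gaFn_one, zero_mul,
      toUnit_unique (toUnit _) (𝟙 _), Category.id_comp] at h'
    rw [← h', GaPts.gaFn_one]
  have hY : Y = 1 := by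
    refine line_ext fun R _ j C _ _ c => GaPts.gaFn_injective ?_
    show Red.gaFn _ = Red.gaFn _
    have h := (hu _ _ (hgc R j C c)).1
    rw [hY1, MonObj.comp_one, GaPts.gaFn_one, ← GmPts.val_unitOfPt, ← Units.val_pow_eq_pow_val,
      Units.mul_left_eq_zero] at h
    rw [h, MonObj.comp_one, GaPts.gaFn_one]
  have ht : t = 1 := by
    have h : t = toUnit _ ≫ e ≫ t := line_ext fun R _ j C _ _ c => by
      rw [(hu _ _ (hgc R j C c)).2.1, ← Category.assoc (gp j (c : C)), comp_toUnit]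
    have h1 : e ≫ t = 1 := by
      have h' := congrArg (fun z => (1 : 𝟙_ (Over S) ⟶ Red.Ga S) ≫ z) h
      simp only [← Category.assoc, comp_toUnit] at h'
      rw [(h0 _).1.2, toUnit_unique (toUnit _) (𝟙 _), Category.id_comp] at h'
      exact h'.symm
    rw [h, h1, MonObj.comp_one]
  have hZ : Z = GaPts.ptOfElt (Red.gaFn (toUnit (Red.Ga S) ≫ ν) * Red.gaFn (𝟙 (Red.Ga S)) ^ q) := by
    refine line_ext fun R _ j C _ _ c => GaPts.gaFn_injective ?_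
    show Red.gaFn _ = Red.gaFn _
    rw [hid, map_mul, map_pow, ← GaPts.gaFn_comp, ← GaPts.gaFn_comp, Category.comp_id, hgc, (hu _ _ (hgc R j C c)).2.2,
      mul_comm, ← Category.assoc (gp j (c : C)), comp_toUnit]
  have main : ∀ (X : Over S) (x y : X ⟶ Red.Ga S),
      Red.gaFn y = Red.gaFn (toUnit X ≫ ν) * Red.gaFn x ^ q → x ≫ p = y ≫ pp := by
    intro X x y hy
    have : x ≫ Z = y := by
      refine GaPts.gaFn_injective ?_
      show Red.gaFn _ = Red.gaFn _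
      rw [hZ, hid, map_mul, map_pow, ← GaPts.gaFn_comp, ← GaPts.gaFn_comp, Category.comp_id, ← Category.assoc x,
        comp_toUnit, hy]
    rw [hdec x, this, hY, ht]
    simp [MonObj.comp_one, MonObj.one_comp]
  refine ⟨ν, main, fun ν' h' => ?_⟩
  have h1 : e ≫ p = ν ≫ pp := main _ e ν (by
    rw [toUnit_unique (toUnit _) (𝟙 _), Category.id_comp, GaPts.gaFn_ptOfElt, one_pow, _root_.mul_one])
  have h2 : e ≫ p = ν' ≫ pp := h' _ e ν' (by
    rw [toUnit_unique (toUnit _) (𝟙 _), Category.id_comp, GaPts.gaFn_ptOfElt, one_pow, _root_.mul_one])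
  have h3 : ((1 : _ ⟶ Red.Ga S) ≫ pm) * ((1 : _ ⟶ T) ≫ i) * (ν' ≫ pp) =
      ((1 : _ ⟶ Red.Ga S) ≫ pm) * ((1 : _ ⟶ T) ≫ i) * (ν ≫ pp) := by rw [← h1, ← h2]
  exact (decomp_unique h3).2.2

end Groth.L14.RankOne
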